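import Cfsg.Agent.StdEven.Red_m3
import Cfsg.Agent.TitsThree.RankTwoIdx
import Mathlib
import Cfsg.Agent.HexRec.FixedField_m3
import Cfsg.Agent.HexEss.Abel
import Cfsg.Agent.SuzukiRankOne.SLTwoRel
import Cfsg.Agent.FastGrp
import Cfsg.Agent.Prune
set_option linter.all false

section
prune_inst 0x7ffcfefbaef83ddfdfff7e7faf9cdffdf9fd3ffff6dff9cbffe0e1ef8bdf4b02e9e12bad8bea58fc0ea2429410f87b03f9fffeffea6bf87ffffd1df41ffbff8ffdf7b50851d688340fbc0ff603f0778e7f3fffffffffffffffffffffffffffbeffffffffffff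

-- part: StdRank2/HexBN
section
prune_inst 0x101001105c22020000000506300020400c00009200230001f1e107420b4ad160cd40074118303d155202a680480d00600010005000400000042004000000000000ab52029358ad0434009e001084000000000000000000000000000000041000000000000
set_option linter.all false
open scoped Cfsg.Agent.FastGrp

/-!
# Weyl group and Bruhat decomposition of a hexagonal root system in characteristic two
-/

set_option autoImplicit false

namespace Cfsg.Agent.StdRank2.Hex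

open Cfsg.Agent.SplitTwo
open scoped commutatorElement Pointwise

theorem root_induction {P : ZMod 12 → Prop} (h1 : P 1) (h6 : P 6) (s8 : ∀ l, P l → P (8 - l))
    (s6 : ∀ l, P l → P (6 - l)) (k : ZMod 12) : P k := by
  have p5 : P 5 := s6 1 h1
  have p3 : P 3 := s8 5 p5
  have p7 : P 7 := s8 1 h1
  have p11 : P 11 := s6 7 p7
  have p9 : P 9 := s8 11 p11
  have p0 : P 0 := s6 6 h6
  have p2 : P 2 := s8 6 h6
  have p4 : P 4 := s6 2 p2
  have p8 : P 8 := s8 0 p0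
  have p10 : P 10 := s6 8 p8
  have hk : k = 0 ∨ k = 1 ∨ k = 2 ∨ k = 3 ∨ k = 4 ∨ k = 5 ∨ k = 6 ∨ k = 7 ∨ k = 8 ∨ k = 9 ∨ k = 10 ∨ k = 11 := by
    revert k; decide
  rcases hk with rfl | rfl | rfl | rfl | rfl | rfl | rfl | rfl | rfl | rfl | rfl | rfl <;> assumption

namespace HexTwo

variable {E : Type*} [Field E] {σ : E ≃+* E} {Γ : Type*} [Group Γ] {x : ZMod 12 → E → Γ} (h : HexTwo σ x)

include h

theorem hh_mem_H [Finite E] (k : ZMod 12) : ∀ {t : E}, t ≠ 0 → Ok σ k t → hh x k t ∈ h.H := by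
  have key : ∀ k : ZMod 12, ∀ t : E, t ≠ 0 → Ok σ k t → hh x k t ∈ h.H := by
    refine root_induction ?_ ?_ ?_ ?_
    · intro t ht _
      exact h.hh1_mem_H ht
    · intro t ht ht'
      exact h.hh6_mem_H ht (ht' (by decide))
    · intro l hl t ht ht'
      have hok : Ok σ l t := ht'.congr (val_8_sub l).symm
      have e := h.nn_conj_hh 1 l ht hok
      rw [show (2 : ZMod 12) * 1 + 6 - l = 8 - l by ring] at e
      rw [e]
      exact mul_mem (h.hh1_mem_H (inv_ne_zero (ch_ne_zero _ _ ht))) (hl t ht hok)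
    · intro l hl t ht ht'
      have hok : Ok σ l t := ht'.congr (val_6_sub l).symm
      have e := h.nn_conj_hh 6 l ht hok
      rw [show (2 : ZMod 12) * 6 + 6 - l = 6 - l + 12 by ring, twelve_eq, add_zero] at e
      rw [e]
      have h6 : σ (ch σ l (6 - l) t) = ch σ l (6 - l) t := h.ok_chi l 6 hok (by decide)
      exact mul_mem (h.hh6_mem_H (inv_ne_zero (ch_ne_zero _ _ ht)) (by rw [map_inv₀, h6])) (hl t ht hok)
  intro t ht hok
  exact key k t ht hok

theorem nn_conj_H [Finite E] (c : ZMod 12) {g : Γ} (hg : g ∈ h.H) : nn x c * g * (nn x c)⁻¹ ∈ h.H := by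
  obtain ⟨s, t, hs, ht, ht', rfl⟩ := hg
  have e : nn x c * (hh x 1 s * hh x 6 t) * (nn x c)⁻¹ =
      (nn x c * hh x 1 s * (nn x c)⁻¹) * (nn x c * hh x 6 t * (nn x c)⁻¹) := by group
  rw [e, h.conj_nn_hh c 1 (ok1 s), h.conj_nn_hh c 6 (ok_of_fix _ ht')]
  exact mul_mem (h.hh_mem_H _ hs ((ok1 s).congr (val_refl c 1))) (h.hh_mem_H _ ht ((ok_of_fix _ ht')))

/-- torus elements act by scalars on all root groups -/
theorem H_diag [Finite E] {g : Γ} (hg : g ∈ h.H) (j : ZMod 12) :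
    ∃ c : E, c ≠ 0 ∧ Ok σ j c ∧ ∀ a, Ok σ j a → g * x j a * g⁻¹ = x j (c * a) := by
  obtain ⟨s, t, hs, ht, ht', rfl⟩ := hg
  refine ⟨ch σ 1 (j - 1) s * ch σ 6 (j - 6) t, mul_ne_zero (ch_ne_zero _ _ hs) (ch_ne_zero _ _ ht),
    (h.ok_chi 1 j (ok1 s)).mul (h.ok_chi 6 j (ok_of_fix _ ht')), fun a ha => h.H_act hs ht ht' ha⟩

theorem H_conj_gen [Finite E] {g : Γ} (hg : g ∈ h.H) (S : Set (ZMod 12)) {y : Γ} (hy : y ∈ gen σ x S) :
    g * y * g⁻¹ ∈ gen σ x S := by
  refine conj_gen (fun l hl a ha => ?_) hy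
  obtain ⟨c, _, hc, e⟩ := h.H_diag hg l
  rw [e a ha]
  exact x_mem_gen hl (hc.mul ha)

theorem H_comm [Finite E] {g g' : Γ} (hg : g ∈ h.H) (hg' : g' ∈ h.H) : Commute g g' := by
  obtain ⟨s, t, hs, ht, ht', rfl⟩ := hg
  obtain ⟨s', t', hs', ht0, ht0', rfl⟩ := hg'
  have c1 := h.hh_commute 1 1 hs hs' (ok1 s) (ok1 s')
  have c2 := h.hh_commute 1 6 hs ht0 (ok1 s) (ok_of_fix _ ht0')
  have c3 := h.hh_commute 6 1 ht hs' (ok_of_fix _ ht') (ok1 s')
  have c4 := h.hh_commute 6 6 ht ht0 (ok_of_fix _ ht') (ok_of_fix _ ht0')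
  exact (c1.mul_right c2).mul_left (c3.mul_right c4)

/-- a torus element acting trivially on `X 4` and `X 1` is trivial -/
theorem H_eq_one [Finite E] {s t : E} (hs : s ≠ 0) (ht : t ≠ 0) (ht' : σ t = t)
    (h4 : hh x 1 s * hh x 6 t * x 4 1 * (hh x 1 s * hh x 6 t)⁻¹ = x 4 1)
    (h1 : hh x 1 s * hh x 6 t * x 1 1 * (hh x 1 s * hh x 6 t)⁻¹ = x 1 1) : s = 1 ∧ t = 1 := by
  have o4 : Ok σ (4 : ZMod 12) (ch σ 1 (4 - 1) s * ch σ 6 (4 - 6) t * 1) :=
    ((h.ok_chi 1 4 (ok1 s)).mul (h.ok_chi 6 4 (ok_of_fix _ ht'))).mul (ok_one σ 4)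
  rw [h.H_act hs ht ht' (ok_one σ 4), h.x_inj o4 (ok_one σ 4), mul_one] at h4
  have e4 : ch σ 1 (4 - 1) s * ch σ 6 (4 - 6) t = t := by
    change (1 : E) * t = t
    rw [one_mul]
  rw [e4] at h4
  subst h4
  rw [h.H_act hs ht ht' (ok_one σ 1), h.x_inj (ok1 _) (ok_one σ 1), mul_one, ch_one, mul_one] at h1
  have e1 : ch σ 1 (1 - 1) s = s ^ 2 := rfl
  rw [e1, pow_two] at h1
  exact ⟨h.sq_eq_one h1, rfl⟩

/-! ### The Weyl group -/

/-- the rotation -/
def rho (x : ZMod 12 → E → Γ) : Γ := nn x 1 * nn x 6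

theorem nn_mul_nn (c : ZMod 12) : nn x (c + 1) * nn x c = rho x := by
  have step : ∀ c : ZMod 12, nn x (c + 1) * nn x c = nn x (c + 1 + 1) * nn x (c + 1) := by
    intro c
    have e1 := h.conj_nn_nn (c + 1) c
    rw [h.nn_inv, show 2 * (c + 1) + 6 - c = c + 1 + 1 + 6 by ring, h.nn_opp] at e1
    rw [← e1, mul_assoc _ (nn x (c + 1)) (nn x (c + 1)), h.nn_sq, mul_one]
  have key : ∀ m : ℕ, nn x ((m : ZMod 12) + 1) * nn x (m : ZMod 12) = rho x := by
    intro m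
    induction m with
    | zero =>
      rw [Nat.cast_zero, zero_add]
      have := h.nn_opp 0
      rw [zero_add] at this
      rw [rho, this]
    | succ m ih =>
      rw [Nat.cast_succ, ← step, ih]
  have := key c.val
  rwa [ZMod.natCast_zmod_val] at this

theorem rho_mul_nn (c : ZMod 12) : rho x * nn x c = nn x (c + 1) := by
  rw [← h.nn_mul_nn c, mul_assoc, h.nn_sq, mul_one]

theorem nn_mul_rho (c : ZMod 12) : nn x (c + 1) * rho x = nn x c := by
  rw [← h.nn_mul_nn c, ← mul_assoc, h.nn_sq, one_mul]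

theorem rho_pow_mul_nn (m : ℕ) (c : ZMod 12) : rho x ^ m * nn x c = nn x (c + m) := by
  induction m generalizing c with
  | zero => simp
  | succ m ih =>
    rw [pow_succ, mul_assoc, h.rho_mul_nn, ih]
    congr 1
    push_cast
    ring

theorem rho_pow_six : rho x ^ 6 = 1 := by
  have e := h.rho_pow_mul_nn 6 0
  have e2 := h.nn_opp 0
  rw [show ((6 : ℕ) : ZMod 12) = 6 from rfl, e2] at e
  exact mul_eq_right.1 e

/-- The Weyl group. -/
def IsW (x : ZMod 12 → E → Γ) (w : Γ) : Prop := (∃ m : ℕ, w = rho x ^ m) ∨ ∃ c : ZMod 12, w = nn x c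

omit h in
theorem isW_one : IsW x (1 : Γ) := Or.inl ⟨0, (pow_zero _).symm⟩

omit h in
theorem isW_nn (c : ZMod 12) : IsW x (nn x c) := Or.inr ⟨c, rfl⟩

theorem isW_nn_mul (c : ZMod 12) {w : Γ} (hw : IsW x w) : IsW x (nn x c * w) := by
  rcases hw with ⟨m, rfl⟩ | ⟨d, rfl⟩
  · right
    induction m with
    | zero => exact ⟨c, by rw [pow_zero, mul_one]⟩
    | succ m ih =>
      obtain ⟨d, e⟩ := ih
      refine ⟨d - 1, ?_⟩
      rw [pow_succ, ← mul_assoc, e]
      have := h.nn_mul_rho (d - 1)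
      rwa [sub_add_cancel] at this
  · left
    -- `nn c * nn d = rho ^ (c - d)`
    have e : rho x ^ (c - d).val * nn x d = nn x c := by
      rw [h.rho_pow_mul_nn, ZMod.natCast_zmod_val]
      congr 1
      ring
    exact ⟨(c - d).val, by rw [← e, mul_assoc, h.nn_sq, mul_one]⟩

theorem isW_inv {w : Γ} (hw : IsW x w) : IsW x w⁻¹ := by
  rcases hw with ⟨m, rfl⟩ | ⟨c, rfl⟩
  · left
    refine ⟨5 * m, ?_⟩
    refine inv_eq_of_mul_eq_one_left ?_
    rw [← pow_add, show 5 * m + m = 6 * m by ring, pow_mul, h.rho_pow_six, one_pow]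
  · rw [h.nn_inv]
    exact isW_nn c

/-- action of an element of the Weyl group on the root elements -/
theorem isW_act {w : Γ} (hw : IsW x w) : ∃ e c : ZMod 12, (e = 1 ∨ e = -1) ∧ c.val % 2 = 0 ∧
    ∀ j a, Ok σ j a → w * x j a * w⁻¹ = x (e * j + c) a := by
  rcases hw with ⟨m, rfl⟩ | ⟨c, rfl⟩
  · refine ⟨1, 2 * m, Or.inl rfl, ?_, fun j a ha => ?_⟩
    · have : ∀ m : ZMod 12, (2 * m).val % 2 = 0 := by decide
      exact this m
    · rw [one_mul]
      exact h.rot_pow m j ha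
  · refine ⟨-1, 2 * c + 6, Or.inr rfl, ?_, fun j a ha => ?_⟩
    · have : ∀ m : ZMod 12, (2 * m + 6).val % 2 = 0 := by decide
      exact this c
    · rw [h.refl c j ha]
      congr 1
      ring

theorem isW_conj_H [Finite E] {w g : Γ} (hw : IsW x w) (hg : g ∈ h.H) : w * g * w⁻¹ ∈ h.H := by
  rcases hw with ⟨m, rfl⟩ | ⟨c, rfl⟩
  · induction m with
    | zero => simpa using hg
    | succ m ih =>
      have e : rho x ^ (m + 1) * g * (rho x ^ (m + 1))⁻¹ =
          nn x 1 * (nn x 6 * (rho x ^ m * g * (rho x ^ m)⁻¹) * (nn x 6)⁻¹) * (nn x 1)⁻¹ := by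
        rw [pow_succ']
        generalize rho x ^ m = r
        rw [rho]; group
      rw [e]
      exact h.nn_conj_H 1 (h.nn_conj_H 6 ih)
  · exact h.nn_conj_H c hg

/-! ### Bruhat decomposition -/

open Cfsg.Agent.TitsThree.RankTwoRGD Cfsg.Agent.TitsThree.RankTwoIdx

omit h in
theorem conj_singleton {g : Γ} {k l : ZMod 12} (hg : ∀ a, Ok σ k a → g * x k a * g⁻¹ ∈ gen σ x {l}) {y : Γ}
    (hy : y ∈ gen σ x {k}) : g * y * g⁻¹ ∈ gen σ x {l} := by
  refine conj_gen (fun j hj a ha => ?_) hy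
  rw [Set.mem_singleton_iff] at hj
  subst hj
  exact hg a ha

theorem nn_singleton (c : ZMod 12) {k l : ZMod 12} (hkl : 2 * c + 6 - k = l) {y : Γ} (hy : y ∈ gen σ x {k}) :
    nn x c * y * (nn x c)⁻¹ ∈ gen σ x {l} := by
  refine conj_singleton (fun a ha => ?_) hy
  rw [h.refl c k ha, hkl]
  exact x_mem_gen (Set.mem_singleton l) (ha.congr (by rw [← hkl]; exact val_refl c k))

omit h in
theorem nn_mem_sup (c : ZMod 12) : nn x c ∈ gen σ x {c} ⊔ gen σ x {c + 6} := by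
  have l1 : gen σ x {c} ≤ gen σ x {c} ⊔ gen σ x {c + 6} := le_sup_left
  have l2 : gen σ x {c + 6} ≤ gen σ x {c} ⊔ gen σ x {c + 6} := le_sup_right
  have m1 : x c 1 ∈ gen σ x {c} := x_mem_gen (Set.mem_singleton c) (ok_one σ c)
  have m2 : x (c + 6) 1 ∈ gen σ x {c + 6} := x_mem_gen (Set.mem_singleton _) (ok_one σ _)
  exact mul_mem (mul_mem (l1 m1) (l2 m2)) (l1 m1)

theorem rank_one_eq (c : ZMod 12) {t : E} (hok : Ok σ c t) :
    x (c + 6) t = x c t⁻¹ * (hh x c t⁻¹ * nn x c) * x c t⁻¹ := by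
  rw [h.hh_mul_nn, nt, inv_inv]
  have := h.x_sq hok.inv
  calc x (c + 6) t = 1 * x (c + 6) t * 1 := by group
    _ = _ := by rw [← this]; group

theorem rank_one [Finite E] (c : ZMod 12) {g : Γ} (hg : g ∈ gen σ x {c + 6}) (h1 : g ≠ 1) :
    ∃ y ∈ gen σ x {c}, ∃ t ∈ h.H, ∃ z ∈ gen σ x {c}, g = y * nn x c * t * z := by
  obtain ⟨t, ht, rfl⟩ := h.mem_gen_singleton.1 hg
  have ht' : Ok σ c t := ht.congr (val_add_6 c).symm
  have ht0 : t ≠ 0 := fun e => h1 (by rw [e, h.x_zero])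
  have m1 : x c t⁻¹ ∈ gen σ x {c} := x_mem_gen (Set.mem_singleton c) ht'.inv
  refine ⟨x c t⁻¹, m1, nn x c * hh x c t⁻¹ * (nn x c)⁻¹, h.nn_conj_H c (h.hh_mem_H c (inv_ne_zero ht0) ht'.inv),
    x c t⁻¹, m1, ?_⟩
  rw [h.rank_one_eq c ht']
  have := h.nn_sq c
  calc x c t⁻¹ * (hh x c t⁻¹ * nn x c) * x c t⁻¹ = x c t⁻¹ * (1 * hh x c t⁻¹ * nn x c) * x c t⁻¹ := by group
    _ = x c t⁻¹ * (nn x c * nn x c * hh x c t⁻¹ * (nn x c)⁻¹) * x c t⁻¹ := by rw [this, h.nn_inv]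
    _ = _ := by group

/-- The root datum. -/
noncomputable def r2 [Finite E] : R2 6 Γ where
  X k := gen σ x {(k : ZMod 12)}
  XI' := gen σ x {7}
  XJ' := gen σ x {0}
  H := h.H
  nI := nn x 1
  nJ := nn x 6
  one_le := by norm_num
  comm := by
    intro k l hk hkl hl y hy z hz
    obtain ⟨a, ha, rfl⟩ := h.mem_gen_singleton.1 hy
    obtain ⟨b, hb, rfl⟩ := h.mem_gen_singleton.1 hz
    obtain ⟨d, rfl⟩ := Nat.exists_eq_add_of_lt hkl
    have e : ((k + d + 1 : ℕ) : ZMod 12) = (k : ZMod 12) + ((d + 1 : ℕ) : ZMod 12) := by push_cast; ring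
    rw [e] at hb ⊢
    have h1 := h.comm_mem (k : ZMod 12) (d + 1) (by omega) (by omega) ha hb
    refine (gen_le ?_ : gen σ x (arc ((k : ZMod 12) + 1) (d + 1 - 1)) ≤ _) h1
    intro j hj c hc
    rw [mem_arc] at hj
    have hj2 : j = ((k + 1 + (j - ((k : ZMod 12) + 1)).val : ℕ) : ZMod 12) := by
      push_cast
      rw [ZMod.natCast_zmod_val]
      ring
    refine Subgroup.mem_iSup_of_mem (k + 1 + (j - ((k : ZMod 12) + 1)).val) (Subgroup.mem_iSup_of_mem ?_ ?_)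
    · rw [Set.mem_Ioo]
      omega
    · rw [← hj2]
      exact x_mem_gen (Set.mem_singleton j) hc
  HX := fun g hg k _ _ y hy => h.H_conj_gen hg _ hy
  nI_X := fun k h1 h2 y hy => h.nn_singleton 1 (by
    rw [Nat.cast_sub (by omega)]; push_cast; ring) hy
  nJ_X := fun k h1 h2 y hy => h.nn_singleton 6 (by
    rw [Nat.cast_sub (by omega)]
    push_cast
    rw [show (2 : ZMod 12) * 6 + 6 - k = 6 - k + 12 by ring, twelve_eq, add_zero]) hy
  nI_pos := fun y hy => h.nn_singleton 1 (by push_cast; ring) hy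
  nI_neg := fun y hy => h.nn_singleton 1 (by push_cast; ring) hy
  nJ_pos := fun y hy => h.nn_singleton 6 (by
    push_cast
    rw [show (2 : ZMod 12) * 6 + 6 - 6 = 12 by ring, twelve_eq]) hy
  nJ_neg := fun y hy => h.nn_singleton 6 (by
    push_cast
    rw [show (2 : ZMod 12) * 6 + 6 - 0 = 6 + 12 by ring, twelve_eq, add_zero]) hy
  nI_sq := by rw [h.nn_sq]; exact one_mem _
  nJ_sq := by rw [h.nn_sq]; exact one_mem _
  nI_H := fun g hg => h.nn_conj_H 1 hg
  nJ_H := fun g hg => h.nn_conj_H 6 hg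
  rank_oneI := fun g hg h1 => by
    have e : (7 : ZMod 12) = 1 + 6 := by ring
    rw [e] at hg
    simpa using h.rank_one 1 hg h1
  rank_oneJ := fun g hg h1 => by
    have e : (0 : ZMod 12) = 6 + 6 := rfl
    rw [e] at hg
    simpa using h.rank_one 6 hg h1
  memI := by
    have := nn_mem_sup (σ := σ) (x := x) 1
    rw [show (1 : ZMod 12) + 6 = 7 by ring] at this
    simpa using this
  memJ := by
    have := nn_mem_sup (σ := σ) (x := x) 6
    rw [show (6 : ZMod 12) + 6 = 0 from rfl] at this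
    simpa using this
  braid := by
    refine ⟨1, one_mem _, ?_⟩
    have e1 : alt (nn x 1) (nn x 6) 6 = rho x ^ 3 := by
      simp only [alt, mul_one, rho]
      rw [pow_succ, pow_two]
      group
    have e2 : alt (nn x 6) (nn x 1) 6 = (rho x ^ 3)⁻¹ := by
      rw [← inv_pow, rho, mul_inv_rev, h.nn_inv, h.nn_inv, pow_succ, pow_two]
      simp only [alt, mul_one]
      group
    rw [e1, e2, mul_one, eq_inv_iff_mul_eq_one, ← pow_add, h.rho_pow_six]

/-- The group. -/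
def AA (σ : E ≃+* E) (x : ZMod 12 → E → Γ) : Subgroup Γ := gen σ x Set.univ

/-- The positive unipotent subgroup. -/
def UU (σ : E ≃+* E) (x : ZMod 12 → E → Γ) : Subgroup Γ := gen σ x (arc 1 6)

omit h in
theorem x_mem_AA {k : ZMod 12} {a : E} (ha : Ok σ k a) : x k a ∈ AA σ x := x_mem_gen (Set.mem_univ k) ha

omit h in
theorem gen_le_AA (S : Set (ZMod 12)) : gen σ x S ≤ AA σ x := gen_mono (Set.subset_univ S)

omit h in
theorem nn_mem_AA (k : ZMod 12) : nn x k ∈ AA σ x :=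
  mul_mem (mul_mem (x_mem_AA (ok_one σ k)) (x_mem_AA (ok_one σ _))) (x_mem_AA (ok_one σ k))

omit h in
theorem hh_mem_AA (k : ZMod 12) {t : E} (ht : Ok σ k t) : hh x k t ∈ AA σ x :=
  mul_mem (mul_mem (mul_mem (x_mem_AA ht) (x_mem_AA (ht.inv.congr (val_add_6 k)))) (x_mem_AA ht)) (nn_mem_AA k)

theorem H_le_AA [Finite E] : h.H ≤ AA σ x := by
  rintro _ ⟨s, t, _, _, ht', rfl⟩
  exact mul_mem (hh_mem_AA 1 (ok1 s)) (hh_mem_AA 6 (ok_of_fix _ ht'))

theorem r2_U [Finite E] : h.r2.U = UU σ x := by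
  refine le_antisymm (iSup₂_le fun k hk => gen_mono ?_) (gen_le fun k hk a ha => ?_)
  · intro l hl
    rw [Set.mem_singleton_iff] at hl
    subst hl
    obtain ⟨h1, h2⟩ := hk
    interval_cases k <;> (rw [mem_arc]; decide)
  · have : (k.val : ZMod 12) = k := ZMod.natCast_zmod_val k
    have hk' : 1 ≤ k.val ∧ k.val ≤ 6 := by
      have : ∀ k : ZMod 12, (k - 1).val < 6 → 1 ≤ k.val ∧ k.val ≤ 6 := by decide
      exact this k hk
    refine Subgroup.mem_iSup_of_mem k.val (Subgroup.mem_iSup_of_mem hk' ?_)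
    change x k a ∈ gen σ x {((k.val : ℕ) : ZMod 12)}
    rw [this]
    exact x_mem_gen (Set.mem_singleton k) ha

theorem AA_le [Finite E] : AA σ x ≤ h.r2.U ⊔ h.r2.H ⊔ (h.r2.XI' ⊔ h.r2.XJ') := by
  set S := h.r2.U ⊔ h.r2.H ⊔ (h.r2.XI' ⊔ h.r2.XJ') with hS
  have hU : UU σ x ≤ S := by
    rw [← h.r2_U]
    exact le_trans le_sup_left le_sup_left
  have h7 : gen σ x {7} ≤ S := le_trans (le_sup_left : h.r2.XI' ≤ h.r2.XI' ⊔ h.r2.XJ') le_sup_right
  have h0 : gen σ x {0} ≤ S := le_trans (le_sup_right : h.r2.XJ' ≤ h.r2.XI' ⊔ h.r2.XJ') le_sup_right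
  have m1 : ∀ a, Ok σ (1 : ZMod 12) a → x 1 a ∈ S := fun a ha => hU (x_mem_gen (by rw [mem_arc]; decide) ha)
  have m6 : ∀ a, Ok σ (6 : ZMod 12) a → x 6 a ∈ S := fun a ha => hU (x_mem_gen (by rw [mem_arc]; decide) ha)
  have n1 : nn x 1 ∈ S := by
    refine mul_mem (mul_mem (m1 1 (ok_one σ 1)) (h7 ?_)) (m1 1 (ok_one σ 1))
    exact x_mem_gen (by rw [show (1 : ZMod 12) + 6 = 7 by ring]; exact Set.mem_singleton _) (ok_one σ _)
  have n6 : nn x 6 ∈ S := by
    refine mul_mem (mul_mem (m6 1 (ok_one σ 6)) (h0 ?_)) (m6 1 (ok_one σ 6))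
    exact x_mem_gen (by rw [show (6 : ZMod 12) + 6 = 0 from rfl]; exact Set.mem_singleton _) (ok_one σ _)
  refine gen_le fun k _ => ?_
  refine root_induction (P := fun k => ∀ a, Ok σ k a → x k a ∈ S) m1 m6 ?_ ?_ k
  · intro l hl a ha
    have ha' : Ok σ l a := ha.congr (val_8_sub l).symm
    rw [← h.refl1 l a ha']
    exact mul_mem (mul_mem n1 (hl a ha')) (inv_mem n1)
  · intro l hl a ha
    have ha' : Ok σ l a := ha.congr (val_6_sub l).symm
    rw [← h.refl6 l a ha']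
    exact mul_mem (mul_mem n6 (hl a ha')) (inv_mem n6)

/-- `H` normalises `gen σ x S` -/
theorem H_conj_gen' [Finite E] {g : Γ} (hg : g ∈ h.H) (S : Set (ZMod 12)) {y : Γ} (hy : y ∈ gen σ x S) :
    g⁻¹ * y * g ∈ gen σ x S := by
  have := h.H_conj_gen (inv_mem hg) S hy
  rwa [inv_inv] at this

theorem mem_gen_sup_H [Finite E] {S : Set (ZMod 12)} {g : Γ} :
    g ∈ gen σ x S ⊔ h.H ↔ ∃ u ∈ gen σ x S, ∃ t ∈ h.H, g = u * t := by
  have hn : h.H ≤ Subgroup.normalizer (gen σ x S : Set Γ) := by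
    intro t ht
    rw [Subgroup.mem_normalizer_iff]
    intro u
    refine ⟨fun hu => h.H_conj_gen ht S hu, fun hu => ?_⟩
    have := h.H_conj_gen' ht S hu
    have e : t⁻¹ * (t * u * t⁻¹) * t = u := by group
    rwa [e] at this
  have h2 : (↑(gen σ x S ⊔ h.H) : Set Γ) = (gen σ x S : Set Γ) * (h.H : Set Γ) :=
    Subgroup.coe_mul_of_right_le_normalizer_left _ _ hn
  have h3 : g ∈ gen σ x S ⊔ h.H ↔ g ∈ (gen σ x S : Set Γ) * (h.H : Set Γ) := by
    rw [← h2]; rfl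
  rw [h3, Set.mem_mul]
  constructor
  · rintro ⟨u, hu, t, ht, e⟩
    exact ⟨u, hu, t, ht, e.symm⟩
  · rintro ⟨u, hu, t, ht, e⟩
    exact ⟨u, hu, t, ht, e.symm⟩

theorem isW_alt (k : ℕ) : IsW x (alt (nn x 1) (nn x 6) k) ∧ IsW x (alt (nn x 6) (nn x 1) k) := by
  induction k with
  | zero => exact ⟨isW_one, isW_one⟩
  | succ k ih => exact ⟨h.isW_nn_mul 1 ih.2, h.isW_nn_mul 6 ih.1⟩

/-- **Bruhat decomposition.** -/
theorem bruhat [Finite E] {g : Γ} (hg : g ∈ AA σ x) :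
    ∃ u ∈ UU σ x, ∃ t ∈ h.H, ∃ w, IsW x w ∧ ∃ u' ∈ UU σ x, g = u * t * w * u' := by
  obtain ⟨b, hb, k, -, b', hb', e⟩ := h.r2.bruhat (h.AA_le hg)
  have e3 : h.r2.U ⊔ h.r2.H = UU σ x ⊔ h.H := by rw [h.r2_U]; rfl
  rw [e3] at hb hb'
  obtain ⟨u, hu, t, ht, rfl⟩ := h.mem_gen_sup_H.1 hb
  obtain ⟨u', hu', t', ht', rfl⟩ := h.mem_gen_sup_H.1 hb'
  have key : ∀ w, IsW x w → g = u * t * w * (u' * t') →
      ∃ u ∈ UU σ x, ∃ t ∈ h.H, ∃ w, IsW x w ∧ ∃ u' ∈ UU σ x, g = u * t * w * u' := by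
    intro w hw e
    refine ⟨u, hu, t * (w * t' * w⁻¹), mul_mem ht (h.isW_conj_H hw ht'), w, hw, t'⁻¹ * u' * t',
      h.H_conj_gen' ht' _ hu', ?_⟩
    rw [e]
    group
  rcases e with e | e
  · exact key _ (h.isW_alt k).1 e
  · exact key _ (h.isW_alt k).2 e

end HexTwo

end Cfsg.Agent.StdRank2.Hex

private theorem dce_6d85c6e53d34 : _root_.True := by
  try have : _root_.True := by simp only [_root_.Cfsg.Agent.StdRank2.Hex.nt.eq_1]
  try have : _root_.True := by simp only [_root_.Cfsg.Agent.StdRank2.Hex.HexTwo.H.congr_simp]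
  try have : _root_.True := by simp only [_root_.Cfsg.Agent.StdRank2.Hex.HexTwo.rho.eq_1]
  exact _root_.True.intro
end

-- part: TriTwo/PFacts
section
prune_inst 0x101005104c00000000000506300020402c00009200230001e0e107420208c140cd000740182035155202aa00200d006000100050404000000e2004000005000000a812029048a000020096008084000000000000000000000000000000000000000000000
set_option linter.all false
open scoped Cfsg.Agent.FastGrp

/-!
# S1778, type `³D₄(2)`, piece [A]: the facts inside `P₁`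

`pfacts : HexTwo σ x → Nat.card E = 8 → (∀ a, σ a = a → a = 0 ∨ a = 1) → PFacts σ x`.
-/

set_option autoImplicit false
set_option linter.style.haveILetI false
set_option linter.unusedSectionVars false

namespace Cfsg.Agent.TriTwo

namespace PF

open Cfsg.Agent.StdRank2.Hex Cfsg.Agent.SplitTwo
open Cfsg.Agent.StdRank2.Hex.HexTwo (ok1 ok3 ok5)
open Cfsg.Agent.TriTwo
open scoped commutatorElement

variable {E : Type*} [Field E] {σ : E ≃+* E} {G : Type*} [Group G] {x : ZMod 12 → E → G} (h : HexTwo σ x)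

include h

theorem trc_one_right {t : E} (ht : σ t = t) : trc σ t 1 = t := by
  unfold trc
  rw [mul_one, ht, ht, h.add_self, zero_add]

theorem trc_inv {a : E} (ha : a ≠ 0) : trc σ a a⁻¹ = 1 := by
  unfold trc
  rw [mul_inv_cancel₀ ha, map_one, map_one, h.add_self, zero_add]

/-- a unit which is not `1` -/
theorem exists_unit (hE : Nat.card E = 8) : ∃ s : E, s ≠ 0 ∧ s ≠ 1 := by
  haveI : Finite E := Nat.finite_of_card_ne_zero (by omega)
  haveI := Fintype.ofFinite E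
  classical
  by_contra hcon
  push Not at hcon
  have h1 : (Finset.univ : Finset E) ⊆ {0, 1} := by
    intro s _
    rw [Finset.mem_insert, Finset.mem_singleton]
    by_cases hs : s = 0
    · exact Or.inl hs
    · exact Or.inr (hcon s hs)
  have h2 := Finset.card_le_card h1
  rw [Finset.card_univ, ← Nat.card_eq_fintype_card, hE] at h2
  have h3 := Finset.card_le_two (a := (0 : E)) (b := 1)
  omega

theorem pow_eight (hE : Nat.card E = 8) (s : E) : s ^ 8 = s := by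
  haveI : Finite E := Nat.finite_of_card_ne_zero (by omega)
  haveI := Fintype.ofFinite E
  have := FiniteField.pow_card s
  rwa [← Nat.card_eq_fintype_card, hE] at this

theorem hh_eq_tau (hE : Nat.card E = 8) (s : E) : hh x 1 s = tau x (s ^ 2) := by
  rw [tau, ← pow_mul, pow_eight h hE]

/-- `x k a`, `k` odd, is a commutator with an element of the torus -/
theorem odd_mem_comm (hE : Nat.card E = 8) {k : ZMod 12} (hk : k = 1 ∨ k = 3 ∨ k = 5 ∨ k = 7) (a : E) :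
    x k a ∈ ⁅P1 σ x, P1 σ x⁆ := by
  haveI : Finite E := Nat.finite_of_card_ne_zero (by omega)
  obtain ⟨s, hs, hs1⟩ := exists_unit h hE
  have hkk : k.val % 2 = 1 ∧ (k - 1).val < 7 := by
    rcases hk with rfl | rfl | rfl | rfl <;> decide
  -- the character is not `1`
  have hc : chS σ (k - 1) s ≠ 1 := by
    intro e
    have n1 : ∀ u : E, u ^ 2 = 1 → u = 1 := fun u hu => h.sq_eq_one (by rw [← pow_two]; exact hu)
    have n2 : s⁻¹ * shp σ s = 1 → False := by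
      intro e
      refine hs1 (h.shp_injective hs one_ne_zero ?_)
      rw [e, shp_one, inv_one, mul_one]
    rcases hk with rfl | rfl | rfl | rfl
    · exact hs1 (n1 s e)
    · exact n2 e
    · refine n2 ?_
      have e' : s * (shp σ s)⁻¹ = 1 := e
      have : s⁻¹ * shp σ s = (s * (shp σ s)⁻¹)⁻¹ := by rw [mul_inv, inv_inv]
      rw [this, e', inv_one]
    · have e' : (s ^ 2)⁻¹ = 1 := e
      exact hs1 (n1 s (inv_eq_one.1 e'))
  set c := chS σ (k - 1) s with hcdef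
  have hc1 : c + 1 ≠ 0 := by
    intro e
    rw [← h.sub_eq] at e
    exact hc (sub_eq_zero.1 e)
  have ok : ∀ b : E, Ok σ k b := fun b => ok_odd hkk.1 b
  have e1 : ⁅hh x 1 s, x k ((c + 1)⁻¹ * a)⁆ = x k a := by
    rw [commutatorElement_def, hh1_act h hs k (ok _), h.x_inv (ok _), ← h.add k _ _ (ok _) (ok _), ← hcdef]
    congr 1
    field_simp
  rw [← e1]
  exact Subgroup.commutator_mem_commutator (hh1_mem_P1 s) (x_mem_P1 hkk.2 (ok _))

/-- `P₁` is perfect -/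
theorem perfect (hE : Nat.card E = 8) : ⁅P1 σ x, P1 σ x⁆ = P1 σ x := by
  refine le_antisymm ?_ ?_
  · rw [Subgroup.commutator_le]
    intro a ha b hb
    rw [commutatorElement_def]
    exact mul_mem (mul_mem (mul_mem ha hb) (inv_mem ha)) (inv_mem hb)
  · conv_lhs => rw [P1_eq]
    refine gen_le fun k hk a ha => ?_
    have hk' : k = 1 ∨ k = 2 ∨ k = 3 ∨ k = 4 ∨ k = 5 ∨ k = 6 ∨ k = 7 := by
      have : ∀ k : ZMod 12, (k - 1).val < 7 → k = 1 ∨ k = 2 ∨ k = 3 ∨ k = 4 ∨ k = 5 ∨ k = 6 ∨ k = 7 := by decide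
      exact this k hk
    have ev : ∀ k : ZMod 12, k.val % 2 = 1 → (k - 1).val < 7 → (k + 2 - 1).val < 7 → ∀ t, σ t = t →
        x (k + 1) t ∈ ⁅P1 σ x, P1 σ x⁆ := by
      intro k hk h1 h2 t ht
      have e := h.commS2 hk t 1
      rw [trc_one_right h ht] at e
      rw [← e]
      refine Subgroup.commutator_mem_commutator (x_mem_P1 h1 (ok_odd hk _)) (x_mem_P1 h2 (ok_odd ?_ _))
      have : ∀ k : ZMod 12, k.val % 2 = 1 → (k + 2).val % 2 = 1 := by decide
      exact this k hk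
    rcases hk' with rfl | rfl | rfl | rfl | rfl | rfl | rfl
    · exact odd_mem_comm h hE (Or.inl rfl) a
    · exact ev 1 (by decide) (by decide) (by decide) a (ha (by decide))
    · exact odd_mem_comm h hE (Or.inr (Or.inl rfl)) a
    · exact ev 3 (by decide) (by decide) (by decide) a (ha (by decide))
    · exact odd_mem_comm h hE (Or.inr (Or.inr (Or.inl rfl))) a
    · exact ev 5 (by decide) (by decide) (by decide) a (ha (by decide))
    · exact odd_mem_comm h hE (Or.inr (Or.inr (Or.inr rfl))) a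

theorem card_fix (hfix : ∀ a, σ a = a → a = 0 ∨ a = 1) : Nat.card {a : E // σ a = a} = 2 := by
  rw [Nat.card_eq_two_iff]
  refine ⟨⟨0, map_zero σ⟩, ⟨1, map_one σ⟩, ?_, ?_⟩
  · intro e
    exact zero_ne_one (congrArg Subtype.val e)
  · ext ⟨a, ha⟩
    simp only [Set.mem_insert_iff, Set.mem_singleton_iff, Set.mem_univ, iff_true, Subtype.mk.injEq]
    exact hfix a ha

theorem card_Us (hE : Nat.card E = 8) (hfix : ∀ a, σ a = a → a = 0 ∨ a = 1) : Nat.card (Us σ x) = 2 ^ 12 := by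
  rw [Us_eq, h.card_U, hE, card_fix h hfix]
  norm_num

theorem two_Us (hE : Nat.card E = 8) (hfix : ∀ a, σ a = a → a = 0 ∨ a = 1) : IsPGroup 2 (Us σ x) :=
  IsPGroup.of_card (card_Us h hE hfix)

theorem six_not_mem {y : G} (hy : y ∈ Q2 σ x) {t : E} (ht : σ t = t) (e : y = x 6 t) : t = 0 := by
  subst e
  rw [Q2_eq] at hy
  refine h.mem_last_eq_zero (k := 6) (ok_of_fix _ ht) ?_
  rwa [show (6 : ZMod 12) - 5 = 1 by ring]

theorem seven_not_mem {a : E} (hy : x 7 a ∈ Us σ x) : a = 0 := by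
  rw [Us_eq] at hy
  have ok7 : Ok σ (7 : ZMod 12) a := ok_odd (by decide) a
  refine h.inj 7 a ok7 (h.opp_all 1 hy ?_)
  rw [show (1 : ZMod 12) + 6 = 7 by ring]
  exact x_mem_gen (self_mem_arc (by norm_num)) ok7

/-- `N_{P₁}(U) = U H` -/
theorem borel (hE : Nat.card E = 8) {p : G} (hp : p ∈ P1 σ x) (hU : ∀ u ∈ Us σ x, p * u * p⁻¹ ∈ Us σ x) :
    ∃ u ∈ Us σ x, ∃ s : E, s ≠ 0 ∧ p = u * tau x s := by
  haveI : Finite E := Nat.finite_of_card_ne_zero (by omega)
  obtain ⟨q, hq, a, s, hs, e | ⟨c, e⟩⟩ := P1_decomp h hp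
  · refine ⟨q * x 1 a, mul_mem (Q1_le_Us hq) (x_mem_Us (by decide) (ok1 a)), s ^ 2, pow_ne_zero 2 hs, ?_⟩
    rw [e, ← hh_eq_tau h hE]
    group
  · exfalso
    have hx1 : ∀ b, x 1 b ∈ Us σ x := fun b => x_mem_Us (by decide) (ok1 b)
    -- `nn x 1` normalises `U`
    have h1 := hU (x 1 c * x 1 1 * (x 1 c)⁻¹) (mul_mem (mul_mem (hx1 c) (hx1 1)) (inv_mem (hx1 c)))
    have hb : q * x 1 a ∈ Us σ x := mul_mem (Q1_le_Us hq) (hx1 a)
    have h0 : (x 1 c)⁻¹ * (x 1 c * x 1 1 * (x 1 c)⁻¹) * x 1 c = x 1 1 := by group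
    have h2 : (q * x 1 a)⁻¹ * (p * (x 1 c)⁻¹ * x 1 1 * (p * (x 1 c)⁻¹)⁻¹) * (q * x 1 a) ∈ Us σ x := by
      have h3 := hU ((x 1 c)⁻¹ * x 1 1 * x 1 c) (mul_mem (mul_mem (inv_mem (hx1 c)) (hx1 1)) (hx1 c))
      have e3 : p * (x 1 c)⁻¹ * x 1 1 * (p * (x 1 c)⁻¹)⁻¹ = p * ((x 1 c)⁻¹ * x 1 1 * x 1 c) * p⁻¹ := by group
      rw [e3]
      exact mul_mem (mul_mem (inv_mem hb) h3) hb
    have e4 : (q * x 1 a)⁻¹ * (p * (x 1 c)⁻¹ * x 1 1 * (p * (x 1 c)⁻¹)⁻¹) * (q * x 1 a) =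
        hh x 1 s * (nn x 1 * x 1 1 * (nn x 1)⁻¹) * (hh x 1 s)⁻¹ := by
      rw [e]; group
    rw [e4, h.refl 1 1 (ok1 1), show (2 : ZMod 12) * 1 + 6 - 1 = 7 by decide] at h2
    rw [Us_eq] at h2
    have h5 := hh1_conj_gen' h hs _ h2
    have e5 : (hh x 1 s)⁻¹ * (hh x 1 s * x 7 1 * (hh x 1 s)⁻¹) * hh x 1 s = x 7 1 := by group
    rw [e5, ← Us_eq] at h5
    exact one_ne_zero (seven_not_mem h h5)

theorem tau_pow (hE : Nat.card E = 8) {s : E} (hs : s ≠ 0) : tau x s ^ 7 = 1 := by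
  haveI : Finite E := Nat.finite_of_card_ne_zero (by omega)
  have hpow : ∀ n : ℕ, ∀ u : E, u ≠ 0 → hh x 1 (u ^ n) = hh x 1 u ^ n := by
    intro n u hu
    induction n with
    | zero => rw [pow_zero, pow_zero, h.hh_one]
    | succ n ih =>
      rw [pow_succ, pow_succ, h.hh_mul 1 (pow_ne_zero n hu) hu (ok1 _) (ok1 _), ih]
  have h7 : (s ^ 4) ^ 7 = 1 := by
    have h8 := pow_eight h hE (s ^ 4)
    have : (s ^ 4) ^ 7 * (s ^ 4) = 1 * s ^ 4 := by rw [one_mul]; nth_rw 3 [← h8]; ring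
    exact mul_right_cancel₀ (pow_ne_zero 4 hs) this
  rw [tau, ← hpow 7 _ (pow_ne_zero 4 hs), h7, h.hh_one]

theorem finite_P1 (hE : Nat.card E = 8) : Finite (P1 σ x) := by
  haveI : Finite E := Nat.finite_of_card_ne_zero (by omega)
  haveI hfg : Finite (gen σ x (arc 2 5)) := by
    have key : ∀ (n : ℕ), n ≤ 6 → ∀ k : ZMod 12, Finite (gen σ x (arc k n)) := by
      intro n
      induction n with
      | zero =>
        intro _ k
        rw [HexTwo.gen_arc_zero]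
        infer_instance
      | succ n ih =>
        intro hn k
        haveI := ih (by omega) (k + 1)
        exact Finite.of_equiv _ (h.arcEquiv k (n := n) (by omega))
    exact key 5 (by norm_num) 2
  let f : (gen σ x (arc 2 5)) × E × E × Option E → G := fun w =>
    match w with
    | (q, a, s, none) => q.1 * (x 1 a * hh x 1 s)
    | (q, a, s, some c) => q.1 * (x 1 a * hh x 1 s * nn x 1 * x 1 c)
  have hsub : (P1 σ x : Set G) ⊆ Set.range f := by
    intro p hp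
    obtain ⟨q, hq, a, s, hs, e | ⟨c, e⟩⟩ := P1_decomp h hp
    · rw [Q1_eq] at hq
      exact ⟨(⟨q, hq⟩, a, s, none), e.symm⟩
    · rw [Q1_eq] at hq
      exact ⟨(⟨q, hq⟩, a, s, some c), e.symm⟩
  exact ((Set.finite_range f).subset hsub).to_subtype

/-- `U` is a Sylow `2`-subgroup of `P₁` -/
theorem sylow_Us (hE : Nat.card E = 8) (hfix : ∀ a, σ a = a → a = 0 ∨ a = 1) (Q : Subgroup G) (hQ2 : IsPGroup 2 Q)
    (hQ : Q ≤ P1 σ x) : ∃ p ∈ P1 σ x, ∀ y ∈ Q, p * y * p⁻¹ ∈ Us σ x := by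
  haveI := finite_P1 h hE
  haveI : Fact (Nat.Prime 2) := ⟨Nat.prime_two⟩
  -- `U` inside `P₁`
  have hU2 : IsPGroup 2 ((Us σ x).subgroupOf (P1 σ x)) := by
    refine (two_Us h hE hfix).of_equiv (Subgroup.subgroupOfEquivOfLe Us_le_P1).symm
  obtain ⟨S, hS⟩ := hU2.exists_le_sylow
  have hSU : (S : Subgroup (P1 σ x)) = (Us σ x).subgroupOf (P1 σ x) := by
    by_contra hne
    have hlt : (Us σ x).subgroupOf (P1 σ x) < S := lt_of_le_of_ne hS (Ne.symm hne)
    -- normalizer grows in the nilpotent group `S`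
    haveI : Finite S := inferInstance
    haveI hnil : Group.IsNilpotent (S : Subgroup (P1 σ x)) := S.isPGroup'.isNilpotent
    have hnc : NormalizerCondition (S : Subgroup (P1 σ x)) := Group.normalizerCondition_of_isNilpotent
    set U' : Subgroup (S : Subgroup (P1 σ x)) := ((Us σ x).subgroupOf (P1 σ x)).subgroupOf S with hU'
    have hlt' : U' < ⊤ := by
      rw [lt_top_iff_ne_top]
      intro e
      rw [hU', Subgroup.subgroupOf_eq_top] at e
      exact hne (le_antisymm e hS)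
    have h1 := hnc U' hlt'
    obtain ⟨g, hg, hgU⟩ := SetLike.exists_of_lt h1
    rw [Subgroup.mem_normalizer_iff] at hg
    -- `g` normalises `U`
    have hgn : ∀ u ∈ Us σ x, (g : P1 σ x).1 * u * ((g : P1 σ x).1)⁻¹ ∈ Us σ x := by
      intro u hu
      have hu' : (⟨u, Us_le_P1 hu⟩ : P1 σ x) ∈ (S : Subgroup (P1 σ x)) := hS hu
      have := (hg ⟨⟨u, Us_le_P1 hu⟩, hu'⟩).1 hu
      exact this
    obtain ⟨u, hu, s, hs, e⟩ := borel h hE (g : P1 σ x).2 hgn
    -- `tau s ∈ S`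
    have hτP : tau x s ∈ P1 σ x := hh1_mem_P1 _
    have huS : (⟨u, Us_le_P1 hu⟩ : P1 σ x) ∈ (S : Subgroup (P1 σ x)) := hS hu
    have hτS : (⟨tau x s, hτP⟩ : P1 σ x) ∈ (S : Subgroup (P1 σ x)) := by
      have e2 : (⟨tau x s, hτP⟩ : P1 σ x) = (⟨u, Us_le_P1 hu⟩ : P1 σ x)⁻¹ * (g : P1 σ x) := by
        apply Subtype.ext
        rw [Subgroup.coe_mul, e]
        simp
      rw [e2]
      exact mul_mem (inv_mem huS) g.2
    have hτ1 : tau x s = 1 := by
      obtain ⟨n, hn⟩ := S.isPGroup' ⟨_, hτS⟩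
      have hn' : tau x s ^ 2 ^ n = 1 := by
        have := congrArg (fun y : (S : Subgroup (P1 σ x)) => ((y : P1 σ x) : G)) hn
        simpa using this
      have h7 := tau_pow h hE hs
      have o1 := orderOf_dvd_of_pow_eq_one hn'
      have o2 := orderOf_dvd_of_pow_eq_one h7
      have hcop : Nat.Coprime (2 ^ n) 7 := Nat.Coprime.pow_left n (by norm_num)
      have := Nat.eq_one_of_dvd_coprimes hcop o1 o2
      exact orderOf_eq_one_iff.1 this
    apply hgU
    rw [hU', Subgroup.mem_subgroupOf, Subgroup.mem_subgroupOf, e, hτ1, mul_one]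
    exact hu
  have hQ2' : IsPGroup 2 (Q.subgroupOf (P1 σ x)) := hQ2.of_equiv (Subgroup.subgroupOfEquivOfLe hQ).symm
  obtain ⟨R, hR⟩ := hQ2'.exists_le_sylow
  obtain ⟨g, hg⟩ := MulAction.exists_smul_eq (P1 σ x) R S
  refine ⟨g.1, g.2, fun y hy => ?_⟩
  have hyR : (⟨y, hQ hy⟩ : P1 σ x) ∈ (R : Subgroup (P1 σ x)) := hR hy
  have : g * ⟨y, hQ hy⟩ * g⁻¹ ∈ (S : Subgroup (P1 σ x)) := by
    rw [← hg]
    exact Subgroup.smul_mem_pointwise_smul _ (MulAut.conj g) _ hyR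
  rw [hSU] at this
  exact this

/-- `[p, y] ∈ Z` means `p y p⁻¹ ≡ y mod Z` -/
theorem comm_Zs_iff {p y : G} (hc : ⁅p, y⁆ ∈ Zs σ x) : ∃ z ∈ Zs σ x, p * y * p⁻¹ = z * y :=
  ⟨_, hc, by rw [commutatorElement_def]; group⟩

/-- an element of `P₁` which fixes the lines `z₂`, `z₆`, `z₆^{x₁(1)}` is in `Q₁` -/
theorem three (hE : Nat.card E = 8) (hfix : ∀ a, σ a = a → a = 0 ∨ a = 1) {p : G} (hp : p ∈ P1 σ x)
    (h2 : ⁅p, x 2 1⁆ ∈ Zs σ x) (h6 : ⁅p, x 6 1⁆ ∈ Zs σ x) (h16 : ⁅p, x 1 1 * x 6 1 * x 1 1⁆ ∈ Zs σ x) :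
    p ∈ Q1 σ x := by
  haveI : Finite E := Nat.finite_of_card_ne_zero (by omega)
  have hQP : Q1 σ x ≤ P1 σ x := Q1_le_Us.trans Us_le_P1
  have hx1 : ∀ b, x 1 b ∈ Us σ x := fun b => x_mem_Us (by decide) (ok1 b)
  have z4Q2 : Zs σ x ≤ Q2 σ x := by
    rw [Q2_eq, Zs_eq]
    refine gen_mono ?_
    intro l hl
    rw [Set.mem_singleton_iff] at hl
    subst hl
    rw [mem_arc]; decide
  have z4Q1 : Zs σ x ≤ Q1 σ x := by
    rw [Q1_eq, Zs_eq]
    refine gen_mono ?_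
    intro l hl
    rw [Set.mem_singleton_iff] at hl
    subst hl
    rw [mem_arc]; decide
  obtain ⟨q, hq, a, s, hs, e | ⟨c, e⟩⟩ := P1_decomp h hp
  · have nfix : ∀ u : E, u ≠ 0 → nrm σ u = 1 := fun u hu => (hfix _ (nrm_fix h.cube u)).resolve_left (nrm_ne_zero hu)
    -- `p` on `x 6 1`
    obtain ⟨z, hz, ez⟩ := comm_Zs_iff h h6
    have e1 : hh x 1 s * x 6 1 * (hh x 1 s)⁻¹ = x 6 1 := by
      rw [hh1_act h hs 6 (ok_one σ _)]
      have : chS σ (6 - 1) s = (nrm σ s)⁻¹ := rfl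
      rw [this, nfix s hs, inv_one, mul_one]
    have e2 := h.commS5 (k := 1) (by decide) a (map_one σ)
    rw [show (1 : ZMod 12) + 5 = 6 from rfl, show (1 : ZMod 12) + 1 = 2 from rfl, show (1 : ZMod 12) + 2 = 3 from rfl,
      show (1 : ZMod 12) + 3 = 4 from rfl, show (1 : ZMod 12) + 4 = 5 from rfl, one_mul, one_mul, one_pow, one_mul,
      one_mul] at e2
    have e3 : x 1 a * x 6 1 * (x 1 a)⁻¹ = x 2 (nrm σ a) * x 3 (shp σ a) * x 4 (nrm σ a) * x 5 a * x 6 1 := by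
      rw [← e2, commutatorElement_def]; group
    have nf := nrm_fix h.cube a
    -- the big element
    have m2 : x 2 (nrm σ a) ∈ gen σ x (arc 2 3) := x_mem_gen (by rw [mem_arc]; decide) (ok_of_fix _ nf)
    have m3 : x 3 (shp σ a) ∈ gen σ x (arc 2 3) := x_mem_gen (by rw [mem_arc]; decide) (ok3 _)
    have m4 : x 4 (nrm σ a) ∈ gen σ x (arc 2 3) := x_mem_gen (by rw [mem_arc]; decide) (ok_of_fix _ nf)
    have mv : x 2 (nrm σ a) * x 3 (shp σ a) * x 4 (nrm σ a) ∈ gen σ x (arc 2 3) := mul_mem (mul_mem m2 m3) m4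
    set w := x 2 (nrm σ a) * x 3 (shp σ a) * x 4 (nrm σ a) with hw
    have hwQ : w * x 5 a * x 6 1 ∈ Q1 σ x := by
      rw [Q1_eq]
      refine mul_mem (mul_mem (gen_mono (arc_mono (by norm_num)) mv) (x_mem_gen (by rw [mem_arc]; decide) (ok5 a)))
        (x_mem_gen (by rw [mem_arc]; decide) (ok_one σ _))
    have e4 : p * x 6 1 * p⁻¹ = ⁅q, w * x 5 a * x 6 1⁆ * (w * x 5 a * x 6 1) := by
      have : p * x 6 1 * p⁻¹ = q * (x 1 a * (hh x 1 s * x 6 1 * (hh x 1 s)⁻¹) * (x 1 a)⁻¹) * q⁻¹ := by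
        rw [e]; group
      rw [this, e1, e3, commutatorElement_def]; group
    have hz' := comm_Q1 h hq hwQ
    rw [e4] at ez
    -- `x 5` coordinate
    have e5 : (z⁻¹ * ⁅q, w * x 5 a * x 6 1⁆ * w) * x 5 a = 1 * x 5 0 := by
      rw [h.x_zero, mul_one]
      have h1 : z⁻¹ * (⁅q, w * x 5 a * x 6 1⁆ * (w * x 5 a * x 6 1)) = x 6 1 := by rw [ez]; group
      have h2 : z⁻¹ * ⁅q, w * x 5 a * x 6 1⁆ * w * x 5 a =
          z⁻¹ * (⁅q, w * x 5 a * x 6 1⁆ * (w * x 5 a * x 6 1)) * (x 6 1)⁻¹ := by group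
      rw [h2, h1, mul_inv_cancel]
    have z3 : ∀ z ∈ Zs σ x, z ∈ gen σ x (arc 2 3) := by
      intro z hz
      obtain ⟨t, ht, rfl⟩ := (mem_Zs h).1 hz
      exact x_mem_gen (by rw [mem_arc]; decide) (ok_of_fix _ ht)
    have u1 := h.uniq_last (k := 2) (n := 3) (by norm_num) (b := a) (b' := 0) (ok5 a) (ok5 0)
      (mul_mem (mul_mem (inv_mem (z3 z hz)) (z3 _ hz')) mv) (one_mem _) e5
    have ha : a = 0 := u1.2
    -- `p = q hh(s)` on `x 1 1 * x 6 1 * x 1 1`
    obtain ⟨z', hz2, ez'⟩ := comm_Zs_iff h h16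
    have e6 := h.commS5 (k := 1) (by decide) 1 (map_one σ)
    rw [show (1 : ZMod 12) + 5 = 6 from rfl, show (1 : ZMod 12) + 1 = 2 from rfl, show (1 : ZMod 12) + 2 = 3 from rfl,
      show (1 : ZMod 12) + 3 = 4 from rfl, show (1 : ZMod 12) + 4 = 5 from rfl, one_mul, one_mul, one_pow, one_mul,
      one_mul, nrm_one, shp_one] at e6
    have e7 : x 1 1 * x 6 1 * x 1 1 = x 2 1 * x 3 1 * x 4 1 * x 5 1 * x 6 1 := by
      rw [← e6, commutatorElement_def, h.x_inv (ok1 1)]; group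
    rw [e7] at ez'
    have a2 := hh1_act h hs 2 (a := 1) (ok_one σ _)
    have a3 := hh1_act h hs 3 (a := 1) (ok_one σ _)
    have a4 := hh1_act h hs 4 (a := 1) (ok_one σ _)
    have a5 := hh1_act h hs 5 (a := 1) (ok_one σ _)
    rw [mul_one] at a2 a3 a4 a5
    have c2 : chS σ (2 - 1) s = 1 := nfix s hs
    have c4 : chS σ (4 - 1) s = 1 := rfl
    rw [c2] at a2
    rw [c4] at a4
    set c3 := chS σ (3 - 1) s with hc3
    set c5 := chS σ (5 - 1) s with hc5
    have e8 : hh x 1 s * (x 2 1 * x 3 1 * x 4 1 * x 5 1 * x 6 1) * (hh x 1 s)⁻¹ =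
        x 2 1 * x 3 c3 * x 4 1 * x 5 c5 * x 6 1 := by
      calc hh x 1 s * (x 2 1 * x 3 1 * x 4 1 * x 5 1 * x 6 1) * (hh x 1 s)⁻¹ =
          (hh x 1 s * x 2 1 * (hh x 1 s)⁻¹) * (hh x 1 s * x 3 1 * (hh x 1 s)⁻¹) * (hh x 1 s * x 4 1 * (hh x 1 s)⁻¹) *
            (hh x 1 s * x 5 1 * (hh x 1 s)⁻¹) * (hh x 1 s * x 6 1 * (hh x 1 s)⁻¹) := by group
        _ = _ := by rw [a2, a3, a4, a5, e1]
    have n2 : x 2 1 ∈ gen σ x (arc 2 3) := x_mem_gen (by rw [mem_arc]; decide) (ok_one σ _)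
    have n4 : x 4 1 ∈ gen σ x (arc 2 3) := x_mem_gen (by rw [mem_arc]; decide) (ok_one σ _)
    have n3 : ∀ b, x 3 b ∈ gen σ x (arc 2 3) := fun b => x_mem_gen (by rw [mem_arc]; decide) (ok3 _)
    have mv' : x 2 1 * x 3 c3 * x 4 1 ∈ gen σ x (arc 2 3) := mul_mem (mul_mem n2 (n3 _)) n4
    have mv'' : x 2 1 * x 3 1 * x 4 1 ∈ gen σ x (arc 2 3) := mul_mem (mul_mem n2 (n3 _)) n4
    set w' := x 2 1 * x 3 c3 * x 4 1 with hw'
    have hwQ' : w' * x 5 c5 * x 6 1 ∈ Q1 σ x := by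
      rw [Q1_eq]
      refine mul_mem (mul_mem (gen_mono (arc_mono (by norm_num)) mv') (x_mem_gen (by rw [mem_arc]; decide) (ok5 _)))
        (x_mem_gen (by rw [mem_arc]; decide) (ok_one σ _))
    have e9 : p * (x 2 1 * x 3 1 * x 4 1 * x 5 1 * x 6 1) * p⁻¹ =
        ⁅q, w' * x 5 c5 * x 6 1⁆ * (w' * x 5 c5 * x 6 1) := by
      have : p * (x 2 1 * x 3 1 * x 4 1 * x 5 1 * x 6 1) * p⁻¹ =
          q * (hh x 1 s * (x 2 1 * x 3 1 * x 4 1 * x 5 1 * x 6 1) * (hh x 1 s)⁻¹) * q⁻¹ := by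
        rw [e, ha, h.x_zero, one_mul]; group
      rw [this, e8, commutatorElement_def]; group
    rw [e9] at ez'
    have e10 : (z'⁻¹ * ⁅q, w' * x 5 c5 * x 6 1⁆ * w') * x 5 c5 = (x 2 1 * x 3 1 * x 4 1) * x 5 1 := by
      have h1 : z'⁻¹ * (⁅q, w' * x 5 c5 * x 6 1⁆ * (w' * x 5 c5 * x 6 1)) = x 2 1 * x 3 1 * x 4 1 * x 5 1 * x 6 1 := by
        rw [ez']; group
      have h2 : z'⁻¹ * ⁅q, w' * x 5 c5 * x 6 1⁆ * w' * x 5 c5 =
          z'⁻¹ * (⁅q, w' * x 5 c5 * x 6 1⁆ * (w' * x 5 c5 * x 6 1)) * (x 6 1)⁻¹ := by group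
      rw [h2, h1, mul_inv_cancel_right]
    have u2 := h.uniq_last (k := 2) (n := 3) (by norm_num) (b := c5) (b' := 1) (ok5 _) (ok5 _)
      (mul_mem (mul_mem (inv_mem (z3 z' hz2)) (z3 _ (comm_Q1 h hq hwQ'))) mv') mv'' e10
    have hs1 : s = 1 := by
      refine h.shp_injective hs one_ne_zero ?_
      have e' : s * (shp σ s)⁻¹ = 1 := u2.2
      have : s⁻¹ * shp σ s = (s * (shp σ s)⁻¹)⁻¹ := by rw [mul_inv, inv_inv]
      rw [this, e', inv_one, shp_one, mul_one]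
    rw [e, ha, hs1, h.x_zero, h.hh_one, mul_one, mul_one]
    exact hq
  · exfalso
    obtain ⟨z, hz, ez⟩ := comm_Zs_iff h h2
    have e1 : x 1 c * x 2 1 * (x 1 c)⁻¹ = x 2 1 := by
      have := h.commS1 (k := 1) (by decide) c (map_one σ)
      rw [show (1 : ZMod 12) + 1 = 2 from rfl, commutatorElement_eq_one_iff_mul_comm] at this
      rw [this, mul_inv_cancel_right]
    have e2 : p * x 2 1 * p⁻¹ = (q * x 1 a) * (hh x 1 s * (nn x 1 * (x 1 c * x 2 1 * (x 1 c)⁻¹) * (nn x 1)⁻¹) *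
        (hh x 1 s)⁻¹) * (q * x 1 a)⁻¹ := by
      rw [e]; group
    rw [e1, h.refl 1 2 (ok_one σ 2), show (2 : ZMod 12) * 1 + 6 - 2 = 6 by decide] at e2
    have hzQ : z * x 2 1 ∈ Q2 σ x := by
      refine mul_mem (z4Q2 hz) ?_
      rw [Q2_eq]
      exact x_mem_gen (by rw [mem_arc]; decide) (ok_one σ _)
    rw [← ez, e2] at hzQ
    have hb : q * x 1 a ∈ Us σ x := mul_mem (Q1_le_Us hq) (hx1 a)
    have h3 := Us_conj_Q2 h (inv_mem hb) hzQ
    have e3 : (q * x 1 a)⁻¹ * (q * x 1 a * (hh x 1 s * x 6 1 * (hh x 1 s)⁻¹) * (q * x 1 a)⁻¹) * ((q * x 1 a)⁻¹)⁻¹ =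
        hh x 1 s * x 6 1 * (hh x 1 s)⁻¹ := by group
    rw [e3, Q2_eq] at h3
    have h4 := hh1_conj_gen' h hs _ h3
    have e4 : (hh x 1 s)⁻¹ * (hh x 1 s * x 6 1 * (hh x 1 s)⁻¹) * hh x 1 s = x 6 1 := by group
    rw [e4, ← Q2_eq] at h4
    exact one_ne_zero (six_not_mem h h4 (map_one σ) rfl)

/-- coordinates in `Q₁` -/
theorem Q1_coord {p : G} (hp : p ∈ Q1 σ x) : ∃ a2 a3 a4 a5 a6 : E, σ a2 = a2 ∧ σ a4 = a4 ∧ σ a6 = a6 ∧
    p = x 2 a2 * (x 3 a3 * (x 4 a4 * (x 5 a5 * x 6 a6))) := by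
  rw [Q1_eq] at hp
  obtain ⟨a2, h2, v2, hv2, rfl⟩ := (h.mem_gen_first (k := 2) (n := 4) (by norm_num)).1 hp
  obtain ⟨a3, h3, v3, hv3, rfl⟩ := (h.mem_gen_first (k := 2 + 1) (n := 3) (by norm_num)).1 hv2
  obtain ⟨a4, h4, v4, hv4, rfl⟩ := (h.mem_gen_first (k := 2 + 1 + 1) (n := 2) (by norm_num)).1 hv3
  obtain ⟨a5, h5, v5, hv5, rfl⟩ := (h.mem_gen_first (k := 2 + 1 + 1 + 1) (n := 1) (by norm_num)).1 hv4
  obtain ⟨a6, h6, v6, hv6, rfl⟩ := (h.mem_gen_first (k := 2 + 1 + 1 + 1 + 1) (n := 0) (by norm_num)).1 hv5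
  rw [HexTwo.gen_arc_zero, Subgroup.mem_bot] at hv6
  subst hv6
  exact ⟨a2, a3, a4, a5, a6, h2 (by decide), h4 (by decide), h6 (by decide), by rw [mul_one]; rfl⟩

/-- `C_{Q₁}(Q₁) = Z` -/
theorem cent_Q1 (hE : Nat.card E = 8) (hfix : ∀ a, σ a = a → a = 0 ∨ a = 1) {p : G} (hp : p ∈ P1 σ x)
    (hc : ∀ q ∈ Q1 σ x, p * q = q * p) : p ∈ Zs σ x := by
  haveI : Finite E := Nat.finite_of_card_ne_zero (by omega)
  have hQP : Q1 σ x ≤ P1 σ x := Q1_le_Us.trans Us_le_P1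
  have hx1 : x 1 1 ∈ P1 σ x := x_mem_P1 (by decide) (ok1 1)
  have hcz : ∀ y ∈ Q1 σ x, ⁅p, y⁆ ∈ Zs σ x := fun y hy => by
    rw [(commutatorElement_eq_one_iff_mul_comm).2 (hc y hy)]; exact one_mem _
  have mk : ∀ k : ZMod 12, (k - 2).val < 5 → ∀ a, Ok σ k a → x k a ∈ Q1 σ x := fun k hk a ha => x_mem_Q1 hk ha
  have hpQ : p ∈ Q1 σ x := by
    refine three h hE hfix hp (hcz _ (mk 2 (by decide) 1 (ok_one σ _))) (hcz _ (mk 6 (by decide) 1 (ok_one σ _)))
      (hcz _ ?_)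
    have := P1_conj_Q1 h hx1 (mk 6 (by decide) 1 (ok_one σ _))
    rwa [h.x_inv (ok1 1)] at this
  obtain ⟨a2, a3, a4, a5, a6, f2, f4, f6, e⟩ := Q1_coord h hpQ
  have cm : ∀ y ∈ Q1 σ x, Commute p y := hc
  -- commuting with `x 6 1`
  have c4 : ∀ {k : ZMod 12}, (k - 1).val < 7 → ∀ {a}, Ok σ k a → Commute (x 4 a4) (x k a) := fun hk _ ha =>
    x4_comm h f4 hk ha
  have C : ∀ {k l : ZMod 12} {a b : E}, ⁅x k a, x l b⁆ = 1 → Commute (x k a) (x l b) := fun e =>
    commutatorElement_eq_one_iff_commute.1 e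
  have e36 : ∀ b t, σ t = t → Commute (x 3 b) (x 6 t) := fun b t ht => C (h.commS3 (k := 3) (by decide) b ht)
  have e56 : ∀ b t, σ t = t → Commute (x 5 b) (x 6 t) := fun b t ht => C (h.commS1 (k := 5) (by decide) b ht)
  have e23 : ∀ t b, σ t = t → Commute (x 2 t) (x 3 b) := fun t b ht => C (h.commL1 (k := 2) (by decide) ht b)
  have e25 : ∀ t b, σ t = t → Commute (x 2 t) (x 5 b) := fun t b ht => C (h.commL3 (k := 2) (by decide) ht b)
  have ha2 : a2 = 0 := by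
    have h1 := cm _ (mk 6 (by decide) 1 (ok_one σ _))
    have h2 : Commute (x 3 a3 * (x 4 a4 * (x 5 a5 * x 6 a6))) (x 6 1) :=
      (e36 a3 1 (map_one σ)).mul_left ((c4 (by decide) (ok_one σ _)).mul_left
        ((e56 a5 1 (map_one σ)).mul_left (h.x_comm_same (ok_of_fix _ f6) (ok_one σ _))))
    have h3 : Commute (x 2 a2) (x 6 1) := by
      have : x 2 a2 = p * (x 3 a3 * (x 4 a4 * (x 5 a5 * x 6 a6)))⁻¹ := by rw [e]; group
      rw [this]
      exact h1.mul_left h2.inv_left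
    have h4 := h.commL4 (k := 2) (by decide) f2 (map_one σ)
    rw [show (2 : ZMod 12) + 4 = 6 from rfl, show (2 : ZMod 12) + 2 = 4 from rfl,
      commutatorElement_eq_one_iff_commute.2 h3, mul_one] at h4
    exact h.inj 4 a2 (ok_of_fix _ f2) h4.symm
  have ha6 : a6 = 0 := by
    have h1 := cm _ (mk 2 (by decide) 1 (ok_one σ _))
    subst ha2
    rw [h.x_zero, one_mul] at e
    have h3 : Commute (x 2 1) (x 6 a6) := by
      have : x 6 a6 = (x 3 a3 * (x 4 a4 * x 5 a5))⁻¹ * p := by rw [e]; group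
      rw [this]
      refine Commute.mul_right ?_ h1.symm
      refine Commute.inv_right ?_
      exact (e23 1 a3 (map_one σ)).mul_right ((c4 (by decide) (ok_one σ _)).symm.mul_right (e25 1 a5 (map_one σ)))
    have h4 := h.commL4 (k := 2) (by decide) (map_one σ) f6
    rw [show (2 : ZMod 12) + 4 = 6 from rfl, show (2 : ZMod 12) + 2 = 4 from rfl,
      commutatorElement_eq_one_iff_commute.2 h3, one_mul] at h4
    exact h.inj 4 a6 (ok_of_fix _ f6) h4.symm
  subst ha2 ha6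
  rw [h.x_zero, h.x_zero, one_mul, mul_one] at e
  have ha3 : a3 = 0 := by
    by_contra h0
    have h1 := cm _ (mk 5 (by decide) a3⁻¹ (ok5 _))
    have h3 : Commute (x 3 a3) (x 5 a3⁻¹) := by
      have : x 3 a3 = p * (x 4 a4 * x 5 a5)⁻¹ := by rw [e]; group
      rw [this]
      exact h1.mul_left ((c4 (by decide) (ok5 _)).mul_left (h.x_comm_same (ok5 _) (ok5 _))).inv_left
    have h4 := h.commS2 (k := 3) (by decide) a3 a3⁻¹
    rw [show (3 : ZMod 12) + 2 = 5 from rfl, show (3 : ZMod 12) + 1 = 4 from rfl,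
      commutatorElement_eq_one_iff_commute.2 h3, trc_inv h h0] at h4
    exact one_ne_zero (h.inj 4 1 (ok_one σ _) h4.symm)
  subst ha3
  rw [h.x_zero, one_mul] at e
  have ha5 : a5 = 0 := by
    by_contra h0
    have h1 := cm _ (mk 3 (by decide) a5⁻¹ (ok3 _))
    have h3 : Commute (x 5 a5) (x 3 a5⁻¹) := by
      have : x 5 a5 = (x 4 a4)⁻¹ * p := by rw [e]; group
      rw [this]
      exact ((c4 (by decide) (ok3 _)).inv_left).mul_left h1
    have h4 := h.commS2 (k := 3) (by decide) a5⁻¹ a5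
    have h5 := trc_inv h (inv_ne_zero h0)
    rw [inv_inv] at h5
    rw [show (3 : ZMod 12) + 2 = 5 from rfl, show (3 : ZMod 12) + 1 = 4 from rfl,
      commutatorElement_eq_one_iff_commute.2 h3.symm, h5] at h4
    exact one_ne_zero (h.inj 4 1 (ok_one σ _) h4.symm)
  subst ha5
  rw [h.x_zero, mul_one] at e
  rw [e]
  exact x4_mem_Zs f4

end PF

/-- **Piece [A].** -/
theorem pfacts {E : Type*} [Field E] {σ : E ≃+* E} {G : Type*} [Group G] {x : ZMod 12 → E → G} (h : Cfsg.Agent.StdRank2.Hex.HexTwo σ x)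
    (hE : Nat.card E = 8) (hfix : ∀ a, σ a = a → a = 0 ∨ a = 1) : PFacts σ x where
  perfect := PF.perfect h hE
  two := PF.two_Us h hE hfix
  sylow := PF.sylow_Us h hE hfix
  borel := fun _ hp hU => PF.borel h hE hp hU
  cent_Q1 := fun _ hp hc => PF.cent_Q1 h hE hfix hp hc
  three := fun _ hp h2 h6 h16 => PF.three h hE hfix hp h2 h6 h16

end Cfsg.Agent.TriTwo

private theorem dce_33883f5c981d : _root_.True := by
  try have : _root_.True := by simp only [_root_.Cfsg.Agent.TriTwo.tau.eq_1]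
  exact _root_.True.intro
end

-- part: StdRank2/HexSylow
section
prune_inst 0x1044104800020000000506300020000c00009000230001a0e107420a08c100c8000740183034055202a280600d006000100050404000000e2004000004000000a812009048a00000009e008084000000000000000000000000000000000000000000000
set_option linter.all false
open scoped Cfsg.Agent.FastGrp

-- part: StdRank2/HexBorel
section
/-!
# Borel subgroup, Sylow 2-subgroup, centralisers of long root elements
-/

set_option autoImplicit false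

namespace Cfsg.Agent.StdRank2.Hex

open Cfsg.Agent.SplitTwo
open scoped commutatorElement Pointwise

/-- the set of positive roots kept positive by an element of the Weyl group is an initial or a final arc -/
theorem weyl_arc : ∀ e c : ZMod 12, (e = 1 ∨ e = -1) → c.val % 2 = 0 → ∃ n : Fin 7,
    ((∀ k : ZMod 12, (k - 1).val < n.val → (e * k + c - 1).val < 6) ∧
      (∀ k : ZMod 12, (k - (1 + (n.val : ZMod 12))).val < 6 - n.val → (e * k + c - 7).val < 6)) ∨
    ((∀ k : ZMod 12, (k - 1).val < n.val → (e * k + c - 7).val < 6) ∧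
      (∀ k : ZMod 12, (k - (1 + (n.val : ZMod 12))).val < 6 - n.val → (e * k + c - 1).val < 6)) := by
  decide +kernel

theorem weyl_id : ∀ e c : ZMod 12, (e = 1 ∨ e = -1) → c.val % 2 = 0 →
    (∀ k : ZMod 12, (k - 1).val < 6 → (e * k + c - 1).val < 6) → e = 1 ∧ c = 0 := by
  decide +kernel

namespace HexTwo

variable {E : Type*} [Field E] {σ : E ≃+* E} {Γ : Type*} [Group Γ] {x : ZMod 12 → E → Γ} (h : HexTwo σ x)

include h

/-- two non-trivial root elements of different roots are different -/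
theorem root_unique {k l : ZMod 12} {a b : E} (ha : Ok σ k a) (hb : Ok σ l b) (ha0 : a ≠ 0) (e : x k a = x l b) :
    k = l := by
  by_contra hkl
  apply ha0
  have key : ∀ k l : ZMod 12, k ≠ l → (l - (k + 1)).val < 5 ∨ (l - (k - 5)).val < 5 ∨ l = k + 6 := by decide +kernel
  rcases key k l hkl with h1 | h1 | h1
  · refine h.mem_first_eq_zero ha ?_
    rw [e]
    exact x_mem_gen h1 hb
  · refine h.mem_last_eq_zero ha ?_
    rw [e]
    exact x_mem_gen h1 hb
  · subst h1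
    refine h.inj k a ha (h.opp_all k (x_mem_gen (self_mem_arc (by norm_num)) ha) ?_)
    rw [e]
    exact x_mem_gen (self_mem_arc (by norm_num)) hb

/-- factorisation of an arc into two arcs -/
theorem split_arc (k : ZMod 12) (m n : ℕ) (hmn : m + n ≤ 6) {g : Γ} (hg : g ∈ gen σ x (arc k (m + n))) :
    ∃ u ∈ gen σ x (arc k m), ∃ v ∈ gen σ x (arc (k + (m : ZMod 12)) n), g = u * v := by
  induction m generalizing k g with
  | zero =>
    refine ⟨1, one_mem _, g, ?_, by rw [one_mul]⟩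
    simpa using hg
  | succ m ih =>
    have e : m + 1 + n = (m + n) + 1 := by ring
    rw [e] at hg
    obtain ⟨a, ha, v, hv, rfl⟩ := (h.mem_gen_first (by omega)).1 hg
    obtain ⟨u, hu, w, hw, rfl⟩ := ih (k + 1) (by omega) hv
    refine ⟨x k a * u, ?_, w, ?_, by rw [mul_assoc]⟩
    · exact (h.mem_gen_first (by omega)).2 ⟨a, ha, u, hu, rfl⟩
    · have e2 : k + 1 + (m : ZMod 12) = k + ((m + 1 : ℕ) : ZMod 12) := by push_cast; ring
      rwa [e2] at hw

omit h in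
theorem conj_gen_act {w : Γ} {e c : ZMod 12} (hc : c.val % 2 = 0) (he : e = 1 ∨ e = -1)
    (hw : ∀ j a, Ok σ j a → w * x j a * w⁻¹ = x (e * j + c) a) {S T : Set (ZMod 12)}
    (hST : ∀ l ∈ S, e * l + c ∈ T) {y : Γ} (hy : y ∈ gen σ x S) : w * y * w⁻¹ ∈ gen σ x T := by
  refine conj_gen (fun l hl a ha => ?_) hy
  rw [hw l a ha]
  refine x_mem_gen (hST l hl) (ha.congr ?_)
  have : ∀ e c l : ZMod 12, c.val % 2 = 0 → (e = 1 ∨ e = -1) → (e * l + c).val % 2 = l.val % 2 := by decide +kernel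
  exact this e c l hc he

/-- **`U ∩ U^w`** -/
theorem mem_of_conj {w : Γ} {e c : ZMod 12} (hc : c.val % 2 = 0) (he : e = 1 ∨ e = -1)
    (hw : ∀ j a, Ok σ j a → w * x j a * w⁻¹ = x (e * j + c) a) {u : Γ} (hu : u ∈ UU σ x)
    (hwu : w * u * w⁻¹ ∈ UU σ x) : u ∈ gen σ x {k | k ∈ arc 1 6 ∧ e * k + c ∈ arc 1 6} := by
  obtain ⟨n, hn⟩ := weyl_arc e c he hc
  have hn6 : n.val + (6 - n.val) = 6 := by omega
  obtain ⟨u1, hu1, u2, hu2, rfl⟩ := h.split_arc 1 n.val (6 - n.val) (by omega) (by rw [hn6]; exact hu)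
  have hsub : ∀ k : ZMod 12, (k - (1 + (n.val : ZMod 12))).val < 6 - n.val → (k - 1).val < 6 := by
    have : ∀ (n : Fin 7) (k : ZMod 12), (k - (1 + (n.val : ZMod 12))).val < 6 - n.val → (k - 1).val < 6 := by
      decide +kernel
    exact this n
  have e1 : w * (u1 * u2) * w⁻¹ = (w * u1 * w⁻¹) * (w * u2 * w⁻¹) := by group
  rw [e1] at hwu
  rcases hn with ⟨hA, hB⟩ | ⟨hA, hB⟩
  · have p1 : w * u1 * w⁻¹ ∈ UU σ x := conj_gen_act hc he hw (T := arc 1 6) (fun l hl => hA l hl) hu1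
    have p2 : w * u2 * w⁻¹ ∈ UU σ x := (Subgroup.mul_mem_cancel_left _ p1).1 hwu
    have p3 : w * u2 * w⁻¹ ∈ gen σ x (arc (1 + 6) 6) := conj_gen_act hc he hw (T := arc (1 + 6) 6) (fun l hl => by
      rw [show (1 : ZMod 12) + 6 = 7 by ring]
      exact hB l hl) hu2
    have p4 := h.opp_one p2 p3
    have p5 : u2 = 1 := by rwa [mul_inv_eq_one, mul_eq_left] at p4
    rw [p5, mul_one]
    refine gen_mono ?_ hu1
    intro k hk
    have hk' : (k - 1).val < n.val := hk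
    exact ⟨mem_arc.2 (by have := n.2; omega), mem_arc.2 (hA k hk')⟩
  · have p2 : w * u2 * w⁻¹ ∈ UU σ x := conj_gen_act hc he hw (T := arc 1 6) (fun l hl => hB l hl) hu2
    have p1 : w * u1 * w⁻¹ ∈ UU σ x := (Subgroup.mul_mem_cancel_right _ p2).1 hwu
    have p3 : w * u1 * w⁻¹ ∈ gen σ x (arc (1 + 6) 6) := conj_gen_act hc he hw (T := arc (1 + 6) 6) (fun l hl => by
      rw [show (1 : ZMod 12) + 6 = 7 by ring]
      exact hA l hl) hu1
    have p4 := h.opp_one p1 p3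
    have p5 : u1 = 1 := by rwa [mul_inv_eq_one, mul_eq_left] at p4
    rw [p5, one_mul]
    refine gen_mono ?_ hu2
    intro k hk
    exact ⟨mem_arc.2 (hsub k hk), mem_arc.2 (hB k hk)⟩

/-- faithful action of the Weyl group -/
theorem isW_faithful {w : Γ} (hw : IsW x w) {f : ZMod 12 → ZMod 12}
    (hf : ∀ j a, Ok σ j a → w * x j a * w⁻¹ = x (f j) a) : (f = id → w = 1) ∧ (∀ c, f = (fun j => 2 * c + 6 - j) → w = nn x c) := by
  have uniq : ∀ (g : ZMod 12 → ZMod 12) (j : ZMod 12), w * x j 1 * w⁻¹ = x (g j) 1 → g j = f j := by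
    intro g j e
    have e2 := hf j 1 (ok_one σ j)
    rw [e] at e2
    exact h.root_unique (ok_one σ _) (ok_one σ _) one_ne_zero e2
  rcases hw with ⟨m, rfl⟩ | ⟨d, rfl⟩
  · have h1 := uniq (fun j => j + 2 * m) 0 (h.rot_pow m 0 (ok_one σ 0))
    have h2 := uniq (fun j => j + 2 * m) 1 (h.rot_pow m 1 (ok_one σ 1))
    beta_reduce at h1 h2
    constructor
    · rintro rfl
      -- `2 m = 0`
      have h3 : ((2 * m : ℕ) : ZMod 12) = 0 := by
        push_cast
        simpa only [_root_.zero_add, _root_.id_eq] using h1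
      rw [ZMod.natCast_eq_zero_iff] at h3
      obtain ⟨r, hr⟩ : 6 ∣ m := by omega
      rw [hr, pow_mul, h.rho_pow_six, one_pow]
    · rintro c rfl
      exfalso
      have : ∀ m c : ZMod 12, 0 + 2 * m = 2 * c + 6 - 0 → 1 + 2 * m = 2 * c + 6 - 1 → False := by decide +kernel
      exact this _ _ h1 h2
  · have h1 := uniq (fun j => 2 * d + 6 - j) 0 (h.refl d 0 (ok_one σ 0))
    have h2 := uniq (fun j => 2 * d + 6 - j) 1 (h.refl d 1 (ok_one σ 1))
    beta_reduce at h1 h2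
    constructor
    · rintro rfl
      exfalso
      have : ∀ d : ZMod 12, 2 * d + 6 - 0 = 0 → 2 * d + 6 - 1 = 1 → False := by decide
      exact this _ h1 h2
    · rintro c rfl
      have : ∀ d c : ZMod 12, 2 * d + 6 - 0 = 2 * c + 6 - 0 → d = c ∨ d = c + 6 := by decide +kernel
      rcases this _ _ h1 with rfl | rfl
      · rfl
      · exact h.nn_opp c

/-! ### The normaliser of `U` -/

theorem mem_normalizer_U [Finite E] {g : Γ} (hg : g ∈ AA σ x) (hn : ∀ u ∈ UU σ x, g * u * g⁻¹ ∈ UU σ x) :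
    ∃ u ∈ UU σ x, ∃ t ∈ h.H, g = u * t := by
  obtain ⟨u, hu, t, ht, w, hw, u', hu', rfl⟩ := h.bruhat hg
  have hwn : ∀ y ∈ UU σ x, w * y * w⁻¹ ∈ UU σ x := by
    intro y hy
    have h1 := hn (u'⁻¹ * y * u') (mul_mem (mul_mem (inv_mem hu') hy) hu')
    have h2 := mul_mem (mul_mem (inv_mem hu) h1) hu
    have h3 := h.H_conj_gen' ht _ h2
    have e : t⁻¹ * (u⁻¹ * (u * t * w * u' * (u'⁻¹ * y * u') * (u * t * w * u')⁻¹) * u) * t = w * y * w⁻¹ := by
      group
    rwa [e] at h3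
  obtain ⟨e, c, he, hc, hact⟩ := h.isW_act hw
  have hid : e = 1 ∧ c = 0 := by
    refine weyl_id e c he hc fun k hk => ?_
    -- `x (e k + c) 1 ∈ U`
    have h1 := hwn (x k 1) (x_mem_gen hk (ok_one σ k))
    rw [hact k 1 (ok_one σ k)] at h1
    by_contra hneg
    have h2 : (e * k + c - 7).val < 6 := by
      have : ∀ j : ZMod 12, ¬ (j - 1).val < 6 → (j - 7).val < 6 := by decide
      exact this _ hneg
    have h3 : x (e * k + c) 1 ∈ gen σ x (arc (1 + 6) 6) := x_mem_gen (by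
      rw [mem_arc, show (1 : ZMod 12) + 6 = 7 by ring]
      exact h2) (ok_one σ _)
    exact one_ne_zero (h.inj _ _ (ok_one σ _) (h.opp_one h1 h3))
  have hw1 : w = 1 := by
    refine (h.isW_faithful hw (f := fun j => e * j + c) hact).1 ?_
    funext j
    rw [hid.1, hid.2]
    simp
  subst hw1
  refine ⟨u * (t * u' * t⁻¹), mul_mem hu (h.H_conj_gen ht _ hu'), t, ht, ?_⟩
  group

end HexTwo

end Cfsg.Agent.StdRank2.Hex
end

-- part: StdRank2/HexPar
section
/-!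
# The centraliser and the normaliser of a long root group
-/

set_option autoImplicit false

namespace Cfsg.Agent.StdRank2.Hex

open Cfsg.Agent.SplitTwo
open scoped commutatorElement Pointwise

/-- elements of the Weyl group fixing the root `4` -/
theorem weyl_fix4 : ∀ e c : ZMod 12, (e = 1 ∨ e = -1) → c.val % 2 = 0 → e * 4 + c = 4 →
    (∀ j, e * j + c = j) ∨ (∀ j, e * j + c = 2 * 1 + 6 - j) := by
  decide +kernel

/-- elements of the Weyl group fixing the root `3` -/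
theorem weyl_fix3 : ∀ e c : ZMod 12, (e = 1 ∨ e = -1) → c.val % 2 = 0 → e * 3 + c = 3 →
    (∀ j, e * j + c = j) ∨ (∀ j, e * j + c = 2 * 6 + 6 - j) := by
  decide +kernel

namespace HexTwo

variable {E : Type*} [Field E] {σ : E ≃+* E} {Γ : Type*} [Group Γ] {x : ZMod 12 → E → Γ} (h : HexTwo σ x)

include h

/-- root elements at distance `≤ 3` from a long root commute with it -/
theorem comm_long {k l : ZMod 12} (hk : k.val % 2 = 0) (hkl : (l - (k - 3)).val < 7) {t a : E} (ht : Ok σ k t)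
    (ha : Ok σ l a) : Commute (x k t) (x l a) := by
  have ht' : σ t = t := ht hk
  have key : ∀ k l : ZMod 12, (l - (k - 3)).val < 7 → l = k ∨ (l = k + 1 ∨ l = k + 2 ∨ l = k + 3) ∨
      (k = l + 1 ∨ k = l + 2 ∨ k = l + 3) := by decide +kernel
  rcases key k l hkl with rfl | (rfl | rfl | rfl) | (rfl | rfl | rfl)
  · exact h.x_comm_same ht ha
  · exact commutatorElement_eq_one_iff_commute.1 (h.commL1 hk ht' a)
  · exact commutatorElement_eq_one_iff_commute.1 (h.commL2 hk ht' (ha (by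
      have : ∀ k : ZMod 12, k.val % 2 = 0 → (k + 2).val % 2 = 0 := by decide
      exact this k hk)))
  · exact commutatorElement_eq_one_iff_commute.1 (h.commL3 hk ht' a)
  · have hl : l.val % 2 = 1 := by
      have : ∀ k : ZMod 12, (k + 1).val % 2 = 0 → k.val % 2 = 1 := by decide
      exact this l hk
    exact (commutatorElement_eq_one_iff_commute.1 (h.commS1 hl a ht')).symm
  · have hl : l.val % 2 = 0 := by
      have : ∀ k : ZMod 12, (k + 2).val % 2 = 0 → k.val % 2 = 0 := by decide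
      exact this l hk
    exact (commutatorElement_eq_one_iff_commute.1 (h.commL2 hl (ha hl) ht')).symm
  · have hl : l.val % 2 = 1 := by
      have : ∀ k : ZMod 12, (k + 3).val % 2 = 0 → k.val % 2 = 1 := by decide
      exact this l hk
    exact (commutatorElement_eq_one_iff_commute.1 (h.commS3 hl a ht')).symm

omit h in
theorem comm_gen {k : ZMod 12} {t : E} {S : Set (ZMod 12)}
    (hS : ∀ l ∈ S, ∀ a, Ok σ l a → Commute (x k t) (x l a)) {g : Γ} (hg : g ∈ gen σ x S) : Commute (x k t) g := by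
  have key : gen σ x S ≤ Subgroup.centralizer {x k t} := gen_le fun l hl a ha => by
    rw [Subgroup.mem_centralizer_iff]
    intro y hy
    rw [Set.mem_singleton_iff] at hy
    subst hy
    exact (hS l hl a ha).eq
  have := (Subgroup.mem_centralizer_iff.1 (key hg)) (x k t) (Set.mem_singleton _)
  exact this

/-- `⟨X (k-3), …, X (k+3)⟩` centralises the long root group `X k` -/
theorem comm_gen_long {k : ZMod 12} (hk : k.val % 2 = 0) {t : E} (ht : Ok σ k t) {g : Γ}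
    (hg : g ∈ gen σ x (arc (k - 3) 7)) : Commute (x k t) g :=
  comm_gen (fun _ hl _ ha => h.comm_long hk hl ht ha) hg

omit h in
theorem nn_mem_gen {S : Set (ZMod 12)} {k : ZMod 12} (h1 : k ∈ S) (h2 : k + 6 ∈ S) : nn x k ∈ gen σ x S :=
  mul_mem (mul_mem (x_mem_gen h1 (ok_one σ k)) (x_mem_gen h2 (ok_one σ _))) (x_mem_gen h1 (ok_one σ k))

omit h in
theorem hh_mem_gen {S : Set (ZMod 12)} {k : ZMod 12} (h1 : k ∈ S) (h2 : k + 6 ∈ S) {t : E} (ht : Ok σ k t) :
    hh x k t ∈ gen σ x S :=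
  mul_mem (mul_mem (mul_mem (x_mem_gen h1 ht) (x_mem_gen h2 (ht.inv.congr (val_add_6 k)))) (x_mem_gen h1 ht))
    (nn_mem_gen h1 h2)

/-- **Transporters of long root elements.** -/
theorem long_transport [Finite E] {g : Γ} (hg : g ∈ AA σ x) {t t' : E} (ht : σ t = t) (ht' : σ t' = t') (ht0 : t ≠ 0)
    (e : g * x 4 t * g⁻¹ = x 4 t') : ∃ p ∈ gen σ x (arc 1 7), ∃ b : E, b ≠ 0 ∧ σ b = b ∧ b * t = t' ∧ g = p * hh x 6 b := by
  have hlong : ∀ {b : E}, σ b = b → ∀ {y : Γ}, y ∈ UU σ x → Commute (x 4 b) y := fun hb y hy =>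
    h.comm_gen_long (k := 4) (by decide) (ok_of_fix _ hb) (gen_mono (by
      intro l hl
      rw [mem_arc] at hl ⊢
      rw [show (4 : ZMod 12) - 3 = 1 by ring]
      omega) hy)
  obtain ⟨u, hu, s, hs, w, hw, u', hu', rfl⟩ := h.bruhat hg
  obtain ⟨c, hc0, hc, hsx⟩ := h.H_diag hs 4
  -- `w x4(t) w⁻¹ = x4(c⁻¹ t')`
  have hok' : Ok σ (4 : ZMod 12) (c⁻¹ * t') := hc.inv.mul (ok_of_fix _ ht')
  have e1 : w * x 4 t * w⁻¹ = x 4 (c⁻¹ * t') := by
    have c1 := (hlong ht hu').eq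
    have c2 := (hlong ht' hu).eq
    have c3 := hsx _ hok'
    rw [mul_inv_cancel_left₀ hc0] at c3
    have e2 : w * x 4 t * w⁻¹ = s⁻¹ * (u⁻¹ * (u * s * w * u' * (u'⁻¹ * x 4 t * u') * (u * s * w * u')⁻¹) * u) * s := by
      group
    have e3 : u'⁻¹ * x 4 t * u' = x 4 t := by rw [mul_assoc, c1]; group
    rw [e2, e3, e]
    have e4 : u⁻¹ * x 4 t' * u = x 4 t' := by rw [mul_assoc, c2]; group
    rw [e4, ← c3]
    group
  obtain ⟨ε, d, hε, hd, hact⟩ := h.isW_act hw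
  have h4 : ε * 4 + d = 4 := by
    rw [hact 4 t (ok_of_fix _ ht)] at e1
    exact h.root_unique (by
      have : (ε * 4 + d).val % 2 = 0 := by
        have : ∀ ε d : ZMod 12, (ε = 1 ∨ ε = -1) → d.val % 2 = 0 → (ε * 4 + d).val % 2 = 0 := by decide +kernel
        exact this ε d hε hd
      exact ok_of_fix _ ht) hok' ht0 e1
  have hwP : w ∈ gen σ x (arc 1 7) := by
    rcases weyl_fix4 ε d hε hd h4 with hf | hf
    · have : w = 1 := (h.isW_faithful hw (f := fun j => ε * j + d) hact).1 (by funext j; exact hf j)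
      rw [this]
      exact one_mem _
    · have : w = nn x 1 := (h.isW_faithful hw (f := fun j => ε * j + d) hact).2 1 (by funext j; exact hf j)
      rw [this]
      exact nn_mem_gen (by rw [mem_arc]; decide) (by rw [mem_arc]; decide)
  have hUP : UU σ x ≤ gen σ x (arc 1 7) := gen_mono (arc_mono (by norm_num))
  -- `s = hh 1 a * hh 6 b`
  have hs' := hs
  obtain ⟨a, b, ha0, hb0, hb, rfl⟩ := hs'
  set s := hh x 1 a * hh x 6 b with hsdef
  have ha : hh x 1 a ∈ gen σ x (arc 1 7) := hh_mem_gen (by rw [mem_arc]; decide) (by rw [mem_arc]; decide) (ok1 a)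
  have h6 : hh x 6 b ∈ h.H := h.hh6_mem_H hb0 hb
  refine ⟨u * hh x 1 a * (hh x 6 b * (w * u') * (hh x 6 b)⁻¹), mul_mem (mul_mem (hUP hu) ha)
    (h.H_conj_gen h6 _ (mul_mem hwP (hUP hu'))), b, hb0, hb, ?_, by rw [hsdef]; group⟩
  -- the scalar
  have hPc : ∀ {y : Γ}, y ∈ gen σ x (arc 1 7) → Commute (x 4 t) y := fun hy =>
    h.comm_gen_long (k := 4) (by decide) (ok_of_fix _ ht) hy
  have e5 : u * s * w * u' * x 4 t * (u * s * w * u')⁻¹ = u * (s * x 4 t * s⁻¹) * u⁻¹ := by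
    have := (hPc (mul_mem hwP (hUP hu'))).eq
    calc u * s * w * u' * x 4 t * (u * s * w * u')⁻¹ = u * s * ((w * u') * x 4 t) * (u * s * w * u')⁻¹ := by group
      _ = u * s * (x 4 t * (w * u')) * (u * s * w * u')⁻¹ := by rw [this]
      _ = _ := by group
  rw [e5, hsdef, h.H_act ha0 hb0 hb (ok_of_fix _ ht)] at e
  have e6 : ch σ 1 (4 - 1) a * ch σ 6 (4 - 6) b * t = b * t := by
    change 1 * b * t = b * t
    rw [one_mul]
  rw [e6] at e
  have hbt : σ (b * t) = b * t := by rw [map_mul, hb, ht]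
  have e7 : u * x 4 (b * t) * u⁻¹ = x 4 (b * t) := by
    rw [← (hlong hbt hu).eq]; group
  rw [e7, h.x_inj (ok_of_fix _ hbt) (ok_of_fix _ ht')] at e
  exact e

/-- **The centraliser of a long root element is `P₁ = ⟨X 1, …, X 7⟩`.** -/
theorem mem_centralizer_x4 [Finite E] {g : Γ} (hg : g ∈ AA σ x) {t : E} (ht : σ t = t) (ht0 : t ≠ 0) :
    g * x 4 t * g⁻¹ = x 4 t ↔ g ∈ gen σ x (arc 1 7) := by
  constructor
  · intro e
    obtain ⟨p, hp, b, hb0, hb, hbt, rfl⟩ := h.long_transport hg ht ht ht0 e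
    have : b = 1 := by
      have : b * t = 1 * t := by rw [hbt, one_mul]
      exact mul_right_cancel₀ ht0 this
    rw [this, h.hh_one, mul_one]
    exact hp
  · intro hp
    have := (h.comm_gen_long (k := 4) (by decide) (ok_of_fix _ ht) hp).eq
    rw [← this]
    group

end HexTwo

end Cfsg.Agent.StdRank2.Hex
end

-- part: StdRank2/HexSylow
section
/-!
# `U` is a Sylow 2-subgroup of every subgroup between `U` and `A`
-/

set_option autoImplicit false

namespace Cfsg.Agent.StdRank2.Hex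

open Cfsg.Agent.SplitTwo
open scoped commutatorElement Pointwise

namespace HexTwo

variable {E : Type*} [Field E] {σ : E ≃+* E} {Γ : Type*} [Group Γ] {x : ZMod 12 → E → Γ} (h : HexTwo σ x)

include h

theorem exists_card [Finite E] : ∃ n : ℕ, 1 ≤ n ∧ Nat.card E = 2 ^ n := by
  have : Fintype E := Fintype.ofFinite E
  have h2 : CharP E 2 := by
    refine ⟨fun m => ?_⟩
    constructor
    · intro hm
      by_contra hodd
      have : m % 2 = 1 := by omega
      have h1 : (m : E) = 1 := by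
        rw [← Nat.div_add_mod m 2, this]
        push_cast
        rw [h.two]
        ring
      rw [h1] at hm
      exact one_ne_zero hm
    · rintro ⟨r, rfl⟩
      push_cast
      rw [h.two, zero_mul]
  obtain ⟨n, -, hn⟩ := FiniteField.card E 2
  exact ⟨n, n.2, by rw [Nat.card_eq_fintype_card, hn]⟩

theorem exists_card_fix [Finite E] : ∃ n : ℕ, 1 ≤ n ∧ Nat.card {a : E // σ a = a} = 2 ^ n := by
  -- the additive group of fixed elements is a 2-group
  obtain ⟨m, hm1, hm⟩ := h.exists_card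
  let F : AddSubgroup E :=
    { carrier := {a | σ a = a}
      add_mem' := fun {a b} ha hb => by
        rw [Set.mem_ofPred_eq] at *
        rw [map_add, ha, hb]
      zero_mem' := map_zero σ
      neg_mem' := fun {a} ha => by
        rw [Set.mem_ofPred_eq] at *
        rw [map_neg, ha] }
  have h1 : Nat.card F ∣ Nat.card E := F.card_addSubgroup_dvd_card
  rw [hm] at h1
  obtain ⟨n, -, hn⟩ := (Nat.dvd_prime_pow Nat.prime_two).1 h1
  refine ⟨n, ?_, hn⟩
  by_contra h0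
  have hn0 : n = 0 := by omega
  rw [hn0, pow_zero] at hn
  have : Subsingleton F := (Nat.card_eq_one_iff_unique.1 hn).1
  have := Subsingleton.elim (⟨0, map_zero σ⟩ : F) ⟨1, map_one σ⟩
  exact zero_ne_one (congrArg Subtype.val this)

theorem isPGroup_U [Finite E] : IsPGroup 2 (UU σ x) := by
  obtain ⟨m, -, hm⟩ := h.exists_card
  obtain ⟨n, -, hn⟩ := h.exists_card_fix
  refine IsPGroup.of_card (n := 3 * m + 3 * n) ?_
  rw [UU, h.card_U, hm, hn]
  ring

/-- torus elements have odd order -/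
theorem H_pow [Finite E] {g : Γ} (hg : g ∈ h.H) : g ^ (Nat.card E - 1) = 1 := by
  obtain ⟨s, t, hs, ht, ht', rfl⟩ := hg
  have : Fintype E := Fintype.ofFinite E
  have key : ∀ l : ZMod 12, ∀ u : E, u ≠ 0 → Ok σ l u → hh x l u ^ (Nat.card E - 1) = 1 := by
    intro l u hu hok
    have hp : ∀ n : ℕ, hh x l u ^ n = hh x l (u ^ n) := by
      intro n
      induction n with
      | zero => rw [pow_zero, pow_zero, h.hh_one]
      | succ n ih =>
        rw [pow_succ, ih, pow_succ, h.hh_mul l (pow_ne_zero n hu) hu (fun h0 => by rw [map_pow, hok h0]) hok]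
    rw [hp, Nat.card_eq_fintype_card, FiniteField.pow_card_sub_one_eq_one u hu, h.hh_one]
  rw [(h.hh_commute 1 6 hs ht (ok1 s) (ok_of_fix _ ht')).mul_pow, key 1 s hs (ok1 s), key 6 t ht (ok_of_fix _ ht'),
    one_mul]

theorem H_two [Finite E] {g : Γ} (hg : g ∈ h.H) {n : ℕ} (hn : g ^ 2 ^ n = 1) : g = 1 := by
  obtain ⟨m, hm1, hm⟩ := h.exists_card
  have h1 := h.H_pow hg
  have hodd : Nat.Coprime (Nat.card E - 1) (2 ^ n) := by
    refine Nat.Coprime.pow_right n ?_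
    rw [hm, Nat.coprime_two_right]
    obtain ⟨r, rfl⟩ := Nat.exists_eq_add_of_le hm1
    rw [pow_add, pow_one]
    have : 0 < 2 ^ r := by positivity
    exact ⟨2 ^ r - 1, by omega⟩
  have h2 := orderOf_dvd_of_pow_eq_one h1
  have h3 := orderOf_dvd_of_pow_eq_one hn
  exact orderOf_eq_one_iff.1 (Nat.eq_one_of_dvd_coprimes hodd h2 h3)

/-- **`U` is a Sylow 2-subgroup of every subgroup of `A` containing it**, conjugation form. -/
theorem sylow_conj [Finite E] [Finite Γ] {S : Subgroup Γ} (hS : UU σ x ≤ S) (hSA : S ≤ AA σ x) {Q : Subgroup Γ}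
    (hQ : IsPGroup 2 Q) (hQS : Q ≤ S) : ∃ p ∈ S, ∀ y ∈ Q, p * y * p⁻¹ ∈ UU σ x := by
  have hprime : Fact (Nat.Prime 2) := ⟨Nat.prime_two⟩
  have hU2 : IsPGroup 2 ((UU σ x).subgroupOf S) :=
    h.isPGroup_U.of_equiv (Subgroup.subgroupOfEquivOfLe hS).symm
  obtain ⟨P, hP⟩ := hU2.exists_le_sylow
  -- `P = U`
  have hPU : (P : Subgroup S) ≤ (UU σ x).subgroupOf S := by
    by_contra hlt
    have hnil : Group.IsNilpotent P := P.isPGroup'.isNilpotent
    let V : Subgroup P := ((UU σ x).subgroupOf S).subgroupOf P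
    have hV : V < ⊤ := by
      rw [lt_top_iff_ne_top]
      intro e
      apply hlt
      intro y hy
      have : (⟨y, hy⟩ : P) ∈ V := by rw [e]; trivial
      exact this
    have hN := Group.normalizerCondition_of_isNilpotent (G := P) V hV
    obtain ⟨g, hgN, hgV⟩ := SetLike.exists_of_lt hN
    apply hgV
    have memP : ∀ {u : Γ} (hu : u ∈ UU σ x), (⟨u, hS hu⟩ : S) ∈ (P : Subgroup S) := fun hu =>
      hP (Subgroup.mem_subgroupOf.2 hu)
    -- `g` normalises `U`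
    have hg1 : ∀ u ∈ UU σ x, ((g : S) : Γ) * u * ((g : S) : Γ)⁻¹ ∈ UU σ x := by
      intro u hu
      have hu' : (⟨⟨u, hS hu⟩, memP hu⟩ : P) ∈ V := hu
      exact (Subgroup.mem_normalizer_iff.1 hgN _).1 hu'
    obtain ⟨u, hu, t, ht, e⟩ := h.mem_normalizer_U (hSA (g : S).2) hg1
    have ht2 : ∃ n : ℕ, t ^ 2 ^ n = 1 := by
      obtain ⟨n, hn⟩ := P.isPGroup' ((⟨⟨u, hS hu⟩, memP hu⟩ : P)⁻¹ * g)
      refine ⟨n, ?_⟩
      have h2 : (u⁻¹ * ((g : S) : Γ)) ^ 2 ^ n = 1 := congrArg (fun y : P => ((y : S) : Γ)) hn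
      rw [e, inv_mul_cancel_left] at h2
      exact h2
    obtain ⟨n, hn⟩ := ht2
    have ht1 := h.H_two ht hn
    rw [ht1, mul_one] at e
    change ((g : S) : Γ) ∈ UU σ x
    rw [e]
    exact hu
  have hQ2 : IsPGroup 2 (Q.subgroupOf S) := hQ.of_equiv (Subgroup.subgroupOfEquivOfLe hQS).symm
  obtain ⟨R, hR⟩ := hQ2.exists_le_sylow
  obtain ⟨g, hg⟩ := MulAction.exists_smul_eq S R P
  refine ⟨g, g.2, fun y hy => ?_⟩
  have h1 : (⟨y, hQS hy⟩ : S) ∈ (R : Subgroup S) := hR (Subgroup.mem_subgroupOf.2 hy)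
  have h2 : g * (⟨y, hQS hy⟩ : S) * g⁻¹ ∈ ((g • R : Sylow 2 S) : Subgroup S) := by
    rw [Sylow.coe_subgroup_smul]
    exact Subgroup.smul_mem_pointwise_smul _ (MulAut.conj g) _ h1
  rw [hg] at h2
  exact hPU h2

end HexTwo

end Cfsg.Agent.StdRank2.Hex
end

private theorem dce_851fb8ca912a : _root_.True := by
  try have : _root_.True := by simp only [_root_.Cfsg.Agent.StdRank2.Hex.HexTwo.UU.eq_1]
  exact _root_.True.intro
end

-- part: TriTwo/Transport
section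
set_option linter.all false
open scoped Cfsg.Agent.FastGrp

/-!
# Transport of hexagonal root systems along injective homomorphisms
-/

set_option autoImplicit false
set_option linter.unusedSectionVars false

namespace Cfsg.Agent.TriTwo.Transport

open Cfsg.Agent.TriTwo Cfsg.Agent.StdRank2.Hex Cfsg.Agent.SplitTwo

variable {E : Type*} [Field E] {σ : E ≃+* E} {Γ Γ' : Type*} [Group Γ] [Group Γ'] (f : Γ →* Γ')
  {x : ZMod 12 → E → Γ} {x' : ZMod 12 → E → Γ'} (hx : ∀ k a, Ok σ k a → x' k a = f (x k a))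

theorem map_kk (a b : Γ) : f (kk a b) = kk (f a) (f b) := by
  unfold kk
  rw [map_mul, map_mul, map_mul, map_inv, map_inv]

include hx

theorem map_gens (S : Set (ZMod 12)) : gens σ x' S = (gens σ x S).map f := by
  apply le_antisymm
  · refine gens_le fun k hk a ha => ?_
    rw [hx k a ha]
    exact ⟨_, mem_gens hk ha, rfl⟩
  · rw [Subgroup.map_le_iff_le_comap]
    refine gens_le fun k hk a ha => ?_
    show f (x k a) ∈ gens σ x' S
    rw [← hx k a ha]
    exact mem_gens hk ha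

theorem map_nn (k : ZMod 12) : nn x' k = f (nn x k) := by
  unfold nn
  rw [hx k 1 (ok_one σ _), hx (k + 6) 1 (ok_one σ _), map_mul, map_mul]

theorem map_nt {k : ZMod 12} {t : E} (ht : Ok σ k t) : nt x' k t = f (nt x k t) := by
  unfold nt
  rw [hx k t ht, hx (k + 6) t⁻¹ (ht.inv.congr (val_add_6 k)), map_mul, map_mul]

theorem map_hh {k : ZMod 12} {t : E} (ht : Ok σ k t) : hh x' k t = f (hh x k t) := by
  unfold hh
  rw [map_nt f hx ht, map_nn f hx, map_mul]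

variable (hf : Function.Injective f)
include hf

theorem hexRel_iff : HexRel σ (x 1) (x 2) (x 3) (x 4) (x 5) (x 6) ↔
    HexRel σ (x' 1) (x' 2) (x' 3) (x' 4) (x' 5) (x' 6) := by
  have k1 : ∀ a, x' 1 a = f (x 1 a) := fun a => hx 1 a (ok_odd (by decide) a)
  have k3 : ∀ a, x' 3 a = f (x 3 a) := fun a => hx 3 a (ok_odd (by decide) a)
  have k5 : ∀ a, x' 5 a = f (x 5 a) := fun a => hx 5 a (ok_odd (by decide) a)
  have k2 : ∀ a, σ a = a → x' 2 a = f (x 2 a) := fun a ha => hx 2 a (ok_of_fix _ ha)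
  have k4 : ∀ a, σ a = a → x' 4 a = f (x 4 a) := fun a ha => hx 4 a (ok_of_fix _ ha)
  have k6 : ∀ a, σ a = a → x' 6 a = f (x 6 a) := fun a ha => hx 6 a (ok_of_fix _ ha)
  have fa : ∀ {a b : E}, σ a = a → σ b = b → σ (a + b) = a + b := fun ha hb => by rw [map_add, ha, hb]
  have fm : ∀ {a b : E}, σ a = a → σ b = b → σ (a * b) = a * b := fun ha hb => by rw [map_mul, ha, hb]
  have fn : ∀ {a : E}, σ a = a → σ (-a) = -a := fun ha => by rw [map_neg, ha]
  have fp : ∀ {a : E}, σ a = a → σ (a ^ 2) = a ^ 2 := fun ha => by rw [map_pow, ha]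
  have one : f 1 = 1 := map_one f
  constructor
  · intro h
    have ft : ∀ a b, σ (trc σ a b) = trc σ a b := trc_fix h.cube
    have fN : ∀ a, σ (nrm σ a) = nrm σ a := nrm_fix h.cube
    refine
      { cube := h.cube
        add1 := fun a b => by rw [k1, k1, k1, h.add1, map_mul]
        add2 := fun a b ha hb => by rw [k2 _ (fa ha hb), k2 a ha, k2 b hb, h.add2 a b ha hb, map_mul]
        add3 := fun a b => by rw [k3, k3, k3, h.add3, map_mul]
        add4 := fun a b ha hb => by rw [k4 _ (fa ha hb), k4 a ha, k4 b hb, h.add4 a b ha hb, map_mul]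
        add5 := fun a b => by rw [k5, k5, k5, h.add5, map_mul]
        add6 := fun a b ha hb => by rw [k6 _ (fa ha hb), k6 a ha, k6 b hb, h.add6 a b ha hb, map_mul]
        c12 := fun a t ht => by rw [k1, k2 t ht, ← map_kk, h.c12 a t ht, map_one]
        c13 := fun a b => by rw [k1, k3, k2 _ (ft a b), ← map_kk, h.c13]
        c14 := fun a t ht => by rw [k1, k4 t ht, ← map_kk, h.c14 a t ht, map_one]
        c15 := fun a b => by
          rw [k1, k5, k2 _ (fn (ft _ _)), k3, k4 _ (ft _ _), ← map_kk, h.c15, map_mul, map_mul]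
        c16 := fun a t ht => by
          rw [k1, k6 t ht, k2 _ (fn (fm ht (fN a))), k3, k4 _ (fm (fp ht) (fN a)), k5, ← map_kk, h.c16 a t ht, map_mul,
            map_mul, map_mul]
        c23 := fun t a ht => by rw [k2 t ht, k3, ← map_kk, h.c23 t a ht, map_one]
        c24 := fun t u ht hu => by rw [k2 t ht, k4 u hu, ← map_kk, h.c24 t u ht hu, map_one]
        c25 := fun t a ht => by rw [k2 t ht, k5, ← map_kk, h.c25 t a ht, map_one]
        c26 := fun t u ht hu => by rw [k2 t ht, k6 u hu, k4 _ (fm ht hu), ← map_kk, h.c26 t u ht hu]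
        c34 := fun a t ht => by rw [k3, k4 t ht, ← map_kk, h.c34 a t ht, map_one]
        c35 := fun a b => by rw [k3, k5, k4 _ (ft a b), ← map_kk, h.c35]
        c36 := fun a t ht => by rw [k3, k6 t ht, ← map_kk, h.c36 a t ht, map_one]
        c45 := fun t a ht => by rw [k4 t ht, k5, ← map_kk, h.c45 t a ht, map_one]
        c46 := fun t u ht hu => by rw [k4 t ht, k6 u hu, ← map_kk, h.c46 t u ht hu, map_one]
        c56 := fun a t ht => by rw [k5, k6 t ht, ← map_kk, h.c56 a t ht, map_one] }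
  · intro h
    have ft : ∀ a b, σ (trc σ a b) = trc σ a b := trc_fix h.cube
    have fN : ∀ a, σ (nrm σ a) = nrm σ a := nrm_fix h.cube
    refine
      { cube := h.cube
        add1 := fun a b => hf (by rw [map_mul, ← k1, ← k1, ← k1, h.add1])
        add2 := fun a b ha hb => hf (by rw [map_mul, ← k2 _ (fa ha hb), ← k2 a ha, ← k2 b hb, h.add2 a b ha hb])
        add3 := fun a b => hf (by rw [map_mul, ← k3, ← k3, ← k3, h.add3])
        add4 := fun a b ha hb => hf (by rw [map_mul, ← k4 _ (fa ha hb), ← k4 a ha, ← k4 b hb, h.add4 a b ha hb])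
        add5 := fun a b => hf (by rw [map_mul, ← k5, ← k5, ← k5, h.add5])
        add6 := fun a b ha hb => hf (by rw [map_mul, ← k6 _ (fa ha hb), ← k6 a ha, ← k6 b hb, h.add6 a b ha hb])
        c12 := fun a t ht => hf (by rw [one, map_kk, ← k1, ← k2 t ht, h.c12 a t ht])
        c13 := fun a b => hf (by rw [map_kk, ← k1, ← k3, ← k2 _ (ft a b), h.c13])
        c14 := fun a t ht => hf (by rw [one, map_kk, ← k1, ← k4 t ht, h.c14 a t ht])
        c15 := fun a b => hf (by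
          rw [map_kk, map_mul, map_mul, ← k1, ← k5, ← k2 _ (fn (ft _ _)), ← k3, ← k4 _ (ft _ _), h.c15])
        c16 := fun a t ht => hf (by
          rw [map_kk, map_mul, map_mul, map_mul, ← k1, ← k6 t ht, ← k2 _ (fn (fm ht (fN a))), ← k3,
            ← k4 _ (fm (fp ht) (fN a)), ← k5, h.c16 a t ht])
        c23 := fun t a ht => hf (by rw [one, map_kk, ← k2 t ht, ← k3, h.c23 t a ht])
        c24 := fun t u ht hu => hf (by rw [one, map_kk, ← k2 t ht, ← k4 u hu, h.c24 t u ht hu])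
        c25 := fun t a ht => hf (by rw [one, map_kk, ← k2 t ht, ← k5, h.c25 t a ht])
        c26 := fun t u ht hu => hf (by rw [map_kk, ← k2 t ht, ← k6 u hu, ← k4 _ (fm ht hu), h.c26 t u ht hu])
        c34 := fun a t ht => hf (by rw [one, map_kk, ← k3, ← k4 t ht, h.c34 a t ht])
        c35 := fun a b => hf (by rw [map_kk, ← k3, ← k5, ← k4 _ (ft a b), h.c35])
        c36 := fun a t ht => hf (by rw [one, map_kk, ← k3, ← k6 t ht, h.c36 a t ht])
        c45 := fun t a ht => hf (by rw [one, map_kk, ← k4 t ht, ← k5, h.c45 t a ht])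
        c46 := fun t u ht hu => hf (by rw [one, map_kk, ← k4 t ht, ← k6 u hu, h.c46 t u ht hu])
        c56 := fun a t ht => hf (by rw [one, map_kk, ← k5, ← k6 t ht, h.c56 a t ht]) }

/-- **Transport.** -/
theorem hexTwo_iff : HexTwo σ x ↔ HexTwo σ x' := by
  have hS : ∀ (S : Set (ZMod 12)),
      Subgroup.closure {y : Γ' | ∃ k ∈ S, ∃ a, Ok σ k a ∧ y = x' k a} =
        (Subgroup.closure {y : Γ | ∃ k ∈ S, ∃ a, Ok σ k a ∧ y = x k a}).map f := fun S => map_gens f hx S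
  have n1 := map_nn (σ := σ) f hx 1
  have n6 := map_nn (σ := σ) f hx 6
  have ch1 : ∀ (h3 : ∀ a, σ (σ (σ a)) = a) (t : E) (j : ZMod 12) (a : E), Ok σ j a → Ok σ j (chS σ (j - 1) t * a) := by
    intro h3 t j a ha
    have := ok_ch h3 (1 : ZMod 12) (j - 1) (ok_odd (k := (1 : ZMod 12)) (σ := σ) (by decide) t)
    rw [add_sub_cancel] at this
    exact Ok.mul this ha
  have ch6 : ∀ (h3 : ∀ a, σ (σ (σ a)) = a) (t : E), σ t = t → ∀ (j : ZMod 12) (a : E), Ok σ j a →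
      Ok σ j (chL (j - 6) t * a) := by
    intro h3 t ht j a ha
    have := ok_ch h3 (6 : ZMod 12) (j - 6) (ok_of_fix (k := (6 : ZMod 12)) (σ := σ) ht)
    rw [add_sub_cancel] at this
    exact Ok.mul this ha
  constructor
  · intro h
    refine
      { two := h.two
        rel := (hexRel_iff f hx hf).mp h.rel
        add := fun k a b ha hb => by rw [hx k _ (ha.add hb), hx k a ha, hx k b hb, h.add k a b ha hb, map_mul]
        inj := fun k a ha e => h.inj k a ha (hf (by rw [← hx k a ha, e, map_one]))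
        refl1 := fun j a ha => by
          rw [n1, hx j a ha, hx (8 - j) a (ha.congr (val_8_sub j)), ← h.refl1 j a ha, map_mul, map_mul, map_inv]
        refl6 := fun j a ha => by
          rw [n6, hx j a ha, hx (6 - j) a (ha.congr (val_6_sub j)), ← h.refl6 j a ha, map_mul, map_mul, map_inv]
        tor1 := fun t ht j a ha => by
          rw [map_hh f hx (ok_odd (k := (1 : ZMod 12)) (by decide) t), hx j a ha, hx j _ (ch1 h.cube t j a ha),
            ← h.tor1 t ht j a ha, map_mul, map_mul, map_inv]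
        tor6 := fun t ht ht' j a ha => by
          rw [map_hh f hx (ok_of_fix (6 : ZMod 12) ht'), hx j a ha, hx j _ (ch6 h.cube t ht' j a ha),
            ← h.tor6 t ht ht' j a ha, map_mul, map_mul, map_inv]
        opp := fun g h1 h2 => by
          rw [hS] at h1 h2
          obtain ⟨g1, hg1, e1⟩ := h1
          obtain ⟨g2, hg2, e2⟩ := h2
          have : g1 = g2 := hf (e1.trans e2.symm)
          subst this
          rw [← e1, h.opp g1 hg1 hg2, map_one] }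
  · intro h
    refine
      { two := h.two
        rel := (hexRel_iff f hx hf).mpr h.rel
        add := fun k a b ha hb => hf (by
          rw [map_mul, ← hx k _ (ha.add hb), ← hx k a ha, ← hx k b hb, h.add k a b ha hb])
        inj := fun k a ha e => h.inj k a ha (by rw [hx k a ha, e, map_one])
        refl1 := fun j a ha => hf (by
          rw [map_mul, map_mul, map_inv, ← n1, ← hx j a ha, ← hx (8 - j) a (ha.congr (val_8_sub j)), ← h.refl1 j a ha])
        refl6 := fun j a ha => hf (by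
          rw [map_mul, map_mul, map_inv, ← n6, ← hx j a ha, ← hx (6 - j) a (ha.congr (val_6_sub j)), ← h.refl6 j a ha])
        tor1 := fun t ht j a ha => hf (by
          rw [map_mul, map_mul, map_inv, ← map_hh f hx (ok_odd (k := (1 : ZMod 12)) (by decide) t), ← hx j a ha,
            ← hx j _ (ch1 h.rel.cube t j a ha), ← h.tor1 t ht j a ha])
        tor6 := fun t ht ht' j a ha => hf (by
          rw [map_mul, map_mul, map_inv, ← map_hh f hx (ok_of_fix (6 : ZMod 12) ht'), ← hx j a ha,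
            ← hx j _ (ch6 h.rel.cube t ht' j a ha), ← h.tor6 t ht ht' j a ha])
        opp := fun g h1 h2 => hf (by
          rw [map_one]
          exact h.opp (f g) (by rw [hS]; exact ⟨g, h1, rfl⟩) (by rw [hS]; exact ⟨g, h2, rfl⟩)) }

end Cfsg.Agent.TriTwo.Transport
end

-- part: TriTwo/InL
section
set_option linter.all false
open scoped Cfsg.Agent.FastGrp

/-!
# S1778, types `G₂(q)`, `³D₄(q)`: the grown root groups lie in every normal subgroup containing `A`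

`V_le` : `V r ≤ N` for all `r`; `UU_le` : `Ŝ ≤ N`.
Odd `r` : `V 1 = [V 1, h]`, `h` a torus element without fixed points; even `r` : `V 4 = [x 2 1, V 6] X 4`.
-/

set_option autoImplicit false
set_option linter.unusedSectionVars false

namespace Cfsg.Agent.TriTwo.InL

open Cfsg.Agent.StdRank2.Hex Cfsg.Agent.SplitTwo Cfsg.Agent.StdRank2.Hex.HexTwo Cfsg.Agent.HexGrow.Defs
open scoped commutatorElement

variable {E : Type*} [Field E] {σ : E ≃+* E} {G : Type*} [Group G] {x : ZMod 12 → E → G} {t : G}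
  {X V : ZMod 12 → Subgroup G}

theorem odd_idx : ∀ r : ZMod 12, r.val % 2 = 1 → ∃ k : ZMod 12, 2 * k + 6 - r = 1 := by decide
theorem even_idx : ∀ r : ZMod 12, r.val % 2 = 0 → ∃ k : ZMod 12, 2 * k + 6 - r = 4 := by decide

/-- `V 1 ≤ N` -/
theorem V1_le [Finite E] [Finite G] (h : HexTwo σ x) (hE : ∃ s : E, s ≠ 0 ∧ s ≠ 1) (g : Grown t h.H X (nn x) V)
    (hX : ∀ r y, y ∈ X r ↔ ∃ a, Ok σ r a ∧ y = x r a) {N : Subgroup G} (hN : N.Normal) (hA : AA σ x ≤ N) : V 1 ≤ N := by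
  obtain ⟨s, hs0, hs1⟩ := hE
  have hT : hh x 1 s ∈ h.H := h.hh1_mem_H hs0
  have hf : Fpf (hh x 1 s) (X 1) := by
    intro y hy e
    obtain ⟨a, ha, rfl⟩ := (hX 1 y).1 hy
    rw [h.tor 1 1 hs0 (ok1 s) ha, sub_self, ch_zero_right] at e
    have e2 := (h.x_inj ((ok1 (s ^ 2)).mul ha) ha).1 e
    by_cases ha0 : a = 0
    · rw [ha0, h.x_zero]
    · exfalso
      have e3 : s ^ 2 = 1 := mul_right_cancel₀ ha0 (by rw [e2, one_mul])
      exact hs1 (h.sq_eq_one (by rw [← sq]; exact e3))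
  have hfV := g.fpf _ hT 1 hf
  intro y hy
  obtain ⟨w, -, e⟩ := HexGrow.Tools.exists_of_fpf_nonab (A := V 1) (h := hh x 1 s) (fun a ha => g.TV _ hT 1 a ha) hfV y hy
  have hh1 : hh x 1 s ∈ N := hA (hh_mem_AA 1 (ok1 s))
  rw [← e]
  have e2 : w⁻¹ * (hh x 1 s * w * (hh x 1 s)⁻¹) = (w⁻¹ * hh x 1 s * w⁻¹⁻¹) * (hh x 1 s)⁻¹ := by group
  rw [e2]
  exact mul_mem (hN.conj_mem _ hh1 _) (inv_mem hh1)

/-- `V 4 ≤ N` -/
theorem V4_le {T : Subgroup G} (h : HexTwo σ x) (htx : ∀ k a, Ok σ k a → t * x k a = x k a * t)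
    (g : Grown t T X (nn x) V)
    (hX : ∀ r y, y ∈ X r ↔ ∃ a, Ok σ r a ∧ y = x r a) {N : Subgroup G} (hN : N.Normal) (hA : AA σ x ≤ N) : V 4 ≤ N := by
  intro y hy
  obtain ⟨a, ha, ea⟩ := (hX 4 _).1 (g.br 4 y hy)
  have ha6 : Ok σ 6 a := ha.congr (by decide)
  obtain ⟨w, hw, ew⟩ := g.onto 6 (x 6 a) ((hX 6 _).2 ⟨a, ha6, rfl⟩)
  have m2 : x 2 1 ∈ N := hA (x_mem_AA (ok_one σ 2))
  have v2 : x 2 1 ∈ V 2 := g.le 2 ((hX 2 _).2 ⟨1, ok_one σ 2, rfl⟩)
  have v6 : x 6 a ∈ V 6 := g.le 6 ((hX 6 _).2 ⟨a, ha6, rfl⟩)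
  have y4 : ⁅x 2 1, w⁆ ∈ V 4 := g.l4 2 (by unfold Ev; decide) _ v2 _ hw
  have yN : ⁅x 2 1, w⁆ ∈ N := by
    have e : ⁅x 2 1, w⁆ = x 2 1 * (w * (x 2 1)⁻¹ * w⁻¹) := by rw [commutatorElement_def]; group
    rw [e]
    exact mul_mem m2 (hN.conj_mem _ (inv_mem m2) _)
  set y' := ⁅x 2 1, w⁆ with hy'
  have c46 : y' * x 6 a = x 6 a * y' := g.l2 4 (by unfold Ev; decide) _ y4 _ v6
  have c26 : ⁅x 2 1, x 6 a⁆ = x 4 a := by
    have := h.commL4 (k := 2) (by decide) (t := 1) (u := a) (map_one σ) (ha (by decide))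
    rw [one_mul, show (2 : ZMod 12) + 4 = 6 from rfl, show (2 : ZMod 12) + 2 = 4 from rfl] at this
    exact this
  have tw : t * w * t⁻¹ = x 6 a * w := by
    rw [← ew, commutatorElement_def]; group
  have t2 : t * x 2 1 * t⁻¹ = x 2 1 := by rw [htx 2 1 (ok_one σ 2), mul_inv_cancel_right]
  have ty' : t * y' * t⁻¹ = x 4 a * y' := by
    calc t * y' * t⁻¹ = ⁅t * x 2 1 * t⁻¹, t * w * t⁻¹⁆ := by
          rw [HexTwo.conj_comm]
      _ = ⁅x 2 1, x 6 a * w⁆ := by rw [t2, tw]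
      _ = ⁅x 2 1, x 6 a⁆ * (x 6 a * y' * (x 6 a)⁻¹) := by
          rw [hy', commutatorElement_def, commutatorElement_def, commutatorElement_def]; group
      _ = x 4 a * y' := by rw [c26, ← c46, mul_inv_cancel_right]
  have ty : t * y * t⁻¹ = x 4 a * y := by
    rw [← ea, commutatorElement_def]; group
  have e3 : t * (y'⁻¹ * y) * t⁻¹ = y'⁻¹ * y := by
    calc t * (y'⁻¹ * y) * t⁻¹ = (t * y' * t⁻¹)⁻¹ * (t * y * t⁻¹) := by group
      _ = y'⁻¹ * y := by rw [ty', ty]; group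
  have e4 := g.fix 4 (y'⁻¹ * y) (mul_mem (inv_mem y4) hy) (mul_inv_eq_iff_eq_mul.1 e3).symm
  obtain ⟨b, hb, e5⟩ := (hX 4 _).1 e4
  have e6 : y = y' * (y'⁻¹ * y) := by group
  rw [e6, e5]
  exact mul_mem yN (hA (x_mem_AA hb))

/-- **`V r ≤ N`.** -/
theorem V_le [Finite E] [Finite G] (h : HexTwo σ x) (hE : ∃ s : E, s ≠ 0 ∧ s ≠ 1)
    (htx : ∀ k a, Ok σ k a → t * x k a = x k a * t) (g : Grown t h.H X (nn x) V)
    (hX : ∀ r y, y ∈ X r ↔ ∃ a, Ok σ r a ∧ y = x r a) {N : Subgroup G} (hN : N.Normal) (hA : AA σ x ≤ N) (r : ZMod 12) :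
    V r ≤ N := by
  have back : ∀ k : ZMod 12, V (2 * k + 6 - r) ≤ N → V r ≤ N := by
    intro k hk y hy
    have h1 := hk (g.nV k r y hy)
    have h2 := hN.conj_mem _ h1 (nn x k)⁻¹
    have e : (nn x k)⁻¹ * (nn x k * y * (nn x k)⁻¹) * (nn x k)⁻¹⁻¹ = y := by group
    rwa [e] at h2
  rcases Nat.mod_two_eq_zero_or_one r.val with hr | hr
  · obtain ⟨k, hk⟩ := even_idx r hr
    refine back k ?_
    rw [hk]
    exact V4_le h htx g hX hN hA
  · obtain ⟨k, hk⟩ := odd_idx r hr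
    refine back k ?_
    rw [hk]
    exact V1_le h hE g hX hN hA

/-- **`Ŝ ≤ N`.** -/
theorem UU_le [Finite E] [Finite G] (h : HexTwo σ x) (hE : ∃ s : E, s ≠ 0 ∧ s ≠ 1)
    (htx : ∀ k a, Ok σ k a → t * x k a = x k a * t) (g : Grown t h.H X (nn x) V)
    (hX : ∀ r y, y ∈ X r ↔ ∃ a, Ok σ r a ∧ y = x r a) {N : Subgroup G} (hN : N.Normal) (hA : AA σ x ≤ N) (r : ZMod 12) :
    Cfsg.Agent.HexGrow.Defs.UU V r ≤ N := by
  have key := fun r => V_le h hE htx g hX hN hA r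
  unfold Cfsg.Agent.HexGrow.Defs.UU
  exact sup_le (sup_le (sup_le (sup_le (sup_le (key _) (key _)) (key _)) (key _)) (key _)) (key _)

end Cfsg.Agent.TriTwo.InL
end

-- part: HexEight/SplitA
section
prune_inst 0x100000182200000018000000000000000000000000000000a005020000000020000001082005040200005020040040001000100020000000000000000400000000100000000000020000000000000000000000000000000000000000000000000000000
set_option linter.all false
open scoped Cfsg.Agent.FastGrp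

-- part: HexEight/Def
section
/-!
# S1778, types `G₂(q)`, `³D₄(q)`: structure constants of the grown group (interface)

`Gr σ x t V`: a hexagonal root system `x` (HexTwo) of a small group commuting with the involution `t`, and the twelve
doubled root groups `V k`.  It follows from `HexGrow.Defs.Grown`, see `gr_of_grown`.
-/

set_option autoImplicit false

namespace Cfsg.Agent.HexEight.Def

open Cfsg.Agent.StdRank2.Hex Cfsg.Agent.SplitTwo Cfsg.Agent.StdRank2.Hex.HexTwo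
open scoped commutatorElement

variable {E : Type*} [Field E] (σ : E ≃+* E) {G : Type*} [Group G] (x : ZMod 12 → E → G) (t : G)
  (V : ZMod 12 → Subgroup G)

/-- The grown root groups. -/
structure Gr : Prop where
  hex : HexTwo σ x
  tt : t * t = 1
  tx : ∀ k a, Ok σ k a → t * x k a = x k a * t
  le : ∀ k a, Ok σ k a → x k a ∈ V k
  sq : ∀ k, ∀ y ∈ V k, y * y = 1
  br : ∀ k, ∀ y ∈ V k, ∃ a, Ok σ k a ∧ ⁅t, y⁆ = x k a
  onto : ∀ k a, Ok σ k a → ∃ y ∈ V k, ⁅t, y⁆ = x k a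
  fix : ∀ k, ∀ y ∈ V k, y * t = t * y → ∃ a, Ok σ k a ∧ y = x k a
  h1V : ∀ s, s ≠ 0 → ∀ k, ∀ y ∈ V k, hh x 1 s * y * (hh x 1 s)⁻¹ ∈ V k
  h6V : ∀ s, s ≠ 0 → σ s = s → ∀ k, ∀ y ∈ V k, hh x 6 s * y * (hh x 6 s)⁻¹ ∈ V k
  nV : ∀ c k, ∀ y ∈ V k, nn x c * y * (nn x c)⁻¹ ∈ V (2 * c + 6 - k)
  c1 : ∀ r, ∀ a ∈ V r, ∀ b ∈ V (r + 1), a * b = b * a
  c3 : ∀ r, ∀ a ∈ V r, ∀ b ∈ V (r + 3), a * b = b * a
  l2 : ∀ r : ZMod 12, r.val % 2 = 0 → ∀ a ∈ V r, ∀ b ∈ V (r + 2), a * b = b * a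
  l4 : ∀ r : ZMod 12, r.val % 2 = 0 → ∀ a ∈ V r, ∀ b ∈ V (r + 4), ⁅a, b⁆ ∈ V (r + 2)
  s2 : ∀ r : ZMod 12, r.val % 2 = 1 → ∀ a ∈ V r, ∀ b ∈ V (r + 2), ⁅a, b⁆ ∈ V (r + 1)
  s4 : ∀ r : ZMod 12, r.val % 2 = 1 → ∀ a ∈ V r, ∀ b ∈ V (r + 4), ⁅a, b⁆ ∈ V (r + 1) ⊔ V (r + 2) ⊔ V (r + 3)
  c5 : ∀ r, ∀ a ∈ V r, ∀ b ∈ V (r + 5), ⁅a, b⁆ ∈ V (r + 1) ⊔ V (r + 2) ⊔ V (r + 3) ⊔ V (r + 4)
  /-- unique normal form -/
  nf : ∀ a₁ ∈ V 1, ∀ a₂ ∈ V 2, ∀ a₃ ∈ V 3, ∀ a₄ ∈ V 4, ∀ a₅ ∈ V 5, ∀ a₆ ∈ V 6,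
    ∀ b₁ ∈ V 1, ∀ b₂ ∈ V 2, ∀ b₃ ∈ V 3, ∀ b₄ ∈ V 4, ∀ b₅ ∈ V 5, ∀ b₆ ∈ V 6,
    a₁ * a₂ * a₃ * a₄ * a₅ * a₆ = b₁ * b₂ * b₃ * b₄ * b₅ * b₆ →
    a₁ = b₁ ∧ a₂ = b₂ ∧ a₃ = b₃ ∧ a₄ = b₄ ∧ a₅ = b₅ ∧ a₆ = b₆

variable {σ x t V}

/-- the instance from the growth -/
theorem gr_of_grown (hx : HexTwo σ x) (htt : t * t = 1) (htx : ∀ k a, Ok σ k a → t * x k a = x k a * t)
    {T : Subgroup G} {X : ZMod 12 → Subgroup G} (hX : ∀ k g, g ∈ X k ↔ ∃ a, Ok σ k a ∧ g = x k a)
    (hT1 : ∀ s, s ≠ 0 → hh x 1 s ∈ T) (hT6 : ∀ s, s ≠ 0 → σ s = s → hh x 6 s ∈ T)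
    (g : HexGrow.Defs.Grown t T X (nn x) V) : Gr σ x t V where
  hex := hx
  tt := htt
  tx := htx
  le k a ha := g.le k ((hX k _).2 ⟨a, ha, rfl⟩)
  sq := g.sq
  br k y hy := (hX k _).1 (g.br k y hy)
  onto k a ha := g.onto k _ ((hX k _).2 ⟨a, ha, rfl⟩)
  fix k y hy e := (hX k _).1 (g.fix k y hy e)
  h1V s hs k y hy := g.TV _ (hT1 s hs) k y hy
  h6V s hs hs' k y hy := g.TV _ (hT6 s hs hs') k y hy
  nV := g.nV
  c1 := g.c1
  c3 := g.c3
  l2 r hr := g.l2 r hr
  l4 r hr := g.l4 r hr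
  s2 r hr := g.s2 r (by unfold HexGrow.Defs.Ev; omega)
  s4 r hr := g.s4 r (by unfold HexGrow.Defs.Ev; omega)
  c5 := g.c5
  nf := g.nf 1

end Cfsg.Agent.HexEight.Def
end

-- part: HexEight/Sec
section
/-!
# Equivariant sections of elementary abelian 2-groups

`exists_section`: an additive surjection `π` from an elementary abelian 2-subgroup `V` onto `A`, equivariant under a
finite group of odd order, has an additive equivariant section (average a linear section).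
-/

set_option autoImplicit false

namespace Cfsg.Agent.HexEight.Sec

theorem comm_of_sq {G : Type*} [Group G] (h : ∀ y : G, y * y = 1) (a b : G) : a * b = b * a := by
  have ha : a⁻¹ = a := inv_eq_of_mul_eq_one_left (h a)
  have hb : b⁻¹ = b := inv_eq_of_mul_eq_one_left (h b)
  have hab : (a * b)⁻¹ = a * b := inv_eq_of_mul_eq_one_left (h (a * b))
  rw [← hab, mul_inv_rev, ha, hb]

/-- additive version: `M` and `A` of exponent two -/
theorem exists_section_add {M A : Type*} [AddCommGroup M] [AddCommGroup A] (hM : ∀ m : M, m + m = 0)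
    (hA : ∀ a : A, a + a = 0) (π : M →+ A) (hs : Function.Surjective π) {T : Type*} [Group T] [Finite T]
    (hT : Odd (Nat.card T)) (η : T → M →+ M) (χ : T → A →+ A) (hη : ∀ p q m, η (p * q) m = η p (η q m))
    (hη1 : ∀ m, η 1 m = m) (hπ : ∀ p m, π (η p m) = χ p (π m)) :
    ∃ z : A →+ M, (∀ a, π (z a) = a) ∧ ∀ p a, η p (z a) = z (χ p a) := by
  classical
  let _ : Module (ZMod 2) M := AddCommGroup.zmodModule (n := 2) (fun m => by rw [two_nsmul, hM])
  let _ : Module (ZMod 2) A := AddCommGroup.zmodModule (n := 2) (fun m => by rw [two_nsmul, hA])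
  obtain ⟨s, hs'⟩ := LinearMap.exists_rightInverse_of_surjective (AddMonoidHom.toZModLinearMap 2 π)
    (LinearMap.range_eq_top.2 hs)
  have hs1 : ∀ a, π (s a) = a := fun a => LinearMap.congr_fun hs' a
  have : Fintype T := Fintype.ofFinite T
  have hχ : ∀ p q a, χ (p * q) a = χ p (χ q a) := by
    intro p q a
    rw [← hs1 a, ← hπ, hη, hπ, hπ]
  have hχ1 : ∀ a, χ 1 a = a := by
    intro a
    nth_rewrite 1 [← hs1 a]
    rw [← hπ, hη1, hs1]
  have odd_smul : ∀ a : A, Fintype.card T • a = a := by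
    intro a
    obtain ⟨k, hk⟩ := hT
    rw [← Nat.card_eq_fintype_card, hk, add_smul, one_smul, mul_comm, mul_smul, two_nsmul, hA, smul_zero, zero_add]
  let z : A →+ M := ∑ p : T, (η p⁻¹).comp (s.toAddMonoidHom.comp (χ p))
  have hz : ∀ a, z a = ∑ p : T, η p⁻¹ (s (χ p a)) := by
    intro a
    simp [z]
  refine ⟨z, fun a => ?_, fun q a => ?_⟩
  · rw [hz, map_sum]
    have : ∀ p : T, π (η p⁻¹ (s (χ p a))) = a := by
      intro p
      rw [hπ, hs1, ← hχ, inv_mul_cancel, hχ1]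
    rw [Finset.sum_congr rfl (fun p _ => this p), Finset.sum_const, Finset.card_univ, odd_smul]
  · rw [hz, hz, map_sum]
    refine Fintype.sum_equiv (Equiv.mulRight q⁻¹) _ _ (fun p => ?_)
    rw [Equiv.coe_mulRight, ← hη, ← hχ, mul_inv_rev, inv_inv, mul_assoc p, inv_mul_cancel, mul_one]

/-- multiplicative version -/
theorem exists_section {G : Type*} [Group G] {V : Subgroup G} (hsq : ∀ y ∈ V, y * y = 1) {A : Type*}
    [AddCommGroup A] (hA : ∀ a : A, a + a = 0) (π : V → A) (hπ : ∀ y y', π (y * y') = π y + π y')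
    (hs : Function.Surjective π) {T : Type*} [Group T] [Finite T] (hT : Odd (Nat.card T)) (η : T →* G)
    (hη : ∀ p, ∀ y ∈ V, η p * y * (η p)⁻¹ ∈ V) (χ : T → A → A) (hχ : ∀ p a b, χ p (a + b) = χ p a + χ p b)
    (hπη : ∀ p (y : V), π ⟨η p * y * (η p)⁻¹, hη p y y.2⟩ = χ p (π y)) :
    ∃ z : A → G, (∀ a, ∃ h : z a ∈ V, π ⟨z a, h⟩ = a) ∧ (∀ a b, z (a + b) = z a * z b) ∧
      ∀ p a, η p * z a * (η p)⁻¹ = z (χ p a) := by
  have hsq' : ∀ y : V, y * y = 1 := fun y => Subtype.ext (hsq y y.2)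
  let _ : CommGroup V := { (inferInstance : Group V) with mul_comm := comm_of_sq hsq' }
  let π' : Additive V →+ A :=
    { toFun := fun y => π y.toMul
      map_zero' := by
        have h1 : π (1 : V) = π 1 + π 1 := by rw [← hπ, mul_one]
        exact left_eq_add.1 h1
      map_add' := fun a b => hπ _ _ }
  let η' : T → Additive V →+ Additive V := fun p =>
    { toFun := fun y => Additive.ofMul ⟨η p * y.toMul * (η p)⁻¹, hη p _ y.toMul.2⟩
      map_zero' := by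
        apply Additive.toMul.injective
        apply Subtype.ext
        simp
      map_add' := fun a b => by
        apply Additive.toMul.injective
        apply Subtype.ext
        change η p * ((a.toMul : G) * (b.toMul : G)) * (η p)⁻¹ =
          (η p * (a.toMul : G) * (η p)⁻¹) * (η p * (b.toMul : G) * (η p)⁻¹)
        group }
  let χ' : T → A →+ A := fun p => AddMonoidHom.mk' (χ p) (hχ p)
  obtain ⟨z, h1, h2⟩ := exists_section_add (M := Additive V) (A := A) (fun m => by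
    apply Additive.toMul.injective
    exact hsq' m.toMul) hA π' (fun a => by
      obtain ⟨y, hy⟩ := hs a
      exact ⟨Additive.ofMul y, hy⟩) hT η' χ' (fun p q m => by
      apply Additive.toMul.injective
      apply Subtype.ext
      change η (p * q) * (m.toMul : G) * (η (p * q))⁻¹ = η p * (η q * (m.toMul : G) * (η q)⁻¹) * (η p)⁻¹
      rw [map_mul]
      group) (fun m => by
      apply Additive.toMul.injective
      apply Subtype.ext
      change η 1 * (m.toMul : G) * (η 1)⁻¹ = m.toMul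
      simp) (fun p m => hπη p m.toMul)
  refine ⟨fun a => ((z a).toMul : V), fun a => ⟨(z a).toMul.2, h1 a⟩, fun a b => ?_, fun p a => ?_⟩
  · exact congrArg (fun m : Additive V => ((m.toMul : V) : G)) (map_add z a b)
  · exact congrArg (fun m : Additive V => ((m.toMul : V) : G)) (h2 p a)

end Cfsg.Agent.HexEight.Sec
end

-- part: HexEight/Lab
section
/-!
# Labels on the grown root groups

`exists_lab`: maps `z k : E → V k`, additive, `[t, z k b] = x k b`, permuted by the Weyl group as the `x k`, with the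
same torus weights.
-/

set_option autoImplicit false
set_option linter.dupNamespace false

namespace Cfsg.Agent.HexEight.Lab

open Cfsg.Agent.StdRank2.Hex Cfsg.Agent.SplitTwo Cfsg.Agent.StdRank2.Hex.HexTwo Cfsg.Agent.HexEight.Def
open scoped commutatorElement

variable {E : Type*} [Field E] {σ : E ≃+* E} {G : Type*} [Group G] {x : ZMod 12 → E → G} {t : G}
  {V : ZMod 12 → Subgroup G}

/-- The labels. -/
structure Lab (σ : E ≃+* E) (x : ZMod 12 → E → G) (t : G) (V : ZMod 12 → Subgroup G) (z : ZMod 12 → E → G) :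
    Prop where
  mem : ∀ k b, Ok σ k b → z k b ∈ V k
  br : ∀ k b, Ok σ k b → ⁅t, z k b⁆ = x k b
  add : ∀ k a b, Ok σ k a → Ok σ k b → z k (a + b) = z k a * z k b
  refl : ∀ c k b, Ok σ k b → nn x c * z k b * (nn x c)⁻¹ = z (2 * c + 6 - k) b
  tor1 : ∀ s, s ≠ 0 → ∀ k b, Ok σ k b → hh x 1 s * z k b * (hh x 1 s)⁻¹ = z k (chS σ (k - 1) s * b)
  tor6 : ∀ s, s ≠ 0 → σ s = s → ∀ k b, Ok σ k b → hh x 6 s * z k b * (hh x 6 s)⁻¹ = z k (chL (k - 6) s * b)

section basic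

variable (g : Gr σ x t V)

include g

theorem t_nn (c : ZMod 12) : Commute t (nn x c) := by
  unfold nn
  exact ((show Commute t (x c 1) from g.tx c 1 (ok_one σ c)).mul_right
    (show Commute t (x (c + 6) 1) from g.tx _ 1 (ok_one σ _))).mul_right (g.tx c 1 (ok_one σ c))

theorem t_rho (m : ℕ) : Commute t (rho x ^ m) := by
  unfold rho
  exact ((t_nn g 1).mul_right (t_nn g 6)).pow_right m

theorem t_hh (k : ZMod 12) {s : E} (hs : Ok σ k s) : Commute t (hh x k s) := by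
  unfold hh nt
  have h1 : Commute t (x k s) := g.tx k s hs
  have h2 : Commute t (x (k + 6) s⁻¹) := g.tx _ _ (hs.inv.congr (val_add_6 k))
  exact ((h1.mul_right h2).mul_right h1).mul_right (t_nn g k)

variable [Finite E]

theorem t_H {p : G} (hp : p ∈ g.hex.H) : Commute t p := by
  obtain ⟨s, u, hs, hu, hu', rfl⟩ := hp
  exact (t_hh g 1 (ok1 s)).mul_right (t_hh g 6 (ok_of_fix _ hu'))

theorem HV {p : G} (hp : p ∈ g.hex.H) {k : ZMod 12} {y : G} (hy : y ∈ V k) : p * y * p⁻¹ ∈ V k := by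
  obtain ⟨s, u, hs, hu, hu', rfl⟩ := hp
  have e : hh x 1 s * hh x 6 u * y * (hh x 1 s * hh x 6 u)⁻¹ =
      hh x 1 s * (hh x 6 u * y * (hh x 6 u)⁻¹) * (hh x 1 s)⁻¹ := by group
  rw [e]
  exact g.h1V s hs k _ (g.h6V u hu hu' k y hy)

/-- the torus as a quotient of `Eˣ × Eˣ` restricted to fixed points: finiteness -/
theorem finite_H : Finite g.hex.H := by
  let f : E × E → G := fun p => hh x 1 p.1 * hh x 6 p.2
  have : (g.hex.H : Set G) ⊆ Set.range f := by
    rintro _ ⟨s, u, hs, hu, hu', rfl⟩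
    exact ⟨(s, u), rfl⟩
  exact (Set.finite_range f).subset this

omit g in
theorem odd_of_pow {T : Type*} [Group T] [Finite T] {n : ℕ} (hn : Odd n) (h : ∀ p : T, p ^ n = 1) :
    Odd (Nat.card T) := by
  by_contra hc
  rw [Nat.not_odd_iff_even] at hc
  have : Fact (Nat.Prime 2) := ⟨Nat.prime_two⟩
  obtain ⟨p, hp⟩ := exists_prime_orderOf_dvd_card' (G := T) 2 (even_iff_two_dvd.1 hc)
  have h1 : 2 ∣ n := by rw [← hp]; exact orderOf_dvd_of_pow_eq_one (h p)
  exact (Nat.not_even_iff_odd.2 hn) (even_iff_two_dvd.2 h1)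

theorem odd_card_sub : Odd (Nat.card E - 1) := by
  have h2 := g.hex.two
  have : CharP E 2 := CharTwo.of_one_ne_zero_of_two_eq_zero one_ne_zero h2
  have : Fintype E := Fintype.ofFinite E
  obtain ⟨n, hp, hn⟩ := FiniteField.card E 2
  rw [Nat.card_eq_fintype_card, hn]
  exact Nat.Even.sub_odd Nat.one_le_two_pow ((Nat.even_pow.2 ⟨even_two, n.ne_zero⟩)) odd_one

theorem pow_H {p : G} (hp : p ∈ g.hex.H) : p ^ (Nat.card E - 1) = 1 := by
  obtain ⟨s, u, hs, hu, hu', rfl⟩ := hp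
  have : Fintype E := Fintype.ofFinite E
  have hcomm := g.hex.hh_commute 1 6 hs hu (ok1 s) (ok_of_fix _ hu')
  have key : ∀ (l : ZMod 12) (s : E), s ≠ 0 → Ok σ l s → ∀ n : ℕ, hh x l s ^ n = hh x l (s ^ n) := by
    intro l s hs hok n
    have hpok : ∀ n : ℕ, Ok σ l (s ^ n) := fun n h0 => by rw [map_pow, hok h0]
    induction n with
    | zero => rw [pow_zero, pow_zero, g.hex.hh_one]
    | succ n ih => rw [pow_succ, pow_succ, ih, g.hex.hh_mul l (pow_ne_zero n hs) hs (hpok n) hok]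
  rw [hcomm.mul_pow, key 1 s hs (ok1 s), key 6 u hu (ok_of_fix _ hu'), Nat.card_eq_fintype_card,
    FiniteField.pow_card_sub_one_eq_one s hs, FiniteField.pow_card_sub_one_eq_one u hu, g.hex.hh_one, g.hex.hh_one,
    mul_one]

theorem odd_H : Odd (Nat.card g.hex.H) := by
  have := finite_H g
  exact odd_of_pow (odd_card_sub g) fun p => Subtype.ext (pow_H g p.2)

end basic

/-- admissible parameters -/
def AK (σ : E ≃+* E) (k : ZMod 12) : AddSubgroup E where
  carrier := {a | Ok σ k a}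
  zero_mem' := ok_zero σ k
  add_mem' h h' := Ok.add h h'
  neg_mem' h := fun h0 => by rw [map_neg, h h0]

variable (g : Gr σ x t V)

include g

omit [Field E] g in
theorem t_conj {k : ZMod 12} {y : G} {a : E} (e : ⁅t, y⁆ = x k a) : t * y * t⁻¹ = x k a * y := by
  rw [← e, commutatorElement_def]
  group

theorem comm_V {k : ZMod 12} {y y' : G} (hy : y ∈ V k) (hy' : y' ∈ V k) : y * y' = y' * y := by
  have := Sec.comm_of_sq (G := V k) (fun y => Subtype.ext (g.sq k y y.2)) ⟨y, hy⟩ ⟨y', hy'⟩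
  exact congrArg Subtype.val this

theorem br_mul {k : ZMod 12} {y y' : G} (hy : y ∈ V k) {a a' : E} (ha : Ok σ k a) (ha' : Ok σ k a')
    (e : ⁅t, y⁆ = x k a) (e' : ⁅t, y'⁆ = x k a') : ⁅t, y * y'⁆ = x k (a + a') := by
  have h1 := t_conj e
  have h2 := t_conj e'
  rw [g.hex.add k a a' ha ha', commutatorElement_def]
  have c1 : y * x k a' = x k a' * y := comm_V g hy (g.le k a' ha')
  calc t * (y * y') * t⁻¹ * (y * y')⁻¹ = (t * y * t⁻¹) * (t * y' * t⁻¹) * (y * y')⁻¹ := by group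
    _ = x k a * (y * x k a') * y' * (y * y')⁻¹ := by rw [h1, h2]; group
    _ = x k a * x k a' := by rw [c1]; group

theorem exists_base [Finite E] (k : ZMod 12) : ∃ z : E → G, (∀ b, Ok σ k b → z b ∈ V k ∧ ⁅t, z b⁆ = x k b) ∧
    (∀ a b, Ok σ k a → Ok σ k b → z (a + b) = z a * z b) ∧
    ∀ p ∈ g.hex.H, ∀ w, Ok σ k w → (∀ a, Ok σ k a → p * x k a * p⁻¹ = x k (w * a)) →
      ∀ b, Ok σ k b → p * z b * p⁻¹ = z (w * b) := by
  classical
  have hfin := finite_H g
  choose f hf1 hf2 using fun y : V k => g.br k y y.2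
  choose w _ hw1 hw2 using fun p : g.hex.H => g.hex.H_diag p.2 k
  have uniq : ∀ {a b : E}, Ok σ k a → Ok σ k b → x k a = x k b → a = b := fun ha hb e =>
    (g.hex.x_inj ha hb).1 e
  obtain ⟨z, h1, h2, h3⟩ := Sec.exists_section (V := V k) (g.sq k) (A := AK σ k)
    (fun a => Subtype.ext (g.hex.add_self a)) (fun y => ⟨f y, hf1 y⟩) (by
      intro y y'
      apply Subtype.ext
      exact uniq (hf1 _) ((hf1 _).add (hf1 _)) (by
        rw [← hf2]
        exact br_mul g y.2 (hf1 _) (hf1 _) (hf2 _) (hf2 _)))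
    (by
      rintro ⟨a, ha⟩
      obtain ⟨y, hy, e⟩ := g.onto k a ha
      refine ⟨⟨y, hy⟩, Subtype.ext (uniq (hf1 _) ha ?_)⟩
      rw [← hf2, ← e])
    (odd_H g) g.hex.H.subtype (fun p y hy => HV g p.2 hy)
    (fun p a => ⟨w p * a, (hw1 p).mul a.2⟩) (fun p a b => Subtype.ext (mul_add _ _ _)) (by
      intro p y
      apply Subtype.ext
      refine uniq (hf1 _) ((hw1 p).mul (hf1 _)) ?_
      rw [← hf2, ← hw2 p _ (hf1 _), ← hf2]
      have ct := (t_H g p.2).eq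
      simp only [Subgroup.coe_subtype, commutatorElement_def]
      calc t * ((p : G) * y * (p : G)⁻¹) * t⁻¹ * ((p : G) * y * (p : G)⁻¹)⁻¹ =
          (t * p) * y * (t * p)⁻¹ * (p * (y : G)⁻¹ * (p : G)⁻¹) := by group
        _ = (p : G) * (t * y * t⁻¹ * (y : G)⁻¹) * (p : G)⁻¹ := by rw [ct]; group)
  refine ⟨fun b => if hb : Ok σ k b then z ⟨b, hb⟩ else 1, fun b hb => ?_, fun a b ha hb => ?_, ?_⟩
  · simp only [dif_pos hb]
    obtain ⟨m, e⟩ := h1 ⟨b, hb⟩
    refine ⟨m, ?_⟩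
    have := hf2 ⟨z ⟨b, hb⟩, m⟩
    rw [this]
    congr 1
    exact congrArg Subtype.val e
  · simp only [dif_pos ha, dif_pos hb, dif_pos (ha.add hb)]
    exact h2 ⟨a, ha⟩ ⟨b, hb⟩
  · intro p hp w' hw' e b hb
    simp only [dif_pos hb, dif_pos (hw'.mul hb)]
    have e1 : w ⟨p, hp⟩ = w' := by
      have e2 := hw2 ⟨p, hp⟩ 1 (ok_one σ k)
      rw [e 1 (ok_one σ k), mul_one, mul_one] at e2
      exact (uniq hw' (hw1 _) e2).symm
    have := h3 ⟨p, hp⟩ ⟨b, hb⟩
    simp only [Subgroup.coe_subtype] at this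
    rw [this]
    congr 1
    exact Subtype.ext (show w ⟨p, hp⟩ * b = w' * b by rw [e1])

/-- the reflection fixing `k` centralises `V k` -/
theorem nn_comm {k : ZMod 12} {y : G} (hy : y ∈ V k) : Commute (nn x (k + 3)) y := by
  have h1 : Commute (x (k + 3) 1) y := (g.c3 k y hy _ (g.le _ 1 (ok_one σ _))).symm
  have h2 : Commute (x (k + 3 + 6) 1) y := by
    have h3 := g.c3 (k + 3 + 6) _ (g.le _ 1 (ok_one σ _)) y
    rw [show k + 3 + 6 + 3 = k + 12 by ring, twelve_eq, add_zero] at h3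
    exact h3 hy
  unfold nn
  exact (h1.mul_left h2).mul_left h1

theorem nn_comm' {k : ZMod 12} {y : G} (hy : y ∈ V k) : Commute (nn x (k - 3)) y := by
  have h := nn_comm g hy
  rw [← g.hex.nn_opp, show k + 3 + 6 = k - 3 + 12 by ring, twelve_eq, add_zero] at h
  exact h

theorem rho_V (m : ℕ) {k : ZMod 12} {y : G} (hy : y ∈ V k) : rho x ^ m * y * (rho x ^ m)⁻¹ ∈ V (k + 2 * m) := by
  induction m with
  | zero => simpa using hy
  | succ m ih =>
    have e : rho x ^ (m + 1) * y * (rho x ^ (m + 1))⁻¹ =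
        nn x 1 * (nn x 6 * (rho x ^ m * y * (rho x ^ m)⁻¹) * (nn x 6)⁻¹) * (nn x 1)⁻¹ := by
      rw [pow_succ']
      generalize rho x ^ m = r
      rw [rho]; group
    rw [e]
    have := g.nV 1 _ _ (g.nV 6 _ _ ih)
    rw [show (2 : ZMod 12) * 1 + 6 - (2 * 6 + 6 - (k + 2 * m)) = k + 2 * ((m + 1 : ℕ) : ZMod 12) - 12 by
      push_cast; ring, twelve_eq, sub_zero] at this
    exact this

omit g in
theorem idx_aux : ∀ c k r0 : ZMod 12, (k - r0).val % 2 = 0 →
    (2 * c + 6 - k - r0).val % 2 = 0 ∧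
    (c - ((k - r0).val / 2 : ℕ) - ((2 * c + 6 - k - r0).val / 2 : ℕ) = r0 + 3 ∨
      c - ((k - r0).val / 2 : ℕ) - ((2 * c + 6 - k - r0).val / 2 : ℕ) = r0 - 3) := by
  decide +kernel

omit g in
theorem idx_two : ∀ k r0 : ZMod 12, (k - r0).val % 2 = 0 → r0 + 2 * ((k - r0).val / 2 : ℕ) = k := by
  decide +kernel

/-- transport of a map from the index `r0` to the index `k` -/
def tr (x : ZMod 12 → E → G) (r0 : ZMod 12) (z : E → G) (k : ZMod 12) (b : E) : G :=
  rho x ^ ((k - r0).val / 2) * z b * (rho x ^ ((k - r0).val / 2))⁻¹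

theorem tr_mem {r0 k : ZMod 12} {z : E → G} {b : E} (hz : z b ∈ V r0) (hk : (k - r0).val % 2 = 0) :
    tr x r0 z k b ∈ V k := by
  have := rho_V g ((k - r0).val / 2) hz
  rwa [idx_two k r0 hk] at this

theorem tr_br {r0 k : ZMod 12} {z : E → G} {b : E} (hb : Ok σ r0 b) (hz : ⁅t, z b⁆ = x r0 b)
    (hk : (k - r0).val % 2 = 0) : ⁅t, tr x r0 z k b⁆ = x k b := by
  have h1 := g.hex.rot_pow ((k - r0).val / 2) r0 hb
  rw [idx_two k r0 hk] at h1
  have h2 := (t_rho g ((k - r0).val / 2)).eq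
  unfold tr
  rw [show nn x 1 * nn x 6 = rho x from rfl, ← hz] at h1
  rw [← h1]
  generalize rho x ^ ((k - r0).val / 2) = r at *
  simp only [commutatorElement_def]
  calc t * (r * z b * r⁻¹) * t⁻¹ * (r * z b * r⁻¹)⁻¹ = (t * r) * z b * (t * r)⁻¹ * (r * (z b)⁻¹ * r⁻¹) := by group
    _ = _ := by rw [h2]; group

theorem nn_rho (m : ℕ) (c : ZMod 12) : nn x c * rho x ^ m = nn x (c - m) := by
  have h1 := g.hex.rho_pow_mul_nn m (c - m)
  rw [sub_add_cancel] at h1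
  have h2 : (rho x ^ m * nn x (c - m))⁻¹ = nn x c := by rw [h1, g.hex.nn_inv]
  rw [mul_inv_rev, g.hex.nn_inv] at h2
  rw [← h2]
  group

theorem tr_nn {r0 k : ZMod 12} {z : E → G} {b : E} (hz : z b ∈ V r0) (hk : (k - r0).val % 2 = 0) (c : ZMod 12) :
    nn x c * tr x r0 z k b * (nn x c)⁻¹ = tr x r0 z (2 * c + 6 - k) b := by
  obtain ⟨_, h2⟩ := idx_aux c k r0 hk
  unfold tr
  generalize hm : (k - r0).val / 2 = m at *
  generalize hm' : (2 * c + 6 - k - r0).val / 2 = m' at *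
  have e1 : nn x c * (rho x ^ m * z b * (rho x ^ m)⁻¹) * (nn x c)⁻¹ = nn x (c - m) * z b * (nn x (c - m))⁻¹ := by
    rw [← nn_rho g m c]; group
  have e2 : nn x (c - m) = rho x ^ m' * nn x (c - m - m') := by
    rw [g.hex.rho_pow_mul_nn, sub_add_cancel]
  have e3 : Commute (nn x (c - m - m')) (z b) := by
    rcases h2 with h2 | h2 <;> rw [h2]
    · exact nn_comm g hz
    · exact nn_comm' g hz
  rw [e1, e2]
  calc rho x ^ m' * nn x (c - m - m') * z b * (rho x ^ m' * nn x (c - m - m'))⁻¹ =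
      rho x ^ m' * (nn x (c - m - m') * z b) * (nn x (c - m - m'))⁻¹ * (rho x ^ m')⁻¹ := by group
    _ = _ := by rw [e3.eq]; group

theorem tr_H [Finite E] {r0 k : ZMod 12} {z : E → G}
    (hz : ∀ p ∈ g.hex.H, ∀ w, Ok σ r0 w → (∀ a, Ok σ r0 a → p * x r0 a * p⁻¹ = x r0 (w * a)) →
      ∀ b, Ok σ r0 b → p * z b * p⁻¹ = z (w * b)) (hk : (k - r0).val % 2 = 0) {p : G} (hp : p ∈ g.hex.H) {w : E}
    (hw : Ok σ r0 w) (e : ∀ a, Ok σ r0 a → p * x k a * p⁻¹ = x k (w * a)) {b : E} (hb : Ok σ r0 b) :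
    p * tr x r0 z k b * p⁻¹ = tr x r0 z k (w * b) := by
  have h1 := fun {a : E} (ha : Ok σ r0 a) => g.hex.rot_pow ((k - r0).val / 2) r0 ha
  simp only [idx_two k r0 hk, show nn x 1 * nn x 6 = rho x from rfl] at h1
  unfold tr
  generalize (k - r0).val / 2 = m at *
  have hp' : (rho x ^ m)⁻¹ * p * ((rho x ^ m)⁻¹)⁻¹ ∈ g.hex.H := g.hex.isW_conj_H (g.hex.isW_inv (Or.inl ⟨m, rfl⟩)) hp
  rw [inv_inv] at hp'
  have := hz _ hp' w hw (fun a ha => by
    calc (rho x ^ m)⁻¹ * p * rho x ^ m * x r0 a * ((rho x ^ m)⁻¹ * p * rho x ^ m)⁻¹ =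
        (rho x ^ m)⁻¹ * (p * (rho x ^ m * x r0 a * (rho x ^ m)⁻¹) * p⁻¹) * rho x ^ m := by group
      _ = _ := by rw [h1 ha, e a ha, ← h1 (hw.mul ha)]; group) b hb
  rw [← this]
  group

omit g in
theorem par_even : ∀ k : ZMod 12, k.val % 2 = 0 → (k - 4).val % 2 = 0 := by decide

omit g in
theorem par_odd : ∀ k : ZMod 12, ¬ k.val % 2 = 0 → (k - 3).val % 2 = 0 := by decide

theorem exists_lab [Finite E] : ∃ z, Lab σ x t V z := by
  classical
  obtain ⟨z4, a4, b4, c4⟩ := exists_base g 4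
  obtain ⟨z3, a3, b3, c3⟩ := exists_base g 3
  have o4 : ∀ {k : ZMod 12} {b : E}, k.val % 2 = 0 → Ok σ k b → Ok σ 4 b := fun hk hb => hb.congr (by rw [hk]; rfl)
  have o3 : ∀ b : E, Ok σ 3 b := ok3
  refine ⟨fun k b => if k.val % 2 = 0 then tr x 4 z4 k b else tr x 3 z3 k b, ?_, ?_, ?_, ?_, ?_, ?_⟩
  · intro k b hb
    split_ifs with hk
    · exact tr_mem g (a4 b (o4 hk hb)).1 (par_even k hk)
    · exact tr_mem g (a3 b (o3 b)).1 (par_odd k hk)
  · intro k b hb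
    split_ifs with hk
    · exact tr_br g (o4 hk hb) (a4 b (o4 hk hb)).2 (par_even k hk)
    · exact tr_br g (o3 b) (a3 b (o3 b)).2 (par_odd k hk)
  · intro k a b ha hb
    split_ifs with hk
    · unfold tr
      rw [b4 a b (o4 hk ha) (o4 hk hb)]
      group
    · unfold tr
      rw [b3 a b (o3 a) (o3 b)]
      group
  · intro c k b hb
    rw [val_refl c k]
    split_ifs with hk
    · exact tr_nn g (a4 b (o4 hk hb)).1 (par_even k hk) c
    · exact tr_nn g (a3 b (o3 b)).1 (par_odd k hk) c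
  · intro s hs k b hb
    have e : ∀ a, Ok σ k a → hh x 1 s * x k a * (hh x 1 s)⁻¹ = x k (chS σ (k - 1) s * a) := fun a ha =>
      g.hex.tor1 s hs k a ha
    have hw : Ok σ k (chS σ (k - 1) s) := g.hex.ok_chi 1 k (ok1 s)
    split_ifs with hk
    · exact tr_H g c4 (par_even k hk) (g.hex.hh1_mem_H hs) (o4 hk hw)
        (fun a ha => e a (ha.congr (by rw [hk]; rfl))) (o4 hk hb)
    · exact tr_H g c3 (par_odd k hk) (g.hex.hh1_mem_H hs) (o3 _)
        (fun a ha => e a (ok_odd (by omega) a)) (o3 b)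
  · intro s hs hs' k b hb
    have e : ∀ a, Ok σ k a → hh x 6 s * x k a * (hh x 6 s)⁻¹ = x k (chL (k - 6) s * a) := fun a ha =>
      g.hex.tor6 s hs hs' k a ha
    have hw : Ok σ k (chL (k - 6) s) := g.hex.ok_chi 6 k (ok_of_fix _ hs')
    split_ifs with hk
    · exact tr_H g c4 (par_even k hk) (g.hex.hh6_mem_H hs hs') (o4 hk hw)
        (fun a ha => e a (ha.congr (by rw [hk]; rfl))) (o4 hk hb)
    · exact tr_H g c3 (par_odd k hk) (g.hex.hh6_mem_H hs hs') (o3 _)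
        (fun a ha => e a (ok_odd (by omega) a)) (o3 b)

end Cfsg.Agent.HexEight.Lab
end

-- part: HexRing/Def
section
/-!
# The ring of a grown hexagonal 2-group: interfaces

`Pos C G` (input of `HexRing.Main`): labelled root groups `y1, …, y6` of the grown group, `y_r : K × K → G` for `r`
odd, `F × F → G` for `r` even, with `y_r (a, 0)` the root elements of the small group.
`QRel C β z1 … z6` (output): the commutator relations over the quadratic algebras `F[ω]`, `K[ω]`,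
`ω² = β + ω`.
-/

set_option autoImplicit false

namespace Cfsg.Agent.HexRing.Def

open Cfsg.Agent.HexRec

variable {F K : Type*} [Field F] [Field K] [Algebra F K]

/-- Input: the positive part of a grown system, with labels. -/
structure Pos (C : Cubic F K) (G : Type*) [Group G] where
  y1 : K × K → G
  y2 : F × F → G
  y3 : K × K → G
  y4 : F × F → G
  y5 : K × K → G
  y6 : F × F → G
  add1 : ∀ v w, y1 (v + w) = y1 v * y1 w
  add2 : ∀ v w, y2 (v + w) = y2 v * y2 w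
  add3 : ∀ v w, y3 (v + w) = y3 v * y3 w
  add4 : ∀ v w, y4 (v + w) = y4 v * y4 w
  add5 : ∀ v w, y5 (v + w) = y5 v * y5 w
  add6 : ∀ v w, y6 (v + w) = y6 v * y6 w
  -- supports of the commutators
  r21 : ∀ t a, y2 t * y1 a = y1 a * y2 t
  s31 : ∀ b a, ∃ s, y3 b * y1 a = y1 a * (y2 s * y3 b)
  r41 : ∀ t a, y4 t * y1 a = y1 a * y4 t
  s51 : ∀ b a, ∃ p x q, y5 b * y1 a = y1 a * (y2 p * (y3 x * (y4 q * y5 b)))
  s61 : ∀ u a, ∃ p x q d, y6 u * y1 a = y1 a * (y2 p * (y3 x * (y4 q * (y5 d * y6 u))))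
  r32 : ∀ b t, y3 b * y2 t = y2 t * y3 b
  r42 : ∀ b t, y4 b * y2 t = y2 t * y4 b
  r52 : ∀ b t, y5 b * y2 t = y2 t * y5 b
  s62 : ∀ u t, ∃ s, y6 u * y2 t = y2 t * (y4 s * y6 u)
  r43 : ∀ b t, y4 b * y3 t = y3 t * y4 b
  s53 : ∀ b t, ∃ s, y5 b * y3 t = y3 t * (y4 s * y5 b)
  r63 : ∀ b t, y6 b * y3 t = y3 t * y6 b
  r54 : ∀ b t, y5 b * y4 t = y4 t * y5 b
  r64 : ∀ b t, y6 b * y4 t = y4 t * y6 b
  r65 : ∀ b t, y6 b * y5 t = y5 t * y6 b
  /-- unique normal form -/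
  inj : ∀ a b c d e f a' b' c' d' e' f',
    y1 a * (y2 b * (y3 c * (y4 d * (y5 e * y6 f)))) = y1 a' * (y2 b' * (y3 c' * (y4 d' * (y5 e' * y6 f')))) →
      a = a' ∧ b = b' ∧ c = c' ∧ d = d' ∧ e = e' ∧ f = f'
  /-- the relations of the small group -/
  rel : OfHexRel.PosRel C (fun a => y1 (a, 0)) (fun a => y2 (a, 0)) (fun a => y3 (a, 0)) (fun a => y4 (a, 0))
    (fun a => y5 (a, 0)) (fun a => y6 (a, 0))
  /-- the involution (any element acting like this) -/
  t : G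
  t1 : ∀ v, t * y1 v * t⁻¹ = y1 (v.1 + v.2, v.2)
  t2 : ∀ v, t * y2 v * t⁻¹ = y2 (v.1 + v.2, v.2)
  t3 : ∀ v, t * y3 v * t⁻¹ = y3 (v.1 + v.2, v.2)
  t4 : ∀ v, t * y4 v * t⁻¹ = y4 (v.1 + v.2, v.2)
  t5 : ∀ v, t * y5 v * t⁻¹ = y5 (v.1 + v.2, v.2)
  t6 : ∀ v, t * y6 v * t⁻¹ = y6 (v.1 + v.2, v.2)
  /-- the torus -/
  h : K → F → G
  h1 : ∀ k l, k ≠ 0 → l ≠ 0 → ∀ v, h k l * y1 v * (h k l)⁻¹ = y1 (k • v)
  h2 : ∀ k l, k ≠ 0 → l ≠ 0 → ∀ v, h k l * y2 v * (h k l)⁻¹ = y2 ((C.N k * l) • v)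
  h3 : ∀ k l, k ≠ 0 → l ≠ 0 → ∀ v, h k l * y3 v * (h k l)⁻¹ = y3 ((C.sh k * algebraMap F K l) • v)
  h4 : ∀ k l, k ≠ 0 → l ≠ 0 → ∀ v, h k l * y4 v * (h k l)⁻¹ = y4 ((C.N k * l ^ 2) • v)
  h5 : ∀ k l, k ≠ 0 → l ≠ 0 → ∀ v, h k l * y5 v * (h k l)⁻¹ = y5 ((k * algebraMap F K l) • v)
  h6 : ∀ k l, k ≠ 0 → l ≠ 0 → ∀ v, h k l * y6 v * (h k l)⁻¹ = y6 (l • v)
  /-- the Weyl elements -/
  na : G
  nb : G
  na_sq : na * na = 1
  nb_sq : nb * nb = 1
  na2 : ∀ v, na * y2 v * na = y6 v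
  na3 : ∀ v, na * y3 v * na = y5 v
  na4 : ∀ v, na * y4 v * na = y4 v
  nb1 : ∀ v, nb * y1 v * nb = y5 v
  nb2 : ∀ v, nb * y2 v * nb = y4 v
  nb3 : ∀ v, nb * y3 v * nb = y3 v
  /-- `nb = x6(1) x12(1) x6(1)`, `x12(1) = nb x6(1) nb` -/
  rank1 : y6 (1, 0) * (nb * y6 (1, 0) * nb) * y6 (1, 0) = nb

/-! ### The quadratic extension of the cubic datum -/

/-- `F[ω]`, `ω² = β + ω` -/
abbrev RQ (β : F) : Type _ := QuadraticAlgebra F β 1

/-- `K[ω]`, `ω² = β + ω` -/
abbrev MQ (K : Type*) [Field K] [Algebra F K] (β : F) : Type _ := QuadraticAlgebra K (algebraMap F K β) 1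

/-- the inclusion `F[ω] → K[ω]` -/
def incl (K : Type*) [Field K] [Algebra F K] {β : F} (r : RQ β) : MQ K β := ⟨algebraMap F K r.re, algebraMap F K r.im⟩

variable (C : Cubic F K) {β : F}

/-- trace form -/
def TQ (a b : MQ K β) : RQ β := ⟨C.tr (a * b).re, C.tr (a * b).im⟩

/-- the adjoint: `(a + b ω)^# = a^# + (a × b) ω + b^# ω²` -/
def shQ (a : MQ K β) : MQ K β :=
  ⟨C.sh a.re + algebraMap F K β * C.sh a.im, C.cr a.re a.im + C.sh a.im⟩

/-- the cross product -/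
def crQ (a b : MQ K β) : MQ K β :=
  ⟨C.cr a.re b.re + algebraMap F K β * C.cr a.im b.im, C.cr a.re b.im + C.cr a.im b.re + C.cr a.im b.im⟩

/-- the norm -/
def NQ (a : MQ K β) : RQ β := TQ C a (shQ C a)

/-- the positive relations over `K[ω]/F[ω]` -/
structure QRel (C : Cubic F K) (β : F) {S : Type*} [Group S] (z1 : MQ K β → S) (z2 : RQ β → S) (z3 : MQ K β → S)
    (z4 : RQ β → S) (z5 : MQ K β → S) (z6 : RQ β → S) : Prop where
  add1 : ∀ s t, z1 (s + t) = z1 s * z1 t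
  add2 : ∀ s t, z2 (s + t) = z2 s * z2 t
  add3 : ∀ s t, z3 (s + t) = z3 s * z3 t
  add4 : ∀ s t, z4 (s + t) = z4 s * z4 t
  add5 : ∀ s t, z5 (s + t) = z5 s * z5 t
  add6 : ∀ s t, z6 (s + t) = z6 s * z6 t
  r21 : ∀ t a, z2 t * z1 a = z1 a * z2 t
  r31 : ∀ b a, z3 b * z1 a = z1 a * (z2 (TQ C a b) * z3 b)
  r41 : ∀ t a, z4 t * z1 a = z1 a * z4 t
  r51 : ∀ b a, z5 b * z1 a = z1 a * (z2 (TQ C (shQ C a) b) * (z3 (crQ C a b) * (z4 (TQ C a (shQ C b)) * z5 b)))
  r61 : ∀ t a, z6 t * z1 a = z1 a * (z2 (t * NQ C a) * (z3 (incl K t * shQ C a) * (z4 (t ^ 2 * NQ C a) *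
    (z5 (incl K t * a) * z6 t))))
  r32 : ∀ b t, z3 b * z2 t = z2 t * z3 b
  r42 : ∀ b t, z4 b * z2 t = z2 t * z4 b
  r52 : ∀ b t, z5 b * z2 t = z2 t * z5 b
  r62 : ∀ b t, z6 b * z2 t = z2 t * (z4 (b * t) * z6 b)
  r43 : ∀ b t, z4 b * z3 t = z3 t * z4 b
  r53 : ∀ b t, z5 b * z3 t = z3 t * (z4 (TQ C t b) * z5 b)
  r63 : ∀ b t, z6 b * z3 t = z3 t * z6 b
  r54 : ∀ b t, z5 b * z4 t = z4 t * z5 b
  r64 : ∀ b t, z6 b * z4 t = z4 t * z6 b
  r65 : ∀ b t, z6 b * z5 t = z5 t * z6 b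

/-- the labels over the quadratic algebras: `(a + b ω) ↦ (a + c b, b)` -/
def lab {k : Type*} [Field k] (β : k) (c : k) (z : QuadraticAlgebra k β 1) : k × k := (z.re + c * z.im, z.im)

end Cfsg.Agent.HexRing.Def
end

-- part: HexEight/ToPos
section
/-!
# From labels to the input `HexRing.Def.Pos` of the ring part

`FF σ` = fixed field of `σ` in `E`, `φ σ` = `σ` as an `FF σ`-automorphism, `cub` = the cubic datum.
-/

set_option autoImplicit false
set_option linter.unusedSectionVars false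

namespace Cfsg.Agent.HexEight.ToPos

open Cfsg.Agent.StdRank2.Hex Cfsg.Agent.SplitTwo Cfsg.Agent.StdRank2.Hex.HexTwo Cfsg.Agent.HexEight.Def
open Cfsg.Agent.HexEight.Lab Cfsg.Agent.Hex.Defs Cfsg.Agent.HexRec
open scoped commutatorElement

section field

variable {E : Type*} [Field E] (σ : E ≃+* E)

/-- the fixed field -/
def FF : Subfield E where
  carrier := {a | σ a = a}
  one_mem' := map_one σ
  zero_mem' := map_zero σ
  add_mem' {a b} ha hb := by
    change σ (a + b) = a + b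
    rw [map_add, show σ a = a from ha, show σ b = b from hb]
  mul_mem' {a b} ha hb := by
    change σ (a * b) = a * b
    rw [map_mul, show σ a = a from ha, show σ b = b from hb]
  neg_mem' {a} ha := by
    change σ (-a) = -a
    rw [map_neg, show σ a = a from ha]
  inv_mem' a ha := by
    change σ a⁻¹ = a⁻¹
    rw [map_inv₀, show σ a = a from ha]

/-- `σ` over its fixed field -/
def phi : E ≃ₐ[FF σ] E := AlgEquiv.ofRingEquiv (f := σ) fun r => r.2

theorem coe_phi : (phi σ : E ≃+* E) = σ := RingEquiv.ext fun _ => rfl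

theorem pair (h2 : (2 : E) = 0) (h3 : ∀ a, σ (σ (σ a)) = a) : CubicPair (phi σ) where
  two := h2
  three := h3
  fixed t ht := ⟨⟨t, ht⟩, rfl⟩

variable {σ} {h2 : (2 : E) = 0} {h3 : ∀ a, σ (σ (σ a)) = a}

end field

variable {E : Type*} [Field E] {σ : E ≃+* E} {G : Type*} [Group G] {x : ZMod 12 → E → G} {t : G}
  {V : ZMod 12 → Subgroup G}

/-- the labels of the grown root groups -/
def Y (x z : ZMod 12 → E → G) (k : ZMod 12) (a b : E) : G := x k a * z k b

section Y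

variable (g : Gr σ x t V) {z : ZMod 12 → E → G} (L : Lab σ x t V z)

include g L

theorem z_zero (k : ZMod 12) : z k 0 = 1 := by
  have h1 := L.add k 0 0 (ok_zero σ k) (ok_zero σ k)
  rw [add_zero] at h1
  exact left_eq_mul.1 h1

theorem Y_zero_right (k : ZMod 12) (a : E) : Y x z k a 0 = x k a := by
  unfold Y
  rw [z_zero g L, mul_one]

theorem Y_mem {k : ZMod 12} {a b : E} (ha : Ok σ k a) (hb : Ok σ k b) : Y x z k a b ∈ V k :=
  mul_mem (g.le k a ha) (L.mem k b hb)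

theorem Y_surj {k : ZMod 12} {y : G} (hy : y ∈ V k) : ∃ a b, Ok σ k a ∧ Ok σ k b ∧ y = Y x z k a b := by
  obtain ⟨b, hb, e⟩ := g.br k y hy
  have hz := L.mem k b hb
  have hzi : (z k b)⁻¹ = z k b := inv_eq_of_mul_eq_one_left (g.sq k _ hz)
  have h1 : ⁅t, y * z k b⁆ = x k (b + b) := br_mul g hy hb hb e (L.br k b hb)
  rw [g.hex.add_self, g.hex.x_zero, commutatorElement_def, mul_inv_eq_one, mul_inv_eq_iff_eq_mul] at h1
  obtain ⟨a, ha, e'⟩ := g.fix k _ (mul_mem hy hz) h1.symm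
  refine ⟨a, b, ha, hb, ?_⟩
  unfold Y
  rw [← e', mul_assoc, g.sq k _ hz, mul_one]

theorem Y_br {k : ZMod 12} {a b : E} (ha : Ok σ k a) (hb : Ok σ k b) : ⁅t, Y x z k a b⁆ = x k b := by
  have h0 : ⁅t, x k a⁆ = x k 0 := by
    rw [g.hex.x_zero, commutatorElement_def, g.tx k a ha]
    group
  have := br_mul g (g.le k a ha) (ok_zero σ k) hb h0 (L.br k b hb)
  rwa [zero_add] at this

theorem Y_add {k : ZMod 12} {a b a' b' : E} (ha : Ok σ k a) (hb : Ok σ k b) (ha' : Ok σ k a') (hb' : Ok σ k b') :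
    Y x z k (a + a') (b + b') = Y x z k a b * Y x z k a' b' := by
  unfold Y
  rw [g.hex.add k a a' ha ha', L.add k b b' hb hb']
  have e := comm_V g (L.mem k b hb) (g.le k a' ha')
  calc x k a * x k a' * (z k b * z k b') = x k a * (x k a' * z k b) * z k b' := by group
    _ = _ := by rw [← e]; group

theorem Y_inj {k : ZMod 12} {a b a' b' : E} (ha : Ok σ k a) (hb : Ok σ k b) (ha' : Ok σ k a') (hb' : Ok σ k b')
    (e : Y x z k a b = Y x z k a' b') : a = a' ∧ b = b' := by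
  have h1 : b = b' := by
    rw [← g.hex.x_inj hb hb', ← Y_br g L ha hb, ← Y_br g L ha' hb', e]
  subst h1
  refine ⟨?_, rfl⟩
  unfold Y at e
  exact (g.hex.x_inj ha ha').1 (mul_right_cancel e)

theorem Y_t {k : ZMod 12} {a b : E} (ha : Ok σ k a) (hb : Ok σ k b) :
    t * Y x z k a b * t⁻¹ = Y x z k (a + b) b := by
  rw [t_conj (Y_br g L ha hb)]
  unfold Y
  rw [← mul_assoc, ← g.hex.add k b a hb ha, add_comm b a]

theorem Y_refl (c : ZMod 12) {k : ZMod 12} {a b : E} (ha : Ok σ k a) (hb : Ok σ k b) :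
    nn x c * Y x z k a b * (nn x c)⁻¹ = Y x z (2 * c + 6 - k) a b := by
  unfold Y
  rw [← g.hex.refl c k ha, ← L.refl c k b hb]
  group

theorem Y_tor1 {s : E} (hs : s ≠ 0) {k : ZMod 12} {a b : E} (ha : Ok σ k a) (hb : Ok σ k b) :
    hh x 1 s * Y x z k a b * (hh x 1 s)⁻¹ = Y x z k (chS σ (k - 1) s * a) (chS σ (k - 1) s * b) := by
  unfold Y
  rw [← g.hex.tor1 s hs k a ha, ← L.tor1 s hs k b hb]
  group

theorem Y_tor6 {s : E} (hs : s ≠ 0) (hs' : σ s = s) {k : ZMod 12} {a b : E} (ha : Ok σ k a) (hb : Ok σ k b) :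
    hh x 6 s * Y x z k a b * (hh x 6 s)⁻¹ = Y x z k (chL (k - 6) s * a) (chL (k - 6) s * b) := by
  unfold Y
  rw [← g.hex.tor6 s hs hs' k a ha, ← L.tor6 s hs hs' k b hb]
  group

theorem Y_tor {s u : E} (hs : s ≠ 0) (hu : u ≠ 0) (hu' : σ u = u) {k : ZMod 12} {a b : E} (ha : Ok σ k a)
    (hb : Ok σ k b) : hh x 1 s * hh x 6 u * Y x z k a b * (hh x 1 s * hh x 6 u)⁻¹ =
      Y x z k (chS σ (k - 1) s * chL (k - 6) u * a) (chS σ (k - 1) s * chL (k - 6) u * b) := by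
  have hw : Ok σ k (chL (k - 6) u) := g.hex.ok_chi 6 k (ok_of_fix _ hu')
  have e : hh x 1 s * hh x 6 u * Y x z k a b * (hh x 1 s * hh x 6 u)⁻¹ =
      hh x 1 s * (hh x 6 u * Y x z k a b * (hh x 6 u)⁻¹) * (hh x 1 s)⁻¹ := by group
  rw [e, Y_tor6 g L hu hu' ha hb, Y_tor1 g L hs (hw.mul ha) (hw.mul hb), mul_assoc, mul_assoc]

end Y

/-! ### Products -/

section prod

theorem exists_mul_of_mem_sup {H K : Subgroup G} (h : ∀ k ∈ K, ∀ a ∈ H, k * a * k⁻¹ ∈ H) {y : G} (hy : y ∈ H ⊔ K) :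
    ∃ a ∈ H, ∃ k ∈ K, y = a * k := by
  let P : Subgroup G :=
    { carrier := {y | ∃ a ∈ H, ∃ k ∈ K, y = a * k}
      one_mem' := ⟨1, one_mem _, 1, one_mem _, (mul_one 1).symm⟩
      mul_mem' := by
        rintro _ _ ⟨a, ha, k, hk, rfl⟩ ⟨b, hb, l, hl, rfl⟩
        exact ⟨a * (k * b * k⁻¹), mul_mem ha (h k hk b hb), k * l, mul_mem hk hl, by group⟩
      inv_mem' := by
        rintro _ ⟨a, ha, k, hk, rfl⟩
        exact ⟨k⁻¹ * a⁻¹ * (k⁻¹)⁻¹, h _ (inv_mem hk) _ (inv_mem ha), k⁻¹, inv_mem hk, by group⟩ }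
  have hP : H ⊔ K ≤ P := by
    rw [sup_le_iff]
    exact ⟨fun a ha => ⟨a, ha, 1, one_mem _, (mul_one a).symm⟩, fun k hk => ⟨1, one_mem _, k, hk, (one_mul k).symm⟩⟩
  exact hP hy

theorem norm_of_comm {H K : Subgroup G} (h : ∀ a ∈ H, ∀ k ∈ K, a * k = k * a) : ∀ k ∈ K, ∀ a ∈ H, k * a * k⁻¹ ∈ H := by
  intro k hk a ha
  rw [← h a ha k hk, mul_inv_cancel_right]
  exact ha

variable (g : Gr σ x t V)

include g

theorem V_inv {k : ZMod 12} {y : G} (hy : y ∈ V k) : y⁻¹ = y := inv_eq_of_mul_eq_one_left (g.sq k y hy)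

/-- the element `c` with `b a = a (c b)` -/
theorem swap {k l : ZMod 12} {a b : G} (ha : a ∈ V k) (hb : b ∈ V l) : b * a = a * (⁅a, b⁆ * b) := by
  rw [commutatorElement_def, V_inv g ha, V_inv g hb]
  have h1 := g.sq k a ha
  have h2 := g.sq l b hb
  calc b * a = 1 * b * a * 1 := by group
    _ = (a * a) * b * a * (b * b) := by rw [h1, h2]
    _ = a * (a * b * a * b * b) := by group

theorem J_decomp {y : G} (hy : y ∈ V 2 ⊔ V 3 ⊔ V 4) : ∃ p ∈ V 2, ∃ w ∈ V 3, ∃ q ∈ V 4, y = p * (w * q) := by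
  have c23 : ∀ a ∈ V 2, ∀ k ∈ V 3, a * k = k * a := g.c1 2
  have c34 : ∀ a ∈ V 3, ∀ k ∈ V 4, a * k = k * a := g.c1 3
  have c24 : ∀ a ∈ V 2, ∀ k ∈ V 4, a * k = k * a := g.l2 2 (by decide)
  have n1 : ∀ k ∈ V 4, ∀ a ∈ V 2 ⊔ V 3, k * a * k⁻¹ ∈ V 2 ⊔ V 3 := by
    intro k hk a ha
    obtain ⟨p, hp, w, hw, rfl⟩ := exists_mul_of_mem_sup (norm_of_comm c23) ha
    have : k * (p * w) * k⁻¹ = p * w := by
      rw [← mul_assoc, ← c24 p hp k hk, mul_assoc p, ← c34 w hw k hk]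
      group
    rw [this]; exact ha
  obtain ⟨a, ha, q, hq, rfl⟩ := exists_mul_of_mem_sup n1 hy
  obtain ⟨p, hp, w, hw, rfl⟩ := exists_mul_of_mem_sup (norm_of_comm c23) ha
  exact ⟨p, hp, w, hw, q, hq, by rw [mul_assoc]⟩

theorem Q_decomp {y : G} (hy : y ∈ V 2 ⊔ V 3 ⊔ V 4 ⊔ V 5) :
    ∃ p ∈ V 2, ∃ w ∈ V 3, ∃ q ∈ V 4, ∃ d ∈ V 5, y = p * (w * (q * d)) := by
  have c25 : ∀ a ∈ V 2, ∀ k ∈ V 5, a * k = k * a := g.c3 2
  have c45 : ∀ a ∈ V 4, ∀ k ∈ V 5, a * k = k * a := g.c1 4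
  have s35 : ∀ a ∈ V 3, ∀ k ∈ V 5, ⁅a, k⁆ ∈ V 4 := g.s2 3 (by decide)
  have n1 : ∀ k ∈ V 5, ∀ a ∈ V 2 ⊔ V 3 ⊔ V 4, k * a * k⁻¹ ∈ V 2 ⊔ V 3 ⊔ V 4 := by
    intro k hk a ha
    obtain ⟨p, hp, w, hw, q, hq, rfl⟩ := J_decomp g ha
    have e1 : k * w = w * (⁅w, k⁆ * k) := swap g hw hk
    have e : k * (p * (w * q)) * k⁻¹ = p * (w * (⁅w, k⁆ * q)) := by
      calc k * (p * (w * q)) * k⁻¹ = (k * p) * (w * q) * k⁻¹ := by group
        _ = p * (k * w) * q * k⁻¹ := by rw [← c25 p hp k hk]; group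
        _ = p * (w * (⁅w, k⁆ * k)) * q * k⁻¹ := by rw [e1]
        _ = p * (w * (⁅w, k⁆ * (k * q * k⁻¹))) := by group
        _ = _ := by rw [← c45 q hq k hk]; group
    rw [e]
    have i2 : V 2 ≤ V 2 ⊔ V 3 ⊔ V 4 := le_sup_of_le_left le_sup_left
    have i3 : V 3 ≤ V 2 ⊔ V 3 ⊔ V 4 := le_sup_of_le_left le_sup_right
    have i4 : V 4 ≤ V 2 ⊔ V 3 ⊔ V 4 := le_sup_right
    exact mul_mem (i2 hp) (mul_mem (i3 hw) (mul_mem (i4 (s35 w hw k hk)) (i4 hq)))
  obtain ⟨a, ha, d, hd, rfl⟩ := exists_mul_of_mem_sup n1 hy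
  obtain ⟨p, hp, w, hw, q, hq, rfl⟩ := J_decomp g ha
  exact ⟨p, hp, w, hw, q, hq, d, hd, by group⟩

end prod

/-! ### The torus in the coordinates of `Pos` -/

section torus

variable [Finite E]

theorem exists_sqrt (h2 : (2 : E) = 0) (a : E) : ∃ b : E, b ^ 2 = a := by
  have : CharP E 2 := CharTwo.of_one_ne_zero_of_two_eq_zero one_ne_zero h2
  have hinj : Function.Injective (fun b : E => b ^ 2) := by
    intro b c e
    have e' : b ^ 2 = c ^ 2 := e
    have h : (b - c) ^ 2 = 0 := by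
      linear_combination e' + (c ^ 2 - b * c) * h2
    exact sub_eq_zero.1 (pow_eq_zero_iff two_ne_zero |>.1 h)
  exact Finite.surjective_of_injective hinj a

theorem sq_inj (h2 : (2 : E) = 0) {b c : E} (e : b ^ 2 = c ^ 2) : b = c := by
  have h : (b - c) ^ 2 = 0 := by
    linear_combination e + (c ^ 2 - b * c) * h2
  exact sub_eq_zero.1 (pow_eq_zero_iff two_ne_zero |>.1 h)

/-- square root of `k N(k)` -/
noncomputable def rt (σ : E ≃+* E) (h2 : (2 : E) = 0) (k : E) : E := Classical.choose (exists_sqrt h2 (k * nrm σ k))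

theorem rt_sq (h2 : (2 : E) = 0) (k : E) : rt σ h2 k ^ 2 = k * nrm σ k := Classical.choose_spec (exists_sqrt h2 _)

theorem rt_ne (h2 : (2 : E) = 0) {k : E} (hk : k ≠ 0) : rt σ h2 k ≠ 0 := by
  intro h0
  have := rt_sq (σ := σ) h2 k
  rw [h0, zero_pow two_ne_zero] at this
  exact mul_ne_zero hk (nrm_ne_zero hk) this.symm

theorem nrm_sq (k : E) : nrm σ (k ^ 2) = nrm σ k ^ 2 := by
  unfold nrm
  rw [map_pow, map_pow]
  ring

theorem nrm_nrm (h3 : ∀ a, σ (σ (σ a)) = a) (k : E) : nrm σ (nrm σ k) = nrm σ k ^ 3 := by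
  have e := nrm_fix h3 k
  have : nrm σ (nrm σ k) = nrm σ k * σ (nrm σ k) * σ (σ (nrm σ k)) := rfl
  rw [this, e, e]
  ring

theorem nrm_rt (h2 : (2 : E) = 0) (h3 : ∀ a, σ (σ (σ a)) = a) (k : E) : nrm σ (rt σ h2 k) = nrm σ k ^ 2 := by
  apply sq_inj h2
  rw [← nrm_sq, rt_sq, nrm_mul, nrm_nrm h3]
  ring

theorem mul_shp (k : E) : k * shp σ k = nrm σ k := by
  unfold shp nrm
  ring

/-- the torus element -/
noncomputable def hp (σ : E ≃+* E) (x : ZMod 12 → E → G) (h2 : (2 : E) = 0) (k l : E) : G :=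
  hh x 1 (l * rt σ h2 k) * hh x 6 (l ^ 2 * nrm σ k)

theorem nrm_l {l : E} (hl : σ l = l) : nrm σ l = l ^ 3 := by
  unfold nrm
  rw [hl, hl]
  ring

variable (h2 : (2 : E) = 0) (h3 : ∀ a, σ (σ (σ a)) = a) {k l : E} (hk : k ≠ 0) (hl : l ≠ 0) (hl' : σ l = l)

include h3 hk hl hl'

theorem w1 : chS σ (1 - 1) (l * rt σ h2 k) * chL (1 - 6) (l ^ 2 * nrm σ k) = k := by
  change (l * rt σ h2 k) ^ 2 * (l ^ 2 * nrm σ k)⁻¹ = k
  have hn := nrm_ne_zero (σ := σ) hk
  rw [mul_pow, rt_sq]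
  field_simp

theorem w2 : chS σ (2 - 1) (l * rt σ h2 k) * chL (2 - 6) (l ^ 2 * nrm σ k) = nrm σ k * l := by
  change nrm σ (l * rt σ h2 k) * (l ^ 2 * nrm σ k)⁻¹ = _
  have hn := nrm_ne_zero (σ := σ) hk
  rw [nrm_mul, nrm_rt h2 h3, nrm_l hl']
  field_simp

theorem w3 : chS σ (3 - 1) (l * rt σ h2 k) * chL (3 - 6) (l ^ 2 * nrm σ k) = shp σ k * l := by
  change (l * rt σ h2 k)⁻¹ * shp σ (l * rt σ h2 k) * 1 = _
  have hn := nrm_ne_zero (σ := σ) hk
  have hr := rt_ne (σ := σ) h2 hk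
  have hs : l * rt σ h2 k ≠ 0 := mul_ne_zero hl hr
  have e1 : (l * rt σ h2 k) ^ 2 * ((l * rt σ h2 k)⁻¹ * shp σ (l * rt σ h2 k)) = nrm σ (l * rt σ h2 k) := by
    rw [← mul_shp (σ := σ) (l * rt σ h2 k)]
    field_simp
  have e2 : (l * rt σ h2 k) ^ 2 * (shp σ k * l) = nrm σ (l * rt σ h2 k) := by
    rw [nrm_mul, nrm_rt h2 h3, nrm_l hl', mul_pow, rt_sq, ← mul_shp (σ := σ) k]
    ring
  rw [mul_one]
  exact mul_left_cancel₀ (pow_ne_zero 2 hs) (e1.trans e2.symm)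

theorem w4 : chS σ (4 - 1) (l * rt σ h2 k) * chL (4 - 6) (l ^ 2 * nrm σ k) = nrm σ k * l ^ 2 := by
  change 1 * (l ^ 2 * nrm σ k) = _
  ring

theorem w6 : chS σ (6 - 1) (l * rt σ h2 k) * chL (6 - 6) (l ^ 2 * nrm σ k) = l := by
  change (nrm σ (l * rt σ h2 k))⁻¹ * (l ^ 2 * nrm σ k) ^ 2 = l
  have hn := nrm_ne_zero (σ := σ) hk
  rw [nrm_mul, nrm_rt h2 h3, nrm_l hl']
  field_simp

theorem w5 : chS σ (5 - 1) (l * rt σ h2 k) * chL (5 - 6) (l ^ 2 * nrm σ k) = k * l := by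
  change (l * rt σ h2 k) * (shp σ (l * rt σ h2 k))⁻¹ * (l ^ 2 * nrm σ k) = k * l
  have hn := nrm_ne_zero (σ := σ) hk
  have hr := rt_ne (σ := σ) h2 hk
  have hs : l * rt σ h2 k ≠ 0 := mul_ne_zero hl hr
  have hs' := shp_ne_zero (σ := σ) hs
  have e1 : (l * rt σ h2 k) * shp σ (l * rt σ h2 k) = l ^ 3 * nrm σ k ^ 2 := by
    rw [mul_shp, nrm_mul, nrm_rt h2 h3, nrm_l hl']
  have e2 : (l * rt σ h2 k) ^ 2 = l ^ 2 * (k * nrm σ k) := by rw [mul_pow, rt_sq]
  rw [mul_comm (l * rt σ h2 k), mul_assoc, inv_mul_eq_iff_eq_mul₀ hs']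
  refine mul_left_cancel₀ hs ?_
  calc l * rt σ h2 k * (l * rt σ h2 k * (l ^ 2 * nrm σ k)) = (l * rt σ h2 k) ^ 2 * (l ^ 2 * nrm σ k) := by ring
    _ = (l ^ 3 * nrm σ k ^ 2) * (k * l) := by rw [e2]; ring
    _ = l * rt σ h2 k * (shp σ (l * rt σ h2 k) * (k * l)) := by rw [← e1]; ring

end torus

/-! ### The structure `Pos` -/

section pos

variable {F K : Type*} [Field F] [Field K] [Algebra F K] {φ : K ≃ₐ[F] K} (hφ : CubicPair φ) [Finite K]
  {x : ZMod 12 → K → G} (g : Gr (φ : K ≃+* K) x t V) {z : ZMod 12 → K → G} (L : Lab (φ : K ≃+* K) x t V z)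

theorem okF (k : ZMod 12) (a : F) : Ok (φ : K ≃+* K) k (algebraMap F K a) := fun _ => φ.commutes a

include hφ in
theorem exists_F {a : K} (h : (φ : K ≃+* K) a = a) : ∃ b : F, algebraMap F K b = a := hφ.fixed a h

theorem algebraMap_nm' (a : K) : algebraMap F K ((OfPair.cubic hφ).N a) = nrm (φ : K ≃+* K) a := algebraMap_nm hφ a

theorem algebraMap_tr' (a b : K) : algebraMap F K ((OfPair.cubic hφ).T a b) = trc (φ : K ≃+* K) a b :=
  algebraMap_tr hφ (a * b)

/-- **The input of the ring part.** -/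
noncomputable def pos : HexRing.Def.Pos (OfPair.cubic hφ) G where
  y1 v := Y x z 1 v.1 v.2
  y2 v := Y x z 2 (algebraMap F K v.1) (algebraMap F K v.2)
  y3 v := Y x z 3 v.1 v.2
  y4 v := Y x z 4 (algebraMap F K v.1) (algebraMap F K v.2)
  y5 v := Y x z 5 v.1 v.2
  y6 v := Y x z 6 (algebraMap F K v.1) (algebraMap F K v.2)
  add1 v w := Y_add g L (ok1 _) (ok1 _) (ok1 _) (ok1 _)
  add2 v w := by
    rw [Prod.fst_add, Prod.snd_add, map_add, map_add]
    exact Y_add g L (okF _ _) (okF _ _) (okF _ _) (okF _ _)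
  add3 v w := Y_add g L (ok3 _) (ok3 _) (ok3 _) (ok3 _)
  add4 v w := by
    rw [Prod.fst_add, Prod.snd_add, map_add, map_add]
    exact Y_add g L (okF _ _) (okF _ _) (okF _ _) (okF _ _)
  add5 v w := Y_add g L (ok5 _) (ok5 _) (ok5 _) (ok5 _)
  add6 v w := by
    rw [Prod.fst_add, Prod.snd_add, map_add, map_add]
    exact Y_add g L (okF _ _) (okF _ _) (okF _ _) (okF _ _)
  r21 v w := (g.c1 1 _ (Y_mem g L (ok1 _) (ok1 _)) _ (Y_mem g L (okF _ _) (okF _ _))).symm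
  s31 b a := by
    have ha := Y_mem g L (ok1 a.1) (ok1 a.2)
    have hb := Y_mem g L (ok3 b.1) (ok3 b.2)
    obtain ⟨p, q, hp, hq, e⟩ := Y_surj g L (g.s2 1 (by decide) _ ha _ hb)
    obtain ⟨p', rfl⟩ := exists_F hφ (hp (by decide))
    obtain ⟨q', rfl⟩ := exists_F hφ (hq (by decide))
    refine ⟨(p', q'), ?_⟩
    rw [swap g ha hb, e]
    rfl
  r41 v w := (g.c3 1 _ (Y_mem g L (ok1 _) (ok1 _)) _ (Y_mem g L (okF _ _) (okF _ _))).symm
  s51 b a := by
    have ha := Y_mem g L (ok1 a.1) (ok1 a.2)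
    have hb := Y_mem g L (ok5 b.1) (ok5 b.2)
    obtain ⟨p, hp, w, hw, q, hq, e⟩ := J_decomp g (g.s4 1 (by decide) _ ha _ hb)
    obtain ⟨p1, p2, hp1, hp2, rfl⟩ := Y_surj g L hp
    obtain ⟨w1, w2, hw1, hw2, rfl⟩ := Y_surj g L hw
    obtain ⟨q1, q2, hq1, hq2, rfl⟩ := Y_surj g L hq
    obtain ⟨p1, rfl⟩ := exists_F hφ (hp1 (by decide))
    obtain ⟨p2, rfl⟩ := exists_F hφ (hp2 (by decide))
    obtain ⟨q1, rfl⟩ := exists_F hφ (hq1 (by decide))
    obtain ⟨q2, rfl⟩ := exists_F hφ (hq2 (by decide))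
    refine ⟨(p1, p2), (w1, w2), (q1, q2), ?_⟩
    rw [swap g ha hb, e]
    simp only [mul_assoc]
  s61 b a := by
    have ha := Y_mem g L (ok1 a.1) (ok1 a.2)
    have hb := Y_mem g L (okF 6 b.1) (okF 6 b.2)
    obtain ⟨p, hp, w, hw, q, hq, d, hd, e⟩ := Q_decomp g (g.c5 1 _ ha _ hb)
    obtain ⟨p1, p2, hp1, hp2, rfl⟩ := Y_surj g L hp
    obtain ⟨w1, w2, hw1, hw2, rfl⟩ := Y_surj g L hw
    obtain ⟨q1, q2, hq1, hq2, rfl⟩ := Y_surj g L hq
    obtain ⟨d1, d2, hd1, hd2, rfl⟩ := Y_surj g L hd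
    obtain ⟨p1, rfl⟩ := exists_F hφ (hp1 (by decide))
    obtain ⟨p2, rfl⟩ := exists_F hφ (hp2 (by decide))
    obtain ⟨q1, rfl⟩ := exists_F hφ (hq1 (by decide))
    obtain ⟨q2, rfl⟩ := exists_F hφ (hq2 (by decide))
    refine ⟨(p1, p2), (w1, w2), (q1, q2), (d1, d2), ?_⟩
    rw [swap g ha hb, e]
    simp only [mul_assoc]
  r32 v w := (g.c1 2 _ (Y_mem g L (okF _ _) (okF _ _)) _ (Y_mem g L (ok3 _) (ok3 _))).symm
  r42 v w := (g.l2 2 (by decide) _ (Y_mem g L (okF _ _) (okF _ _)) _ (Y_mem g L (okF _ _) (okF _ _))).symm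
  r52 v w := (g.c3 2 _ (Y_mem g L (okF _ _) (okF _ _)) _ (Y_mem g L (ok5 _) (ok5 _))).symm
  s62 b a := by
    have ha := Y_mem g L (okF 2 a.1) (okF 2 a.2)
    have hb := Y_mem g L (okF 6 b.1) (okF 6 b.2)
    obtain ⟨p, q, hp, hq, e⟩ := Y_surj g L (g.l4 2 (by decide) _ ha _ hb)
    obtain ⟨p', rfl⟩ := exists_F hφ (hp (by decide))
    obtain ⟨q', rfl⟩ := exists_F hφ (hq (by decide))
    refine ⟨(p', q'), ?_⟩
    rw [swap g ha hb, e]
    rfl
  r43 v w := (g.c1 3 _ (Y_mem g L (ok3 _) (ok3 _)) _ (Y_mem g L (okF _ _) (okF _ _))).symm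
  s53 b a := by
    have ha := Y_mem g L (ok3 a.1) (ok3 a.2)
    have hb := Y_mem g L (ok5 b.1) (ok5 b.2)
    obtain ⟨p, q, hp, hq, e⟩ := Y_surj g L (g.s2 3 (by decide) _ ha _ hb)
    obtain ⟨p', rfl⟩ := exists_F hφ (hp (by decide))
    obtain ⟨q', rfl⟩ := exists_F hφ (hq (by decide))
    refine ⟨(p', q'), ?_⟩
    rw [swap g ha hb, e]
    rfl
  r63 v w := (g.c3 3 _ (Y_mem g L (ok3 _) (ok3 _)) _ (Y_mem g L (okF _ _) (okF _ _))).symm
  r54 v w := (g.c1 4 _ (Y_mem g L (okF _ _) (okF _ _)) _ (Y_mem g L (ok5 _) (ok5 _))).symm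
  r64 v w := (g.l2 4 (by decide) _ (Y_mem g L (okF _ _) (okF _ _)) _ (Y_mem g L (okF _ _) (okF _ _))).symm
  r65 v w := (g.c1 5 _ (Y_mem g L (ok5 _) (ok5 _)) _ (Y_mem g L (okF _ _) (okF _ _))).symm
  inj a b c d e f a' b' c' d' e' f' h := by
    obtain ⟨h1, h2, h3, h4, h5, h6⟩ := g.nf _ (Y_mem g L (ok1 a.1) (ok1 a.2)) _ (Y_mem g L (okF 2 b.1) (okF 2 b.2))
      _ (Y_mem g L (ok3 c.1) (ok3 c.2)) _ (Y_mem g L (okF 4 d.1) (okF 4 d.2)) _ (Y_mem g L (ok5 e.1) (ok5 e.2))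
      _ (Y_mem g L (okF 6 f.1) (okF 6 f.2)) _ (Y_mem g L (ok1 a'.1) (ok1 a'.2)) _
      (Y_mem g L (okF 2 b'.1) (okF 2 b'.2)) _ (Y_mem g L (ok3 c'.1) (ok3 c'.2)) _
      (Y_mem g L (okF 4 d'.1) (okF 4 d'.2)) _ (Y_mem g L (ok5 e'.1) (ok5 e'.2)) _
      (Y_mem g L (okF 6 f'.1) (okF 6 f'.2)) (by simpa only [mul_assoc] using h)
    have ai := (algebraMap F K).injective
    obtain ⟨a1, a2⟩ := Y_inj g L (ok1 _) (ok1 _) (ok1 _) (ok1 _) h1
    obtain ⟨b1, b2⟩ := Y_inj g L (okF _ _) (okF _ _) (okF _ _) (okF _ _) h2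
    obtain ⟨c1, c2⟩ := Y_inj g L (ok3 _) (ok3 _) (ok3 _) (ok3 _) h3
    obtain ⟨d1, d2⟩ := Y_inj g L (okF _ _) (okF _ _) (okF _ _) (okF _ _) h4
    obtain ⟨e1, e2⟩ := Y_inj g L (ok5 _) (ok5 _) (ok5 _) (ok5 _) h5
    obtain ⟨f1, f2⟩ := Y_inj g L (okF _ _) (okF _ _) (okF _ _) (okF _ _) h6
    exact ⟨Prod.ext a1 a2, Prod.ext (ai b1) (ai b2), Prod.ext c1 c2,
      Prod.ext (ai d1) (ai d2), Prod.ext e1 e2, Prod.ext (ai f1) (ai f2)⟩
  rel := by
    have h := OfHexRel.posRel_of_hexRel hφ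
      (x1 := x 1) (x2 := x 2) (x3 := x 3) (x4 := x 4) (x5 := x 5) (x6 := x 6) g.hex.rel
    have e : ∀ (k : ZMod 12) (a : K), Y x z k a 0 = x k a := fun k a => Y_zero_right g L k a
    simp only [e, map_zero]
    exact h
  t := t
  t1 v := Y_t g L (ok1 _) (ok1 _)
  t2 v := by
    rw [map_add]
    exact Y_t g L (okF _ _) (okF _ _)
  t3 v := Y_t g L (ok3 _) (ok3 _)
  t4 v := by
    rw [map_add]
    exact Y_t g L (okF _ _) (okF _ _)
  t5 v := Y_t g L (ok5 _) (ok5 _)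
  t6 v := by
    rw [map_add]
    exact Y_t g L (okF _ _) (okF _ _)
  h k l := hp (φ : K ≃+* K) x hφ.two k (algebraMap F K l)
  h1 k l hk hl v := by
    have hl' : algebraMap F K l ≠ 0 := by
      rw [Ne, map_eq_zero]
      exact hl
    have hσl : (φ : K ≃+* K) (algebraMap F K l) = algebraMap F K l := φ.commutes l
    have := Y_tor g L (k := 1) (s := algebraMap F K l * rt (φ : K ≃+* K) hφ.two k)
      (u := algebraMap F K l ^ 2 * nrm (φ : K ≃+* K) k)
      (mul_ne_zero hl' (rt_ne hφ.two hk)) (mul_ne_zero (pow_ne_zero 2 hl') (nrm_ne_zero hk))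
      (by rw [map_mul, map_pow, hσl, nrm_fix g.hex.cube]) (ok1 v.1) (ok1 v.2)
    rw [w1 hφ.two g.hex.cube hk hl' hσl] at this
    exact this
  h2 k l hk hl v := by
    have hl' : algebraMap F K l ≠ 0 := by
      rw [Ne, map_eq_zero]
      exact hl
    have hσl : (φ : K ≃+* K) (algebraMap F K l) = algebraMap F K l := φ.commutes l
    have := Y_tor g L (k := 2) (s := algebraMap F K l * rt (φ : K ≃+* K) hφ.two k)
      (u := algebraMap F K l ^ 2 * nrm (φ : K ≃+* K) k)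
      (mul_ne_zero hl' (rt_ne hφ.two hk)) (mul_ne_zero (pow_ne_zero 2 hl') (nrm_ne_zero hk))
      (by rw [map_mul, map_pow, hσl, nrm_fix g.hex.cube]) (okF _ v.1) (okF _ v.2)
    rw [w2 hφ.two g.hex.cube hk hl' hσl] at this
    refine this.trans ?_
    change _ = Y x z 2 (algebraMap F K (((OfPair.cubic hφ).N k * l) * v.1)) (algebraMap F K (((OfPair.cubic hφ).N k * l) * v.2))
    simp only [_root_.map_mul, algebraMap_nm' hφ]
  h3 k l hk hl v := by
    have hl' : algebraMap F K l ≠ 0 := by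
      rw [Ne, map_eq_zero]
      exact hl
    have hσl : (φ : K ≃+* K) (algebraMap F K l) = algebraMap F K l := φ.commutes l
    have := Y_tor g L (k := 3) (s := algebraMap F K l * rt (φ : K ≃+* K) hφ.two k)
      (u := algebraMap F K l ^ 2 * nrm (φ : K ≃+* K) k)
      (mul_ne_zero hl' (rt_ne hφ.two hk)) (mul_ne_zero (pow_ne_zero 2 hl') (nrm_ne_zero hk))
      (by rw [map_mul, map_pow, hσl, nrm_fix g.hex.cube]) (ok3 v.1) (ok3 v.2)
    rw [w3 hφ.two g.hex.cube hk hl' hσl] at this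
    exact this
  h4 k l hk hl v := by
    have hl' : algebraMap F K l ≠ 0 := by
      rw [Ne, map_eq_zero]
      exact hl
    have hσl : (φ : K ≃+* K) (algebraMap F K l) = algebraMap F K l := φ.commutes l
    have := Y_tor g L (k := 4) (s := algebraMap F K l * rt (φ : K ≃+* K) hφ.two k)
      (u := algebraMap F K l ^ 2 * nrm (φ : K ≃+* K) k)
      (mul_ne_zero hl' (rt_ne hφ.two hk)) (mul_ne_zero (pow_ne_zero 2 hl') (nrm_ne_zero hk))
      (by rw [map_mul, map_pow, hσl, nrm_fix g.hex.cube]) (okF _ v.1) (okF _ v.2)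
    rw [w4 hφ.two g.hex.cube hk hl' hσl] at this
    refine this.trans ?_
    change _ = Y x z 4 (algebraMap F K (((OfPair.cubic hφ).N k * l ^ 2) * v.1)) (algebraMap F K (((OfPair.cubic hφ).N k * l ^ 2) * v.2))
    simp only [_root_.map_mul, map_pow, algebraMap_nm' hφ]
  h5 k l hk hl v := by
    have hl' : algebraMap F K l ≠ 0 := by
      rw [Ne, map_eq_zero]
      exact hl
    have hσl : (φ : K ≃+* K) (algebraMap F K l) = algebraMap F K l := φ.commutes l
    have := Y_tor g L (k := 5) (s := algebraMap F K l * rt (φ : K ≃+* K) hφ.two k)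
      (u := algebraMap F K l ^ 2 * nrm (φ : K ≃+* K) k)
      (mul_ne_zero hl' (rt_ne hφ.two hk)) (mul_ne_zero (pow_ne_zero 2 hl') (nrm_ne_zero hk))
      (by rw [map_mul, map_pow, hσl, nrm_fix g.hex.cube]) (ok5 v.1) (ok5 v.2)
    rw [w5 hφ.two g.hex.cube hk hl' hσl] at this
    exact this
  h6 k l hk hl v := by
    have hl' : algebraMap F K l ≠ 0 := by
      rw [Ne, map_eq_zero]
      exact hl
    have hσl : (φ : K ≃+* K) (algebraMap F K l) = algebraMap F K l := φ.commutes l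
    have := Y_tor g L (k := 6) (s := algebraMap F K l * rt (φ : K ≃+* K) hφ.two k)
      (u := algebraMap F K l ^ 2 * nrm (φ : K ≃+* K) k)
      (mul_ne_zero hl' (rt_ne hφ.two hk)) (mul_ne_zero (pow_ne_zero 2 hl') (nrm_ne_zero hk))
      (by rw [map_mul, map_pow, hσl, nrm_fix g.hex.cube]) (okF _ v.1) (okF _ v.2)
    rw [w6 hφ.two g.hex.cube hk hl' hσl] at this
    refine this.trans ?_
    change _ = Y x z 6 (algebraMap F K ((l) * v.1)) (algebraMap F K ((l) * v.2))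
    rw [_root_.map_mul, _root_.map_mul]
  na := nn x 1
  nb := nn x 6
  na_sq := g.hex.nn_sq 1
  nb_sq := g.hex.nn_sq 6
  na2 v := by
    have := Y_refl g L 1 (k := 2) (okF _ v.1) (okF _ v.2)
    rw [g.hex.nn_inv] at this
    exact this
  na3 v := by
    have := Y_refl g L 1 (k := 3) (ok3 v.1) (ok3 v.2)
    rw [g.hex.nn_inv] at this
    exact this
  na4 v := by
    have := Y_refl g L 1 (k := 4) (okF _ v.1) (okF _ v.2)
    rw [g.hex.nn_inv] at this
    exact this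
  nb1 v := by
    have := Y_refl g L 6 (k := 1) (ok1 v.1) (ok1 v.2)
    rw [g.hex.nn_inv] at this
    exact this
  nb2 v := by
    have := Y_refl g L 6 (k := 2) (okF _ v.1) (okF _ v.2)
    rw [g.hex.nn_inv] at this
    exact this
  nb3 v := by
    have := Y_refl g L 6 (k := 3) (ok3 v.1) (ok3 v.2)
    rw [g.hex.nn_inv] at this
    exact this
  rank1 := by
    have e : ∀ (k : ZMod 12) (a : K), Y x z k a 0 = x k a := fun k a => Y_zero_right g L k a
    have e1 : nn x 6 * x 6 1 * nn x 6 = x (6 + 6) 1 := g.hex.refl' 6 6 (ok_one _ 6)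
    simp only [e, map_zero, map_one, e1]
    rfl

end pos

end Cfsg.Agent.HexEight.ToPos
end

-- part: HexEight/Alg
section
/-!
# The two factors of `K[ω]`, `ω² = β + ω`, when `c² + c = β` has a solution in `F`
-/

set_option autoImplicit false

namespace Cfsg.Agent.HexEight.Alg

open Cfsg.Agent.HexRec Cfsg.Agent.HexRing.Def

variable {F K : Type*} [Field F] [Field K] [Algebra F K] (C : Cubic F K) {β : F}

/-- `a ↦ a (ω + c)` -/
def psi (β c : F) (a : K) : MQ K β := ⟨algebraMap F K c * a, a⟩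

/-- `a ↦ a (ω + c)` -/
def psiF (β c : F) (a : F) : RQ β := ⟨c * a, a⟩

section mul

variable {c : F} (hc : c * c + c = β)

include C hc

theorem hc' : c * c = c + β := by
  linear_combination hc - C.two_F * c

theorem hcK : algebraMap F K c * algebraMap F K c = algebraMap F K c + algebraMap F K β := by
  rw [← map_mul, hc' C hc, map_add]

theorem psi_mul (a b : K) : psi β c a * psi β c b = psi β c (a * b) := by
  have h2 := C.two_K
  ext
  · simp only [psi, QuadraticAlgebra.re_mul]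
    linear_combination (a * b) * hcK C hc + (algebraMap F K β * a * b) * h2
  · simp only [psi, QuadraticAlgebra.im_mul]
    linear_combination (algebraMap F K c * a * b) * h2

theorem psiF_mul (a b : F) : psiF β c a * psiF β c b = psiF β c (a * b) := by
  have h2 := C.two_F
  ext
  · simp only [psiF, QuadraticAlgebra.re_mul]
    linear_combination (a * b) * hc' C hc + (β * a * b) * h2
  · simp only [psiF, QuadraticAlgebra.im_mul]
    linear_combination (c * a * b) * h2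

theorem psi_mul' (a b : K) : psi β c a * psi β (c + 1) b = 0 := by
  have h2 := C.two_K
  ext
  · simp only [psi, QuadraticAlgebra.re_mul, map_add, map_one, QuadraticAlgebra.re_zero]
    linear_combination (a * b) * hcK C hc + (algebraMap F K c * a * b + algebraMap F K β * a * b) * h2
  · simp only [psi, QuadraticAlgebra.im_mul, map_add, map_one, QuadraticAlgebra.im_zero]
    linear_combination (algebraMap F K c * a * b + a * b) * h2

theorem psiF_mul' (a b : F) : psiF β c a * psiF β (c + 1) b = 0 := by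
  have h2 := C.two_F
  ext
  · simp only [psiF, QuadraticAlgebra.re_mul, QuadraticAlgebra.re_zero]
    linear_combination (a * b) * hc' C hc + (c * a * b + β * a * b) * h2
  · simp only [psiF, QuadraticAlgebra.im_mul, QuadraticAlgebra.im_zero]
    linear_combination (c * a * b + a * b) * h2

theorem hc_succ : (c + 1) * (c + 1) + (c + 1) = β := by
  linear_combination hc + C.two_F * (c + 1)

omit hc in
include C in
theorem succ_succ : c + 1 + 1 = c := by linear_combination C.two_F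

omit C hc in
theorem incl_psiF (a : F) : incl K (psiF β c a) = psi β c (algebraMap F K a) := by
  ext
  · exact map_mul _ _ _
  · rfl

omit C in
theorem sh_psi (C : Cubic F K) (a : K) : shQ C (psi β c a) = psi β c (C.sh a) := by
  have h1 : C.sh (algebraMap F K c * a) = algebraMap F K c ^ 2 * C.sh a := by rw [C.sh_mul, C.sh_map]
  have h2 : C.cr (algebraMap F K c * a) a = 0 := by
    unfold Cubic.cr
    have h3 : algebraMap F K c * a + a = algebraMap F K (c + 1) * a := by rw [map_add, map_one]; ring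
    rw [h3, C.sh_mul, C.sh_mul, C.sh_map, C.sh_map, map_add, map_one]
    linear_combination (algebraMap F K c ^ 2 * C.sh a + algebraMap F K c * C.sh a + C.sh a) * C.two_K
  ext
  · simp only [shQ, psi]
    rw [h1]
    linear_combination (C.sh a) * hcK C hc + (algebraMap F K β * C.sh a) * C.two_K
  · simp only [shQ, psi]
    rw [h2, zero_add]

omit hc in
theorem cr_smul_right (f : F) (a b : K) : C.cr a (algebraMap F K f * b) = algebraMap F K f * C.cr a b := by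
  apply sub_eq_zero.1
  apply C.T_nondeg
  intro s
  have h : ∀ u v w : K, C.T (C.cr u v) w = C.T u (C.cr v w) := C.T_cr
  have e1 : C.T (C.cr a (algebraMap F K f * b)) s = f * C.T (C.cr a b) s := by
    rw [C.cr_comm, C.T_cr, ← Algebra.smul_def, C.T_smul_left, C.cr_comm a b, C.T_cr]
  have e2 : C.T (algebraMap F K f * C.cr a b) s = f * C.T (C.cr a b) s := by
    rw [← Algebra.smul_def, C.T_smul_left]
  have e3 : C.cr a (algebraMap F K f * b) - algebraMap F K f * C.cr a b =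
      C.cr a (algebraMap F K f * b) + algebraMap F K f * C.cr a b := by
    rw [sub_eq_add_neg, C.neg_eqK]
  rw [e3, C.T_add_left, e1, e2, C.add_self]

omit hc in
theorem cr_smul_left (f : F) (a b : K) : C.cr (algebraMap F K f * a) b = algebraMap F K f * C.cr a b := by
  rw [C.cr_comm, cr_smul_right, C.cr_comm]

theorem cr_psi (a b : K) : crQ C (psi β c a) (psi β c b) = psi β c (C.cr a b) := by
  have h2 := C.two_K
  ext
  · simp only [crQ, psi, cr_smul_left, cr_smul_right]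
    linear_combination (C.cr a b) * hcK C hc + (algebraMap F K β * C.cr a b) * h2
  · simp only [crQ, psi, cr_smul_left, cr_smul_right]
    linear_combination (algebraMap F K c * C.cr a b) * h2

theorem cr_psi' (a b : K) : crQ C (psi β c a) (psi β (c + 1) b) = 0 := by
  have h2 := C.two_K
  ext
  · simp only [crQ, psi, cr_smul_left, cr_smul_right, QuadraticAlgebra.re_zero]
    simp only [map_add, map_one]
    linear_combination (C.cr a b) * hcK C hc + (algebraMap F K c * C.cr a b + algebraMap F K β * C.cr a b) * h2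
  · simp only [crQ, psi, cr_smul_left, cr_smul_right, QuadraticAlgebra.im_zero]
    simp only [map_add, map_one]
    linear_combination (algebraMap F K c * C.cr a b + C.cr a b) * h2

theorem T_psi (a b : K) : TQ C (psi β c a) (psi β c b) = psiF β c (C.T a b) := by
  unfold TQ
  rw [psi_mul C hc]
  ext
  · change C.tr (algebraMap F K c * (a * b)) = c * C.tr (a * b)
    rw [← Algebra.smul_def, map_smul, smul_eq_mul]
  · rfl

theorem T_psi' (a b : K) : TQ C (psi β c a) (psi β (c + 1) b) = 0 := by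
  unfold TQ
  rw [psi_mul' C hc]
  ext
  · exact map_zero _
  · exact map_zero _

theorem N_psi (a : K) : NQ C (psi β c a) = psiF β c (C.N a) := by
  unfold NQ
  rw [sh_psi hc, T_psi C hc, C.T_self_sh]

end mul

end Cfsg.Agent.HexEight.Alg
end

-- part: HexRing/Fun
section
/-!
# The ring of a grown hexagonal 2-group: the functional equations

`FSys` : the structure functions of the commutator relations, abstractly; the theorems below determine all of them.
-/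

set_option autoImplicit false

namespace Cfsg.Agent.HexRing.Fun

open Cfsg.Agent.HexRec Cfsg.Agent.HexRing.Def

/-- the structure functions -/
structure FSys {F K : Type*} [Field F] [Field K] [Algebra F K] (C : Cubic F K) (R M : Type*) [AddCommGroup R]
    [Module F R] [AddCommGroup M] [Module K M] where
  one : R
  e : R
  uno : M
  tR : R → R
  tM : M → M
  tR_add : ∀ a b, tR (a + b) = tR a + tR b
  tR_smul : ∀ (l : F) a, tR (l • a) = l • tR a
  tR_one : tR one = one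
  tR_e : tR e = e + one
  tM_add : ∀ a b, tM (a + b) = tM a + tM b
  tM_smul : ∀ (l : K) a, tM (l • a) = l • tM a
  tM_uno : tM uno = uno
  tM_tM : ∀ a, tM (tM a) = a
  decR : ∀ r, ∃ a b : F, r = a • one + b • e
  freeR : ∀ a b : F, a • one + b • e = 0 → a = 0 ∧ b = 0
  fixM : ∀ m, tM m = m → ∃ k : K, m = k • uno
  freeM : ∀ k : K, k • uno = 0 → k = 0
  T : M → M → R
  o : R → R → R
  D : M → R → M
  X : M → M → M
  P : M → M → R
  A : M → R → R
  B : M → R → M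
  G : M → R → R
  T_add : ∀ a a' b, T (a + a') b = T a b + T a' b
  T_symm : ∀ a b, T a b = T b a
  T_K : ∀ (k : K) a b, T (k • a) b = T a (k • b)
  T_F : ∀ (l : F) a b, T (algebraMap F K l • a) b = l • T a b
  T_uno : ∀ k l : K, T (k • uno) (l • uno) = C.T k l • one
  T_t : ∀ a b, T (tM a) (tM b) = tR (T a b)
  o_addL : ∀ s s' u, o (s + s') u = o s u + o s' u
  o_addR : ∀ s u u', o s (u + u') = o s u + o s u'
  o_oneL : ∀ u, o one u = u
  o_oneR : ∀ s, o s one = s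
  o_t : ∀ s u, o (tR s) (tR u) = tR (o s u)
  D_addL : ∀ a a' u, D (a + a') u = D a u + D a' u
  D_addR : ∀ a u u', D a (u + u') = D a u + D a u'
  D_smul : ∀ (k : K) (l : F) a u, D (k • a) (l • u) = (k * algebraMap F K l) • D a u
  D_one : ∀ a, D a one = a
  D_t : ∀ a u, D (tM a) (tR u) = tM (D a u)
  H1 : ∀ a u b, T (D a u) b = o (T a b) u
  X_addL : ∀ a a' b, X (a + a') b = X a b + X a' b
  X_symm : ∀ a b, X a b = X b a
  X_uno : ∀ k l : K, X (k • uno) (l • uno) = C.cr k l • uno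
  P_addL : ∀ a a' b, P (a + a') b = P a b + P a' b + T a' (X a b)
  H2 : ∀ a b u, o (P a b) u = T (X a b) (D a u) + T (B a u) b
  A_addR : ∀ a u u', A a (u + u') = A a u + A a u'
  G_addR : ∀ a u u', G a (u + u') = G a u + G a u' + o (A a u) u' + T (D a u') (B a u)
  B_addL : ∀ a a' u, B (a + a') u = B a u + B a' u + X a' (D a u)
  G_addL : ∀ a a' u, G (a + a') u = G a u + G a' u + P (D a u) a' + T (D a u) (B a' u)
  B_smul : ∀ (k : K) a u, B (k • a) u = C.sh k • B a u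
  B_uno : B uno one = uno
  B_t : ∀ a u, B (tM a) (tR u) = tM (B a u)
  G_smul : ∀ (k : K) a u, G (k • a) u = C.N k • G a u

namespace FSys

variable {F K : Type*} [Field F] [Field K] [Algebra F K] {C : Cubic F K} {R M : Type*} [AddCommGroup R]
    [Module F R] [AddCommGroup M] [Module K M] (Z : FSys C R M)

include C in
omit M in
theorem twoR (r : R) : r + r = 0 := by
  rw [← two_smul F, C.two_F, zero_smul]

include C in
omit R in
theorem twoM (r : M) : r + r = 0 := by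
  rw [← two_smul K, C.two_K, zero_smul]

include C in
omit M in
theorem addR_eq {a b c : R} (h : a + b = c) : a = c + b := by
  rw [← h, add_assoc, twoR (C := C) (F := F) b, add_zero]

include C in
omit R in
theorem addM_eq {a b c : M} (h : a + b = c) : a = c + b := by
  rw [← h, add_assoc, twoM (C := C) (F := F) b, add_zero]

/-! ### Bilinearity of `T` -/

theorem T_addR (a b b' : M) : Z.T a (b + b') = Z.T a b + Z.T a b' := by
  rw [Z.T_symm, Z.T_add, Z.T_symm b, Z.T_symm b']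

theorem T_FR (l : F) (a b : M) : Z.T a (algebraMap F K l • b) = l • Z.T a b := by
  rw [← Z.T_K, Z.T_F]

theorem T_zeroL (b : M) : Z.T 0 b = 0 := by
  have := Z.T_add 0 0 b
  rw [add_zero] at this
  exact left_eq_add.1 this

theorem T_zeroR (b : M) : Z.T b 0 = 0 := by rw [Z.T_symm, Z.T_zeroL]

theorem o_zeroL (u : R) : Z.o 0 u = 0 := by
  have := Z.o_addL 0 0 u
  rw [add_zero] at this
  exact left_eq_add.1 this

theorem o_zeroR (u : R) : Z.o u 0 = 0 := by
  have := Z.o_addR u 0 0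
  rw [add_zero] at this
  exact left_eq_add.1 this

theorem D_zeroL (u : R) : Z.D 0 u = 0 := by
  have := Z.D_addL 0 0 u
  rw [add_zero] at this
  exact left_eq_add.1 this

theorem D_zeroR (a : M) : Z.D a 0 = 0 := by
  have := Z.D_addR a 0 0
  rw [add_zero] at this
  exact left_eq_add.1 this

theorem X_zeroL (u : M) : Z.X 0 u = 0 := by
  have := Z.X_addL 0 0 u
  rw [add_zero] at this
  exact left_eq_add.1 this

theorem X_addR (a b b' : M) : Z.X a (b + b') = Z.X a b + Z.X a b' := by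
  rw [Z.X_symm, Z.X_addL, Z.X_symm b, Z.X_symm b']

/-- the generator of `M` over `K` -/
def f : M := Z.D Z.uno Z.e

theorem D_smulL (k : K) (a : M) (u : R) : Z.D (k • a) u = k • Z.D a u := by
  have := Z.D_smul k 1 a u
  rwa [one_smul, map_one, mul_one] at this

theorem D_smulR (l : F) (a : M) (u : R) : Z.D a (l • u) = algebraMap F K l • Z.D a u := by
  have := Z.D_smul 1 l a u
  rwa [one_smul, one_mul] at this

theorem tM_f : Z.tM Z.f = Z.f + Z.uno := by
  unfold f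
  rw [← Z.D_t, Z.tM_uno, Z.tR_e, Z.D_addR, Z.D_one]

theorem decM (m : M) : ∃ k l : K, m = k • Z.uno + l • Z.f := by
  obtain ⟨l, hl⟩ := Z.fixM (Z.tM m + m) (by rw [Z.tM_add, Z.tM_tM, add_comm])
  have h1 : Z.tM m = l • Z.uno + m := addM_eq (C := C) (F := F) hl
  obtain ⟨k, hk⟩ := Z.fixM (m + l • Z.f) (by
    rw [Z.tM_add, Z.tM_smul, Z.tM_f, smul_add, h1]
    have h2 := twoM (C := C) (F := F) (l • Z.uno)
    calc l • Z.uno + m + (l • Z.f + l • Z.uno) = m + l • Z.f + (l • Z.uno + l • Z.uno) := by abel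
      _ = m + l • Z.f := by rw [h2, add_zero])
  exact ⟨k, l, addM_eq (C := C) (F := F) hk⟩

theorem nondeg {a : M} (h : ∀ b, Z.T a b = 0) : a = 0 := by
  obtain ⟨l, hl⟩ := Z.fixM (Z.tM a + a) (by rw [Z.tM_add, Z.tM_tM, add_comm])
  have h1 : ∀ b : K, Z.T (Z.tM a) (b • Z.uno) = 0 := fun b => by
    have h2 := Z.T_t a (b • Z.uno)
    rw [h, Z.tM_smul, Z.tM_uno] at h2
    rw [h2]
    have h3 := Z.tR_smul 0 0
    rwa [zero_smul, zero_smul] at h3
  have h2 : l = 0 := by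
    apply C.T_nondeg
    intro b
    have h3 : Z.T (Z.tM a + a) (b • Z.uno) = 0 := by rw [Z.T_add, h1, h, add_zero]
    rw [hl, Z.T_uno] at h3
    exact (Z.freeR _ 0 (by rw [h3, zero_smul, add_zero])).1
  rw [h2, zero_smul] at hl
  have h3 : Z.tM a = a := by
    have := addM_eq (C := C) (F := F) hl
    rwa [zero_add] at this
  obtain ⟨k, hk⟩ := Z.fixM a h3
  have h4 : k = 0 := by
    apply C.T_nondeg
    intro b
    have h5 := h (b • Z.uno)
    rw [hk, Z.T_uno] at h5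
    exact (Z.freeR _ 0 (by rw [h5, zero_smul, add_zero])).1
  rw [hk, h4, zero_smul]

theorem T_ext {a a' : M} (h : ∀ b, Z.T a b = Z.T a' b) : a = a' := by
  have h1 : a + a' = 0 := Z.nondeg fun b => by rw [Z.T_add, h, twoR (C := C) (F := F)]
  have := addM_eq (C := C) (F := F) h1
  rwa [zero_add] at this

theorem T_uno_f : Z.T Z.uno Z.f = Z.e := by
  rw [Z.T_symm]
  unfold f
  have h1 := Z.T_uno 1 1
  rw [one_smul, show C.T 1 1 = 1 by unfold Cubic.T; rw [mul_one, C.tr_one], one_smul] at h1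
  rw [Z.H1, h1, Z.o_oneL]

/-- every `r` is `T (uno, b)` -/
theorem exists_T (r : R) : ∃ b, r = Z.T Z.uno b := by
  obtain ⟨a, b, rfl⟩ := Z.decR r
  refine ⟨algebraMap F K a • Z.uno + algebraMap F K b • Z.f, ?_⟩
  have h1 := Z.T_uno 1 1
  rw [one_smul, show C.T 1 1 = 1 by unfold Cubic.T; rw [mul_one, C.tr_one], one_smul] at h1
  rw [Z.T_addR, Z.T_FR, Z.T_FR, Z.T_uno_f, h1]

theorem o_smulL (l : F) (s u : R) : Z.o (l • s) u = l • Z.o s u := by
  obtain ⟨b, rfl⟩ := Z.exists_T s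
  rw [← Z.T_FR, ← Z.H1, Z.T_FR, Z.H1]

theorem o_smulR (l : F) (s u : R) : Z.o s (l • u) = l • Z.o s u := by
  obtain ⟨b, rfl⟩ := Z.exists_T s
  rw [← Z.H1, Z.D_smulR, Z.T_F, Z.H1]

/-- the ring structure of `R` -/
theorem exists_beta : ∃ β : F, Z.o Z.e Z.e = β • Z.one + Z.e := by
  obtain ⟨β, a, h⟩ := Z.decR (Z.o Z.e Z.e)
  have h1 := Z.o_t Z.e Z.e
  rw [Z.tR_e, h, Z.o_addL, Z.o_addR, Z.o_addR, Z.o_oneL, Z.o_oneR, Z.o_oneL, h, Z.tR_add, Z.tR_smul, Z.tR_smul,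
    Z.tR_one, Z.tR_e] at h1
  have h2 := twoR (C := C) (F := F) Z.e
  have h3 : Z.one = a • Z.one := by
    have h4 : β • Z.one + a • Z.e + Z.e + (Z.e + Z.one) = β • Z.one + a • Z.e + Z.one := by
      calc β • Z.one + a • Z.e + Z.e + (Z.e + Z.one) = β • Z.one + a • Z.e + (Z.e + Z.e) + Z.one := by abel
        _ = _ := by rw [h2, add_zero]
    rw [h4, smul_add, ← add_assoc] at h1
    exact add_left_cancel h1
  have h5 : a = 1 := by
    have h6 : (1 - a) • Z.one + (0 : F) • Z.e = 0 := by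
      rw [sub_smul, one_smul, ← h3, sub_self, zero_smul, add_zero]
    have := (Z.freeR _ _ h6).1
    exact (sub_eq_zero.1 this).symm
  exact ⟨β, by rw [h, h5, one_smul]⟩

end FSys

end Cfsg.Agent.HexRing.Fun
end

-- part: HexRing/Fun2
section
/-!
# The ring of a grown hexagonal 2-group: the functional equations, second part

The structure functions of an `FSys` are those of the quadratic extension `K[ω]/F[ω]`.
-/

set_option autoImplicit false

namespace Cfsg.Agent.HexRing.Fun2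

open Cfsg.Agent.HexRec Cfsg.Agent.HexRing.Def Cfsg.Agent.HexRing.Fun Cfsg.Agent.HexRing.Fun.FSys

variable {F K : Type*} [Field F] [Field K] [Algebra F K] {C : Cubic F K} {R M : Type*} [AddCommGroup R]
    [Module F R] [AddCommGroup M] [Module K M] (Z : FSys C R M) {β : F}

/-- `F[ω] → R` -/
def thR (r : RQ β) : R := r.re • Z.one + r.im • Z.e

/-- `K[ω] → M` -/
def thM (m : MQ K β) : M := m.re • Z.uno + m.im • Z.f

theorem thR_add (r s : RQ β) : thR Z (r + s) = thR Z r + thR Z s := by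
  unfold thR
  rw [QuadraticAlgebra.re_add, QuadraticAlgebra.im_add, add_smul, add_smul]
  abel

theorem thM_add (r s : MQ K β) : thM Z (r + s) = thM Z r + thM Z s := by
  unfold thM
  rw [QuadraticAlgebra.re_add, QuadraticAlgebra.im_add, add_smul, add_smul]
  abel

theorem thR_surj (r : R) : ∃ s : RQ β, thR Z s = r := by
  obtain ⟨a, b, rfl⟩ := Z.decR r
  exact ⟨⟨a, b⟩, rfl⟩

variable (hβ : Z.o Z.e Z.e = β • Z.one + Z.e)

include hβ

theorem thR_mul (r s : RQ β) : thR Z (r * s) = Z.o (thR Z r) (thR Z s) := by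
  unfold thR
  simp only [Z.o_addL, Z.o_addR, Z.o_smulL, Z.o_smulR, Z.o_oneL, Z.o_oneR, hβ, QuadraticAlgebra.re_mul,
    QuadraticAlgebra.im_mul]
  module

theorem o_comm (r s : R) : Z.o r s = Z.o s r := by
  obtain ⟨r, rfl⟩ := thR_surj Z (β := β) r
  obtain ⟨s, rfl⟩ := thR_surj Z (β := β) s
  rw [← thR_mul Z hβ, ← thR_mul Z hβ, mul_comm]

theorem o_assoc (r s u : R) : Z.o (Z.o r s) u = Z.o r (Z.o s u) := by
  obtain ⟨r, rfl⟩ := thR_surj Z (β := β) r
  obtain ⟨s, rfl⟩ := thR_surj Z (β := β) s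
  obtain ⟨u, rfl⟩ := thR_surj Z (β := β) u
  rw [← thR_mul Z hβ, ← thR_mul Z hβ, ← thR_mul Z hβ, ← thR_mul Z hβ, mul_assoc]

theorem D_D (a : M) (u v : R) : Z.D (Z.D a u) v = Z.D a (Z.o u v) := by
  apply Z.T_ext
  intro b
  rw [Z.H1, Z.H1, Z.H1, o_assoc Z hβ]

theorem D_f_e : Z.D Z.f Z.e = algebraMap F K β • Z.uno + Z.f := by
  unfold FSys.f
  rw [D_D Z hβ, hβ, Z.D_addR, Z.D_smulR, Z.D_one]

theorem D_th (m : MQ K β) (r : RQ β) : Z.D (thM Z m) (thR Z r) = thM Z (incl K r * m) := by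
  unfold thM thR incl
  have h1 : Z.D Z.uno Z.e = Z.f := rfl
  simp only [Z.D_addL, Z.D_addR, Z.D_smulL, Z.D_smulR, Z.D_one, h1, D_f_e Z hβ, QuadraticAlgebra.re_mul,
    QuadraticAlgebra.im_mul]
  module

omit hβ in
theorem T_f (k l : K) : Z.T (k • Z.f) (l • Z.uno) = C.T k l • Z.e := by
  have h1 : k • Z.f = Z.D (k • Z.uno) Z.e := by rw [Z.D_smulL]; rfl
  rw [h1, Z.H1, Z.T_uno, Z.o_smulL, Z.o_oneL]

theorem T_ff (k l : K) : Z.T (k • Z.f) (l • Z.f) = C.T k l • (β • Z.one + Z.e) := by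
  have h1 : k • Z.f = Z.D (k • Z.uno) Z.e := by rw [Z.D_smulL]; rfl
  rw [h1, Z.H1, Z.T_symm, T_f Z, Z.o_smulL, hβ, C.T_comm]

theorem T_th (m n : MQ K β) : Z.T (thM Z m) (thM Z n) = thR Z (TQ C m n) := by
  unfold thM thR TQ
  rw [Z.T_add, Z.T_addR, Z.T_addR, Z.T_uno, T_f Z, T_ff Z hβ, Z.T_symm (m.re • Z.uno), T_f Z]
  have e1 : C.tr (m * n).re = C.T m.re n.re + β * C.T m.im n.im := by
    rw [QuadraticAlgebra.re_mul, map_add]
    unfold Cubic.T
    rw [← smul_eq_mul β, ← map_smul, Algebra.smul_def, mul_assoc]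
  have e2 : C.tr (m * n).im = C.T m.re n.im + C.T m.im n.re + C.T m.im n.im := by
    rw [QuadraticAlgebra.im_mul, map_add, map_add, one_mul]
    rfl
  dsimp only
  rw [e1, e2, C.T_comm n.im]
  module

/-! ### the quadratic map -/

omit hβ in
theorem P_zero (b : M) : Z.P 0 b = 0 := by
  have h1 := Z.P_addL 0 0 b
  rw [Z.T_zeroL, add_zero, add_zero, twoR (C := C) (F := F)] at h1
  exact h1

omit hβ in
theorem T_X_self (a b : M) : Z.T a (Z.X a b) = 0 := by
  have h1 := Z.P_addL a a b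
  rwa [twoM (C := C) (F := F), P_zero, twoR (C := C) (F := F), zero_add, eq_comm] at h1

omit hβ in
theorem P_eq (a b : M) : Z.P a b = Z.T (Z.B a Z.one) b := by
  have h1 := Z.H2 a b Z.one
  rwa [Z.o_oneR, Z.D_one, Z.T_symm (Z.X a b), T_X_self, zero_add] at h1

omit hβ in
theorem B_eq (a : M) (u : R) : Z.B a u = Z.D (Z.B a Z.one) u := by
  apply Z.T_ext
  intro b
  have h1 := Z.H2 a b u
  rw [Z.T_symm (Z.X a b), Z.H1, T_X_self, Z.o_zeroL, zero_add, P_eq] at h1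
  rw [← h1, Z.H1]

omit hβ in
/-- polarisation of `#` -/
theorem sharp_add (a a' : M) : Z.B (a + a') Z.one = Z.B a Z.one + Z.B a' Z.one + Z.X a' a := by
  rw [Z.B_addL, Z.D_one]

omit hβ in
theorem X_DR (a a' : M) (u : R) : Z.X a' (Z.D a u) = Z.D (Z.X a' a) u := by
  have h1 := Z.B_addL a a' u
  rw [B_eq Z (a + a'), B_eq Z a u, B_eq Z a' u, sharp_add, Z.D_addL, Z.D_addL] at h1
  exact (add_left_cancel h1).symm

omit hβ in
theorem X_DL (a a' : M) (u : R) : Z.X (Z.D a u) a' = Z.D (Z.X a a') u := by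
  rw [Z.X_symm, X_DR, Z.X_symm]

theorem X_th (m n : MQ K β) : Z.X (thM Z m) (thM Z n) = thM Z (crQ C m n) := by
  have h1 : ∀ k : K, k • Z.f = Z.D (k • Z.uno) Z.e := fun k => by rw [Z.D_smulL]; rfl
  have h2 : ∀ k l : K, Z.X (k • Z.f) (l • Z.uno) = C.cr k l • Z.f := fun k l => by
    rw [h1, X_DL, Z.X_uno, ← h1]
  have h3 : ∀ k l : K, Z.X (k • Z.f) (l • Z.f) = C.cr k l • (algebraMap F K β • Z.uno + Z.f) := fun k l => by
    rw [h1 l, X_DR, h2, Z.D_smulL, D_f_e Z hβ]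
  unfold thM crQ
  rw [Z.X_addL, Z.X_addR, Z.X_addR, Z.X_uno, h2, h3, Z.X_symm (m.re • Z.uno), h2, C.cr_comm n.im]
  module

end Cfsg.Agent.HexRing.Fun2
end

-- part: HexRing/Fun3
section
/-!
# The ring of a grown hexagonal 2-group: the functional equations, third part

The adjoint, the norm and the remaining structure functions.
-/

set_option autoImplicit false

namespace Cfsg.Agent.HexRing.Fun3

open Cfsg.Agent.HexRec Cfsg.Agent.HexRing.Def Cfsg.Agent.HexRing.Fun Cfsg.Agent.HexRing.Fun.FSys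
  Cfsg.Agent.HexRing.Fun2

variable {F K : Type*} [Field F] [Field K] [Algebra F K] {C : Cubic F K} {R M : Type*} [AddCommGroup R]
    [Module F R] [AddCommGroup M] [Module K M] (Z : FSys C R M) {β : F}

theorem sharp_zero : Z.B 0 Z.one = 0 := by
  have h1 := sharp_add Z 0 0
  rwa [add_zero, Z.X_zeroL, add_zero, twoM (C := C) (F := F)] at h1

theorem X_self (a : M) : Z.X a a = 0 := by
  have h1 := sharp_add Z a a
  rwa [twoM (C := C) (F := F), sharp_zero, twoM (C := C) (F := F), zero_add, eq_comm] at h1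

theorem X_uno_f : Z.X Z.uno Z.f = 0 := by
  unfold FSys.f
  rw [X_DR, X_self, Z.D_zeroL]

theorem sharp_f_aux : ∃ s : K, Z.B Z.f Z.one = s • Z.uno + Z.f := by
  obtain ⟨s, s1, h⟩ := Z.decM (Z.B Z.f Z.one)
  have h1 := Z.B_t Z.f Z.one
  rw [Z.tM_f, Z.tR_one, sharp_add, X_uno_f, add_zero, Z.B_uno, h, Z.tM_add, Z.tM_smul, Z.tM_smul, Z.tM_uno, Z.tM_f,
    smul_add, ← add_assoc] at h1
  have h2 : Z.uno = s1 • Z.uno := add_left_cancel h1
  have h3 : s1 = 1 := by
    have h4 := Z.freeM (1 - s1) (by rw [sub_smul, one_smul, ← h2, sub_self])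
    exact (sub_eq_zero.1 h4).symm
  exact ⟨s, by rw [h, h3, one_smul]⟩

section

variable (hβ : Z.o Z.e Z.e = β • Z.one + Z.e)

include hβ

theorem T_DD (a b : M) (u : R) : Z.T (Z.D a u) (Z.D b u) = Z.o (Z.T b a) (Z.o u u) := by
  rw [Z.H1, Z.T_symm, Z.H1, o_assoc Z hβ]

theorem G_addL' (a a' : M) (u : R) : Z.G (a + a') u = Z.G a u + Z.G a' u + Z.T (Z.B (Z.D a u) Z.one) a' +
    Z.o (Z.T (Z.B a' Z.one) a) (Z.o u u) := by
  rw [Z.G_addL, P_eq, B_eq Z a' u, T_DD Z hβ]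

theorem sym (a a' : M) (u : R) : Z.T (Z.B (Z.D a u) Z.one) a' + Z.o (Z.T (Z.B a' Z.one) a) (Z.o u u) =
    Z.T (Z.B (Z.D a' u) Z.one) a + Z.o (Z.T (Z.B a Z.one) a') (Z.o u u) := by
  have h1 := G_addL' Z hβ a a' u
  have h2 := G_addL' Z hβ a' a u
  rw [add_comm a' a, h1, add_comm (Z.G a' u)] at h2
  rw [add_assoc (Z.G a u + Z.G a' u), add_assoc (Z.G a u + Z.G a' u)] at h2
  exact add_left_cancel h2

omit hβ in
theorem sharp_uno (k : K) : Z.B (k • Z.uno) Z.one = C.sh k • Z.uno := by rw [Z.B_smul, Z.B_uno]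

theorem delta {s : K} (hs : Z.B Z.f Z.one = s • Z.uno + Z.f) (k l : K) :
    C.T (C.sh k * (s + algebraMap F K β)) l = C.T (C.sh l * (s + algebraMap F K β)) k := by
  have h0 : ∀ k : K, Z.D (k • Z.uno) Z.e = k • Z.f := fun k => by rw [Z.D_smulL]; rfl
  have h1 := sym Z hβ (k • Z.uno) (l • Z.uno) Z.e
  have h2 : ∀ k l : K, Z.T (Z.B (k • Z.f) Z.one) (l • Z.uno) = C.T (C.sh k * s) l • Z.one + C.T (C.sh k) l • Z.e := by
    intro k l
    rw [Z.B_smul, hs, smul_add, Z.T_add, smul_smul, Z.T_uno, T_f]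
  rw [h0, h0, h2, h2, sharp_uno, sharp_uno, Z.T_uno, Z.T_uno, Z.o_smulL, Z.o_smulL, hβ, Z.o_oneL] at h1
  have h3 : (C.T (C.sh k * s) l + β * C.T (C.sh l) k - C.T (C.sh l * s) k - β * C.T (C.sh k) l) • Z.one +
      (0 : F) • Z.e = 0 := by
    linear_combination (norm := module) h1
  have h4 := (Z.freeR _ _ h3).1
  have h5 : ∀ x y : K, C.T (x * (s + algebraMap F K β)) y = C.T (x * s) y + β * C.T x y := by
    intro x y
    rw [mul_add, C.T_add_left, mul_comm x (algebraMap F K β), ← Algebra.smul_def, C.T_smul_left]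
  rw [h5, h5]
  have h6 := C.two_F
  linear_combination h4 + (β * C.T (C.sh k) l - β * C.T (C.sh l) k) * h6

theorem sharp_f (hδ : (∃ l : F, l ^ 2 ≠ l) ∨ ∃ a b : K, C.cr a b ≠ 0) :
    Z.B Z.f Z.one = algebraMap F K β • Z.uno + Z.f := by
  obtain ⟨s, hs⟩ := sharp_f_aux Z
  have hd := delta Z hβ hs
  set d := s + algebraMap F K β with hd'
  have h0 : d = 0 := by
    rcases hδ with ⟨l, hl⟩ | ⟨a, b, hab⟩
    · apply C.T_nondeg
      intro x
      have h1 := hd 1 x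
      rw [C.sh_one, one_mul] at h1
      have h2 := hd (algebraMap F K l) x
      rw [C.sh_map, ← map_pow, ← Algebra.smul_def, C.T_smul_left, C.T_comm (C.sh x * d)] at h2
      rw [Algebra.algebraMap_eq_smul_one, C.T_smul_left, C.T_comm 1, ← h1] at h2
      have h3 : (l ^ 2 - l) * C.T d x = 0 := by linear_combination h2
      exact (mul_eq_zero.1 h3).resolve_left (sub_ne_zero.2 hl)
    · have h1 : C.cr a b * d = 0 := by
        apply C.T_nondeg
        intro x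
        have h2 : C.cr a b * d = C.sh (a + b) * d + C.sh a * d + C.sh b * d := by unfold Cubic.cr; ring
        rw [h2, C.T_add_left, C.T_add_left, hd, hd a, hd b, C.T_add_right]
        have h6 := C.two_F
        linear_combination (C.T (C.sh x * d) a + C.T (C.sh x * d) b) * h6
      exact (mul_eq_zero.1 h1).resolve_left hab
  rw [hs, C.eq_of_add_eq_zeroK h0]

variable (hs : Z.B Z.f Z.one = algebraMap F K β • Z.uno + Z.f)

include hs

omit hβ in
theorem sharp_th (m : MQ K β) : Z.B (thM Z m) Z.one = thM Z (shQ C m) := by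
  unfold thM shQ
  have h1 : ∀ k : K, k • Z.f = Z.D (k • Z.uno) Z.e := fun k => by rw [Z.D_smulL]; rfl
  have h2 : ∀ k l : K, Z.X (k • Z.f) (l • Z.uno) = C.cr k l • Z.f := fun k l => by
    rw [h1, X_DL, Z.X_uno, ← h1]
  rw [sharp_add, sharp_uno, Z.B_smul, hs, h2, C.cr_comm m.im]
  module

theorem sharp_De (a : M) : Z.B (Z.D a Z.e) Z.one = Z.D (Z.B a Z.one) (Z.o Z.e Z.e) := by
  have h1 : ∀ k : K, k • Z.f = Z.D (k • Z.uno) Z.e := fun k => by rw [Z.D_smulL]; rfl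
  have hu : ∀ k : K, Z.B (Z.D (k • Z.uno) Z.e) Z.one = Z.D (Z.B (k • Z.uno) Z.one) (Z.o Z.e Z.e) := fun k => by
    rw [← h1, Z.B_smul, hs, sharp_uno, Z.D_smulL, hβ, Z.D_addR, Z.D_smulR, Z.D_one]
    rfl
  have hf : ∀ k : K, Z.B (Z.D (k • Z.f) Z.e) Z.one = Z.D (Z.B (k • Z.f) Z.one) (Z.o Z.e Z.e) := fun k => by
    have h3 : C.cr 1 (algebraMap F K β) = 0 := by
      unfold Cubic.cr
      rw [C.sh_one, ← map_one (algebraMap F K), ← map_add, C.sh_map, C.sh_map, map_one, map_add, map_one]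
      linear_combination (1 + algebraMap F K β + algebraMap F K β ^ 2) * C.two_K
    have h4 : Z.X Z.f (algebraMap F K β • Z.uno) = 0 := by
      have h5 : Z.f = (1 : K) • Z.f := (one_smul _ _).symm
      rw [h5, h1, X_DL, Z.X_uno, h3, zero_smul, Z.D_zeroL]
    rw [Z.D_smulL, D_f_e Z hβ, Z.B_smul, sharp_add, hs, sharp_uno, C.sh_map, h4, Z.B_smul, hs, Z.D_smulL, hβ,
      Z.D_addR, Z.D_smulR, Z.D_one, Z.D_addL, Z.D_smulL, D_f_e Z hβ]
    have h6 : Z.D Z.uno Z.e = Z.f := rfl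
    rw [h6]
    have h7 := twoM (C := C) (F := F) (C.sh k • algebraMap F K β • Z.f)
    linear_combination (norm := module) -h7
  obtain ⟨k, l, rfl⟩ := Z.decM a
  rw [Z.D_addL, sharp_add, sharp_add, hu, hf, X_DL, X_DR, D_D Z hβ, Z.D_addL, Z.D_addL]

theorem sharp_D (a : M) (u : R) : Z.B (Z.D a u) Z.one = Z.D (Z.B a Z.one) (Z.o u u) := by
  obtain ⟨x, y, rfl⟩ := Z.decR u
  have h1 : ∀ (l : F) (b : M), Z.B (algebraMap F K l • b) Z.one = (algebraMap F K l) ^ 2 • Z.B b Z.one := fun l b => by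
    rw [Z.B_smul, C.sh_map]
  have h2 : Z.X (algebraMap F K y • Z.D a Z.e) (algebraMap F K x • a) = 0 := by
    rw [← Z.D_smulR, X_DL, ← Z.D_one (algebraMap F K x • a), Z.D_one, ← Z.D_one a, ← Z.D_smulR, X_DR, Z.D_one, X_self,
      Z.D_zeroL, Z.D_zeroL]
  rw [Z.D_addR, Z.D_smulR, Z.D_smulR, Z.D_one, sharp_add, h1, h1, h2, sharp_De Z hβ hs]
  have h3 : Z.o (x • Z.one + y • Z.e) (x • Z.one + y • Z.e) = (x ^ 2) • Z.one + (y ^ 2) • Z.o Z.e Z.e := by
    simp only [Z.o_addL, Z.o_addR, Z.o_smulL, Z.o_smulR, Z.o_oneL, Z.o_oneR]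
    have h4 := twoR (C := C) (F := F) ((x * y) • Z.e)
    linear_combination (norm := module) h4
  rw [h3, Z.D_addR, Z.D_smulR, Z.D_smulR, Z.D_one, map_pow, map_pow, add_zero]

omit hs hβ in
theorem A_aux (a : M) : Z.A a Z.one = Z.T (Z.B a Z.one) a := by
  have h0 : Z.G a 0 = 0 := by
    have h1 := Z.G_addR a 0 0
    rw [add_zero, twoR (C := C) (F := F), Z.o_zeroR, Z.D_zeroR, Z.T_zeroL, zero_add, zero_add] at h1
    exact h1
  have h1 := Z.G_addR a Z.one Z.one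
  rw [twoR (C := C) (F := F), h0, twoR (C := C) (F := F), Z.o_oneR, Z.D_one, zero_add, Z.T_symm a] at h1
  have h2 := addR_eq (C := C) (F := F) h1.symm
  rwa [zero_add] at h2

omit hs hβ in
theorem A_eq (a : M) (u : R) : Z.A a u = Z.o (Z.T (Z.B a Z.one) a) u := by
  have h1 := Z.G_addR a u Z.one
  have h2 := Z.G_addR a Z.one u
  rw [add_comm Z.one u, h1, add_comm (Z.G a Z.one), add_assoc (Z.G a u + Z.G a Z.one),
    add_assoc (Z.G a u + Z.G a Z.one)] at h2
  have h3 := add_left_cancel h2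
  rw [Z.o_oneR, Z.D_one, B_eq Z a u, Z.T_symm a, Z.H1, A_aux Z, Z.H1, Z.T_symm a] at h3
  exact add_right_cancel h3

omit hs hβ in
/-- the norm `n a = T (a^#, a)` -/
theorem n_add (a b : M) : Z.T (Z.B (a + b) Z.one) (a + b) = Z.T (Z.B a Z.one) a + Z.T (Z.B b Z.one) b +
    Z.T (Z.B a Z.one) b + Z.T (Z.B b Z.one) a := by
  rw [sharp_add, Z.T_add, Z.T_add, Z.T_addR, Z.T_addR, Z.T_addR, Z.T_symm (Z.X b a) b, T_X_self, Z.X_symm,
    Z.T_symm (Z.X a b) a, T_X_self]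
  abel

omit hs hβ in
theorem n_smul (k : K) (a : M) : Z.T (Z.B (k • a) Z.one) (k • a) = C.N k • Z.T (Z.B a Z.one) a := by
  rw [Z.B_smul, ← Z.T_K, smul_smul, ← C.N_map, Z.T_F]

theorem G_eq (hN : ∃ k : K, C.N (k + 1) ≠ C.N k + 1) (a : M) (u : R) :
    Z.G a u = Z.o (Z.o u u) (Z.T (Z.B a Z.one) a) := by
  obtain ⟨k, hk⟩ := hN
  have hadd : ∀ a b : M, Z.G (a + b) u + Z.o (Z.o u u) (Z.T (Z.B (a + b) Z.one) (a + b)) =
      Z.G a u + Z.o (Z.o u u) (Z.T (Z.B a Z.one) a) + (Z.G b u + Z.o (Z.o u u) (Z.T (Z.B b Z.one) b)) := by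
    intro a b
    rw [G_addL' Z hβ, sharp_D Z hβ hs, Z.H1, n_add Z, Z.o_addR, Z.o_addR, Z.o_addR,
      o_comm Z hβ (Z.T (Z.B a Z.one) b), o_comm Z hβ (Z.T (Z.B b Z.one) a)]
    have h1 := twoR (C := C) (F := F) (Z.o (Z.o u u) (Z.T (Z.B a Z.one) b))
    have h2 := twoR (C := C) (F := F) (Z.o (Z.o u u) (Z.T (Z.B b Z.one) a))
    linear_combination (norm := module) h1 + h2
  have hsm : ∀ (k : K) (a : M), Z.G (k • a) u + Z.o (Z.o u u) (Z.T (Z.B (k • a) Z.one) (k • a)) =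
      C.N k • (Z.G a u + Z.o (Z.o u u) (Z.T (Z.B a Z.one) a)) := by
    intro k a
    rw [Z.G_smul, n_smul Z, Z.o_smulR, smul_add]
  have h1 := hsm (k + 1) a
  have h2 := hadd (k • a) a
  rw [show k • a + a = (k + 1) • a by rw [add_smul, one_smul]] at h2
  rw [h1, hsm k a] at h2
  have h3 : (C.N (k + 1) - (C.N k + 1)) • (Z.G a u + Z.o (Z.o u u) (Z.T (Z.B a Z.one) a)) = 0 := by
    linear_combination (norm := module) h2
  have h4 := (smul_eq_zero.1 h3).resolve_left (sub_ne_zero.2 hk)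
  have h5 := addR_eq (C := C) (F := F) h4
  rwa [zero_add] at h5

end

end Cfsg.Agent.HexRing.Fun3
end

-- part: HexRing/Grp
section
/-!
# The ring of a grown hexagonal 2-group: structure functions of `Pos`

All identities between the structure functions come from the critical pairs of the collection process.
-/

set_option autoImplicit false
set_option linter.unusedSimpArgs false

namespace Cfsg.Agent.HexRing.Grp

open Cfsg.Agent.HexRec Cfsg.Agent.HexRing.Def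

variable {F K : Type*} [Field F] [Field K] [Algebra F K] {C : Cubic F K} {G : Type*} [Group G] (W : Pos C G)

/-! ### trivial facts -/

theorem z1 : W.y1 0 = 1 := left_eq_mul.1 (by rw [← W.add1, add_zero] : W.y1 0 = W.y1 0 * W.y1 0)
theorem z2 : W.y2 0 = 1 := left_eq_mul.1 (by rw [← W.add2, add_zero] : W.y2 0 = W.y2 0 * W.y2 0)
theorem z3 : W.y3 0 = 1 := left_eq_mul.1 (by rw [← W.add3, add_zero] : W.y3 0 = W.y3 0 * W.y3 0)
theorem z4 : W.y4 0 = 1 := left_eq_mul.1 (by rw [← W.add4, add_zero] : W.y4 0 = W.y4 0 * W.y4 0)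
theorem z5 : W.y5 0 = 1 := left_eq_mul.1 (by rw [← W.add5, add_zero] : W.y5 0 = W.y5 0 * W.y5 0)
theorem z6 : W.y6 0 = 1 := left_eq_mul.1 (by rw [← W.add6, add_zero] : W.y6 0 = W.y6 0 * W.y6 0)

theorem i2 {a b} (h : W.y2 a = W.y2 b) : a = b := (W.inj 0 a 0 0 0 0 0 b 0 0 0 0 (by rw [h])).2.1
theorem i4 {a b} (h : W.y4 a = W.y4 b) : a = b := (W.inj 0 0 0 a 0 0 0 0 0 b 0 0 (by rw [h])).2.2.2.1
include C in
theorem twoR (a : F × F) : a + a = 0 := by
  ext <;> simp [C.add_self]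

include C in
theorem twoM (a : K × K) : a + a = 0 := by
  ext <;> simp [C.add_selfK]

/-! ### structure functions -/

/-- `[y3, y1]` -/
noncomputable def T (a b : K × K) : F × F := (W.s31 b a).choose
/-- `[y5, y3]` -/
noncomputable def T' (a b : K × K) : F × F := (W.s53 b a).choose
/-- `[y6, y2]` -/
noncomputable def o (s u : F × F) : F × F := (W.s62 u s).choose
noncomputable def P (a b : K × K) : F × F := (W.s51 b a).choose
noncomputable def X (a b : K × K) : K × K := (W.s51 b a).choose_spec.choose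
noncomputable def Q (a b : K × K) : F × F := (W.s51 b a).choose_spec.choose_spec.choose
noncomputable def A (a : K × K) (u : F × F) : F × F := (W.s61 u a).choose
noncomputable def B (a : K × K) (u : F × F) : K × K := (W.s61 u a).choose_spec.choose
noncomputable def Gg (a : K × K) (u : F × F) : F × F := (W.s61 u a).choose_spec.choose_spec.choose
noncomputable def D (a : K × K) (u : F × F) : K × K := (W.s61 u a).choose_spec.choose_spec.choose_spec.choose

theorem q31 (b a : K × K) : W.y3 b * W.y1 a = W.y1 a * (W.y2 (T W a b) * W.y3 b) := (W.s31 b a).choose_spec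
theorem q53 (b a : K × K) : W.y5 b * W.y3 a = W.y3 a * (W.y4 (T' W a b) * W.y5 b) := (W.s53 b a).choose_spec
theorem q62 (u s : F × F) : W.y6 u * W.y2 s = W.y2 s * (W.y4 (o W s u) * W.y6 u) := (W.s62 u s).choose_spec
theorem q51 (b a : K × K) : W.y5 b * W.y1 a = W.y1 a * (W.y2 (P W a b) * (W.y3 (X W a b) *
    (W.y4 (Q W a b) * W.y5 b))) := (W.s51 b a).choose_spec.choose_spec.choose_spec
theorem q61 (u : F × F) (a : K × K) : W.y6 u * W.y1 a = W.y1 a * (W.y2 (A W a u) * (W.y3 (B W a u) *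
    (W.y4 (Gg W a u) * (W.y5 (D W a u) * W.y6 u)))) := (W.s61 u a).choose_spec.choose_spec.choose_spec.choose_spec

/-! ### collection rules -/

theorem s1 (s t) (w : G) : W.y1 s * (W.y1 t * w) = W.y1 (s + t) * w := by rw [W.add1, mul_assoc]
theorem s2 (s t) (w : G) : W.y2 s * (W.y2 t * w) = W.y2 (s + t) * w := by rw [W.add2, mul_assoc]
theorem s3 (s t) (w : G) : W.y3 s * (W.y3 t * w) = W.y3 (s + t) * w := by rw [W.add3, mul_assoc]
theorem s4 (s t) (w : G) : W.y4 s * (W.y4 t * w) = W.y4 (s + t) * w := by rw [W.add4, mul_assoc]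
theorem s5 (s t) (w : G) : W.y5 s * (W.y5 t * w) = W.y5 (s + t) * w := by rw [W.add5, mul_assoc]
theorem s6 (s t) (w : G) : W.y6 s * (W.y6 t * w) = W.y6 (s + t) * w := by rw [W.add6, mul_assoc]

theorem r21 (t a) (w : G) : W.y2 t * (W.y1 a * w) = W.y1 a * (W.y2 t * w) := by
  rw [← mul_assoc, W.r21, mul_assoc]
theorem r31 (b a) (w : G) : W.y3 b * (W.y1 a * w) = W.y1 a * (W.y2 (T W a b) * (W.y3 b * w)) := by
  rw [← mul_assoc, q31]; simp only [mul_assoc]
theorem r41 (t a) (w : G) : W.y4 t * (W.y1 a * w) = W.y1 a * (W.y4 t * w) := by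
  rw [← mul_assoc, W.r41, mul_assoc]
theorem r51 (b a) (w : G) : W.y5 b * (W.y1 a * w) = W.y1 a * (W.y2 (P W a b) * (W.y3 (X W a b) *
    (W.y4 (Q W a b) * (W.y5 b * w)))) := by
  rw [← mul_assoc, q51]; simp only [mul_assoc]
theorem r61 (t a) (w : G) : W.y6 t * (W.y1 a * w) = W.y1 a * (W.y2 (A W a t) * (W.y3 (B W a t) *
    (W.y4 (Gg W a t) * (W.y5 (D W a t) * (W.y6 t * w))))) := by
  rw [← mul_assoc, q61]; simp only [mul_assoc]
theorem r32 (b t) (w : G) : W.y3 b * (W.y2 t * w) = W.y2 t * (W.y3 b * w) := by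
  rw [← mul_assoc, W.r32, mul_assoc]
theorem r42 (b t) (w : G) : W.y4 b * (W.y2 t * w) = W.y2 t * (W.y4 b * w) := by
  rw [← mul_assoc, W.r42, mul_assoc]
theorem r52 (b t) (w : G) : W.y5 b * (W.y2 t * w) = W.y2 t * (W.y5 b * w) := by
  rw [← mul_assoc, W.r52, mul_assoc]
theorem r62 (b t) (w : G) : W.y6 b * (W.y2 t * w) = W.y2 t * (W.y4 (o W t b) * (W.y6 b * w)) := by
  rw [← mul_assoc, q62]; simp only [mul_assoc]
theorem r43 (b t) (w : G) : W.y4 b * (W.y3 t * w) = W.y3 t * (W.y4 b * w) := by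
  rw [← mul_assoc, W.r43, mul_assoc]
theorem r53 (b t) (w : G) : W.y5 b * (W.y3 t * w) = W.y3 t * (W.y4 (T' W t b) * (W.y5 b * w)) := by
  rw [← mul_assoc, q53]; simp only [mul_assoc]
theorem r63 (b t) (w : G) : W.y6 b * (W.y3 t * w) = W.y3 t * (W.y6 b * w) := by
  rw [← mul_assoc, W.r63, mul_assoc]
theorem r54 (b t) (w : G) : W.y5 b * (W.y4 t * w) = W.y4 t * (W.y5 b * w) := by
  rw [← mul_assoc, W.r54, mul_assoc]
theorem r64 (b t) (w : G) : W.y6 b * (W.y4 t * w) = W.y4 t * (W.y6 b * w) := by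
  rw [← mul_assoc, W.r64, mul_assoc]
theorem r65 (b t) (w : G) : W.y6 b * (W.y5 t * w) = W.y5 t * (W.y6 b * w) := by
  rw [← mul_assoc, W.r65, mul_assoc]

/-! ### critical pairs -/

/-- `(6; 3, 1)` -/
theorem H1' (a b : K × K) (u : F × F) : T' W b (D W a u) = o W (T W a b) u := by
  have h : W.y6 u * (W.y3 b * (W.y1 a * 1)) = W.y3 b * (W.y6 u * (W.y1 a * 1)) := by
    rw [← mul_assoc, W.r63, mul_assoc]
  simp only [r61, r51, r41, r31, r21, r32, r42, r52, r62, r43, r53, r63, r54, r64, r65, s1, s2, s3, s4, s5, s6] at h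
  simp only [mul_one] at h
  have h4 := (W.inj _ _ _ _ _ _ _ _ _ _ _ _ h).2.2.2.1
  have h5 := twoR (C := C) (o W (T W a b) u)
  linear_combination (norm := module) h4 - h5

/-- `(6; 5, 1)` -/
theorem H2' (a b : K × K) (u : F × F) :
    o W (P W a b) u = T' W (X W a b) (D W a u) + T' W (B W a u) b := by
  have h : W.y6 u * (W.y5 b * (W.y1 a * 1)) = W.y5 b * (W.y6 u * (W.y1 a * 1)) := by
    rw [← mul_assoc, W.r65, mul_assoc]
  simp only [r61, r51, r41, r31, r21, r32, r42, r52, r62, r43, r53, r63, r54, r64, r65, s1, s2, s3, s4, s5, s6] at h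
  simp only [mul_one] at h
  have h4 := (W.inj _ _ _ _ _ _ _ _ _ _ _ _ h).2.2.2.1
  have h5 := twoR (C := C) (T' W (X W a b) (D W a u))
  linear_combination (norm := module) h4 - h5

/-- `(6, 6; 1)` -/
theorem H3' (a : K × K) (u v : F × F) : A W a (v + u) = A W a v + A W a u ∧ D W a (v + u) = D W a v + D W a u ∧
    Gg W a (v + u) = Gg W a v + (T' W (B W a u) (D W a v) + (o W (A W a u) v + Gg W a u)) := by
  have h : W.y6 v * (W.y6 u * (W.y1 a * 1)) = W.y6 (v + u) * (W.y1 a * 1) := by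
    rw [s6]
  simp only [r61, r51, r41, r31, r21, r32, r42, r52, r62, r43, r53, r63, r54, r64, r65, s1, s2, s3, s4, s5, s6] at h
  simp only [mul_one] at h
  obtain ⟨-, h2, -, h4, h5, -⟩ := W.inj _ _ _ _ _ _ _ _ _ _ _ _ h
  exact ⟨h2.symm, h5.symm, h4.symm⟩

/-- `(6; 1, 1)` -/
theorem H4' (a b : K × K) (u : F × F) : B W (a + b) u = B W a u + (X W b (D W a u) + B W b u) ∧
    Gg W (a + b) u = Gg W a u + (Q W b (D W a u) + (T' W (B W b u) (D W a u) + Gg W b u)) ∧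
    D W (a + b) u = D W a u + D W b u := by
  have h := congrArg (· * (W.y1 b * 1)) (q61 W u a)
  simp only [mul_assoc, r61, r51, r41, r31, r21, r32, r42, r52, r62, r43, r53, r63, r54, r64, r65, s1, s2, s3, s4, s5, s6] at h
  simp only [mul_one] at h
  obtain ⟨-, -, h3, h4, h5, -⟩ := W.inj _ _ _ _ _ _ _ _ _ _ _ _ h
  exact ⟨h3, h4, h5⟩

/-- `(5; 1, 1)` -/
theorem H5' (a b c : K × K) : P W (a + b) c = P W a c + (T W b (X W a c) + P W b c) ∧
    X W (a + b) c = X W a c + X W b c ∧ Q W (a + b) c = Q W a c + Q W b c := by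
  have h := congrArg (· * (W.y1 b * W.y6 0)) (q51 W c a)
  simp only [mul_assoc, r61, r51, r41, r31, r21, r32, r42, r52, r62, r43, r53, r63, r54, r64, r65, s1, s2, s3, s4, s5, s6] at h
  obtain ⟨-, h2, h3, h4, -, -⟩ := W.inj _ _ _ _ _ _ _ _ _ _ _ _ h
  exact ⟨h2, h3, h4⟩

/-- `(3; 1, 1)` -/
theorem T_addL (a b c : K × K) : T W (a + b) c = T W a c + T W b c := by
  have h := congrArg (· * (W.y1 b * (W.y4 0 * (W.y5 0 * W.y6 0)))) (q31 W c a)
  simp only [mul_assoc, r61, r51, r41, r31, r21, r32, r42, r52, r62, r43, r53, r63, r54, r64, r65, s1, s2, s3, s4, s5, s6] at h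
  exact (W.inj _ _ _ _ _ _ _ _ _ _ _ _ h).2.1

/-- `(6; 2, 2)` -/
theorem o_addL (a b c : F × F) : o W (a + b) c = o W a c + o W b c := by
  have h := congrArg (fun x => W.y1 0 * (x * (W.y2 b * 1))) (q62 W c a)
  simp only [mul_assoc, r61, r51, r41, r31, r21, r32, r42, r52, r62, r43, r53, r63, r54, r64, r65, s1, s2, s3, s4, s5, s6] at h
  simp only [z1, one_mul, mul_one] at h
  have h2 := congrArg (fun x => (W.y2 (a + b))⁻¹ * x * (W.y6 c)⁻¹) h
  simp only [← mul_assoc, inv_mul_cancel, one_mul] at h2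
  simp only [mul_assoc, mul_inv_cancel, mul_one] at h2
  exact i4 W h2

/-- `(6, 6; 2)` -/
theorem o_addR (a b c : F × F) : o W a (b + c) = o W a b + o W a c := by
  have h : W.y6 b * (W.y6 c * (W.y2 a * 1)) = W.y6 (b + c) * (W.y2 a * 1) := by
    rw [s6]
  simp only [r61, r51, r41, r31, r21, r32, r42, r52, r62, r43, r53, r63, r54, r64, r65, s1, s2, s3, s4, s5, s6] at h
  simp only [mul_one] at h
  have h2 := congrArg (fun x => (W.y2 a)⁻¹ * x * (W.y6 (b + c))⁻¹) h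
  simp only [← mul_assoc, inv_mul_cancel, one_mul] at h2
  simp only [mul_assoc, mul_inv_cancel, mul_one] at h2
  exact (i4 W h2).symm

/-! ### uniqueness -/

theorem u31 {a b s} (h : W.y3 b * W.y1 a = W.y1 a * (W.y2 s * W.y3 b)) : T W a b = s := by
  rw [q31] at h
  exact i2 W (mul_right_cancel (mul_left_cancel h))

theorem u53 {a b s} (h : W.y5 b * W.y3 a = W.y3 a * (W.y4 s * W.y5 b)) : T' W a b = s := by
  rw [q53] at h
  exact i4 W (mul_right_cancel (mul_left_cancel h))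

theorem u62 {a b s} (h : W.y6 b * W.y2 a = W.y2 a * (W.y4 s * W.y6 b)) : o W a b = s := by
  rw [q62] at h
  exact i4 W (mul_right_cancel (mul_left_cancel h))

theorem u51 {a b p x q} (h : W.y5 b * W.y1 a = W.y1 a * (W.y2 p * (W.y3 x * (W.y4 q * W.y5 b)))) :
    P W a b = p ∧ X W a b = x ∧ Q W a b = q := by
  rw [q51] at h
  have h2 := congrArg (· * W.y6 0) h
  simp only [mul_assoc] at h2
  have h3 := W.inj _ _ _ _ _ _ _ _ _ _ _ _ h2
  exact ⟨h3.2.1, h3.2.2.1, h3.2.2.2.1⟩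

theorem u61 {a u p x q d} (h : W.y6 u * W.y1 a = W.y1 a * (W.y2 p * (W.y3 x * (W.y4 q * (W.y5 d * W.y6 u))))) :
    A W a u = p ∧ B W a u = x ∧ Gg W a u = q ∧ D W a u = d := by
  rw [q61] at h
  have h3 := W.inj _ _ _ _ _ _ _ _ _ _ _ _ h
  exact ⟨h3.2.1, h3.2.2.1, h3.2.2.2.1, h3.2.2.2.2.1⟩

/-! ### equivariance -/

section equiv

variable {φ1 φ3 φ5 : K × K → K × K} {φ2 φ4 φ6 : F × F → F × F} (f : G →* G)
  (f1 : ∀ v, f (W.y1 v) = W.y1 (φ1 v)) (f2 : ∀ v, f (W.y2 v) = W.y2 (φ2 v))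
  (f3 : ∀ v, f (W.y3 v) = W.y3 (φ3 v)) (f4 : ∀ v, f (W.y4 v) = W.y4 (φ4 v))
  (f5 : ∀ v, f (W.y5 v) = W.y5 (φ5 v)) (f6 : ∀ v, f (W.y6 v) = W.y6 (φ6 v))

include f1 f2 f3 in
theorem T_eq (a b) : T W (φ1 a) (φ3 b) = φ2 (T W a b) := by
  apply u31
  have h := congrArg f (q31 W b a)
  simpa only [map_mul, f1, f2, f3] using h

include f2 f4 f6 in
theorem o_eq (a b) : o W (φ2 a) (φ6 b) = φ4 (o W a b) := by
  apply u62
  have h := congrArg f (q62 W b a)
  simpa only [map_mul, f2, f4, f6] using h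

include f1 f2 f3 f4 f5 in
theorem X_eq (a b) : P W (φ1 a) (φ5 b) = φ2 (P W a b) ∧ X W (φ1 a) (φ5 b) = φ3 (X W a b) ∧
    Q W (φ1 a) (φ5 b) = φ4 (Q W a b) := by
  apply u51
  have h := congrArg f (q51 W b a)
  simpa only [map_mul, f1, f2, f3, f4, f5] using h

include f1 f2 f3 f4 f5 f6 in
theorem D_eq (a b) : A W (φ1 a) (φ6 b) = φ2 (A W a b) ∧ B W (φ1 a) (φ6 b) = φ3 (B W a b) ∧
    Gg W (φ1 a) (φ6 b) = φ4 (Gg W a b) ∧ D W (φ1 a) (φ6 b) = φ5 (D W a b) := by
  apply u61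
  have h := congrArg f (q61 W b a)
  simpa only [map_mul, f1, f2, f3, f4, f5, f6] using h

end equiv

/-! ### symmetries -/

theorem na_inv : W.na⁻¹ = W.na := inv_eq_of_mul_eq_one_right W.na_sq
theorem nb_inv : W.nb⁻¹ = W.nb := inv_eq_of_mul_eq_one_right W.nb_sq

/-- conjugation by `na` -/
def ca : G →* G := (MulAut.conj W.na).toMonoidHom
/-- conjugation by `nb` -/
def cb : G →* G := (MulAut.conj W.nb).toMonoidHom

theorem ca_apply (x : G) : ca W x = W.na * x * W.na := by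
  unfold ca
  rw [MulEquiv.toMonoidHom_eq_coe, MonoidHom.coe_coe, MulAut.conj_apply, na_inv]
theorem cb_apply (x : G) : cb W x = W.nb * x * W.nb := by
  unfold cb
  rw [MulEquiv.toMonoidHom_eq_coe, MonoidHom.coe_coe, MulAut.conj_apply, nb_inv]

theorem ca_ca (x : G) : ca W (ca W x) = x := by
  rw [ca_apply, ca_apply]
  calc W.na * (W.na * x * W.na) * W.na = (W.na * W.na) * x * (W.na * W.na) := by group
    _ = x := by rw [W.na_sq, one_mul, mul_one]
theorem cb_cb (x : G) : cb W (cb W x) = x := by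
  rw [cb_apply, cb_apply]
  calc W.nb * (W.nb * x * W.nb) * W.nb = (W.nb * W.nb) * x * (W.nb * W.nb) := by group
    _ = x := by rw [W.nb_sq, one_mul, mul_one]

theorem ca2 (v) : ca W (W.y2 v) = W.y6 v := by rw [ca_apply, W.na2]
theorem ca3 (v) : ca W (W.y3 v) = W.y5 v := by rw [ca_apply, W.na3]
theorem ca4 (v) : ca W (W.y4 v) = W.y4 v := by rw [ca_apply, W.na4]
theorem ca5 (v) : ca W (W.y5 v) = W.y3 v := by rw [← ca3, ca_ca]
theorem ca6 (v) : ca W (W.y6 v) = W.y2 v := by rw [← ca2, ca_ca]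
theorem cb1 (v) : cb W (W.y1 v) = W.y5 v := by rw [cb_apply, W.nb1]
theorem cb2 (v) : cb W (W.y2 v) = W.y4 v := by rw [cb_apply, W.nb2]
theorem cb3 (v) : cb W (W.y3 v) = W.y3 v := by rw [cb_apply, W.nb3]
theorem cb4 (v) : cb W (W.y4 v) = W.y2 v := by rw [← cb2, cb_cb]
theorem cb5 (v) : cb W (W.y5 v) = W.y1 v := by rw [← cb1, cb_cb]

/-- `[y3 a, y1 b]` computed backwards -/
theorem q31' (a b : K × K) : W.y1 a * W.y3 b = W.y3 b * (W.y2 (T W a b) * W.y1 a) := by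
  have h := q31 W b a
  have h2 : W.y1 a * W.y3 b = W.y2 (T W a b) * (W.y3 b * W.y1 a) := by
    rw [h, ← mul_assoc (W.y1 a), ← W.r21, mul_assoc, ← mul_assoc (W.y2 _) (W.y2 _), ← W.add2, twoR (C := C), z2,
      one_mul]
  rw [h2, ← mul_assoc, ← W.r32, mul_assoc]

theorem T_symm (a b : K × K) : T W a b = T W b a := by
  have h := congrArg (fun x => cb W (ca W (cb W x))) (q31 W a b)
  simp only [map_mul, cb1, cb2, cb3, ca5, ca3, ca4, cb5, cb4] at h
  rw [q31'] at h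
  exact i2 W (mul_right_cancel (mul_left_cancel h))

theorem T'_eq (a b : K × K) : T' W a b = T W b a := by
  apply u53
  have h := congrArg (cb W) (q31' W b a)
  simpa only [map_mul, cb1, cb2, cb3] using h

/-! ### zero values -/

theorem T_zeroL (b) : T W 0 b = 0 := by
  have := T_addL W 0 0 b
  rw [add_zero] at this
  exact left_eq_add.1 this
theorem T_zeroR (b) : T W b 0 = 0 := by rw [T_symm, T_zeroL]
theorem X_zeroL (b) : X W 0 b = 0 := by
  have := (H5' W 0 0 b).2.1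
  rw [add_zero] at this
  exact left_eq_add.1 this
theorem Q_zeroL (b) : Q W 0 b = 0 := by
  have := (H5' W 0 0 b).2.2
  rw [add_zero] at this
  exact left_eq_add.1 this
theorem P_zeroL (b) : P W 0 b = 0 := by
  have := (H5' W 0 0 b).1
  rw [add_zero, X_zeroL, T_zeroR, zero_add] at this
  exact left_eq_add.1 this
theorem D_zeroL (b) : D W 0 b = 0 := by
  have := (H4' W 0 0 b).2.2
  rw [add_zero] at this
  exact left_eq_add.1 this
theorem D_zeroR (b) : D W b 0 = 0 := by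
  have := (H3' W b 0 0).2.1
  rw [add_zero] at this
  exact left_eq_add.1 this
theorem B_zeroL (b) : B W 0 b = 0 := by
  have := (H4' W 0 0 b).1
  rw [add_zero, X_zeroL, zero_add] at this
  exact left_eq_add.1 this
theorem G_zeroL (b) : Gg W 0 b = 0 := by
  have := (H4' W 0 0 b).2.1
  rw [add_zero, Q_zeroL, B_zeroL, D_zeroL, T'_eq, T_zeroL, zero_add, zero_add] at this
  exact left_eq_add.1 this

theorem T_X_self (a b) : T W a (X W a b) = 0 := by
  have h := (H5' W a a b).1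
  rw [twoM (C := C), P_zeroL] at h
  have h2 := twoR (C := C) (P W a b)
  linear_combination (norm := module) -h - h2

/-- conjugation of `[y5, y1]` by `nb` -/
theorem X_symm_aux (a b) : X W a b = X W b a ∧ Q W a b = P W b a := by
  have h := congrArg (cb W) (q51 W b a)
  simp only [map_mul, cb1, cb2, cb3, cb4, cb5] at h
  have h2 : W.y1 b * (W.y2 0 * (W.y3 0 * (W.y4 0 * (W.y5 a * W.y6 0)))) =
      W.y5 a * (W.y4 (P W a b) * (W.y3 (X W a b) * (W.y2 (Q W a b) * (W.y1 b * W.y6 0)))) := by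
    simp only [z2, z3, z4, z6, one_mul, mul_one]
    exact h
  simp only [r61, r51, r41, r31, r21, r32, r42, r52, r62, r43, r53, r63, r54, r64, r65, s1, s2, s3, s4, s5, s6] at h2
  obtain ⟨-, h3, h4, -⟩ := W.inj _ _ _ _ _ _ _ _ _ _ _ _ h2
  have h5 : X W a b = X W b a := by
    have h6 := twoM (C := C) (X W a b)
    linear_combination (norm := module) h6 + h4
  refine ⟨h5, ?_⟩
  rw [h5, T_X_self] at h3
  have h6 := twoR (C := C) (Q W a b)
  linear_combination (norm := module) h6 + h3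

end Cfsg.Agent.HexRing.Grp
end

-- part: HexRing/Grp2
section
/-!
# The ring of a grown hexagonal 2-group: units, torus
-/

set_option autoImplicit false
set_option linter.unusedSimpArgs false

namespace Cfsg.Agent.HexRing.Grp2

open Cfsg.Agent.HexRec Cfsg.Agent.HexRing.Def Cfsg.Agent.HexRing.Grp

variable {F K : Type*} [Field F] [Field K] [Algebra F K] {C : Cubic F K} {G : Type*} [Group G] (W : Pos C G)

/-! ### rank one -/

theorem E_sq : W.y6 (1, 0) * W.y6 (1, 0) = 1 := by rw [← W.add6, twoR (C := C), z6]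

/-- conjugation by `E = y6 (1, 0)` -/
def cE : G →* G := (MulAut.conj (W.y6 (1, 0))).toMonoidHom

theorem cE_apply (x : G) : cE W x = W.y6 (1, 0) * x * W.y6 (1, 0) := by
  unfold cE
  rw [MulEquiv.toMonoidHom_eq_coe, MonoidHom.coe_coe, MulAut.conj_apply, inv_eq_of_mul_eq_one_right (E_sq W)]

theorem cE_cE (x : G) : cE W (cE W x) = x := by
  rw [cE_apply, cE_apply]
  calc W.y6 (1, 0) * (W.y6 (1, 0) * x * W.y6 (1, 0)) * W.y6 (1, 0) =
      (W.y6 (1, 0) * W.y6 (1, 0)) * x * (W.y6 (1, 0) * W.y6 (1, 0)) := by group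
    _ = x := by rw [E_sq, one_mul, mul_one]

theorem cE_comm {x : G} (h : W.y6 (1, 0) * x = x * W.y6 (1, 0)) : cE W x = x := by
  rw [cE_apply, h, mul_assoc, E_sq, mul_one]

theorem cE2 (s) : cE W (W.y2 s) = W.y2 s * W.y4 (o W s (1, 0)) := by
  rw [cE_apply, q62, mul_assoc, mul_assoc, E_sq, mul_one]
theorem cE1 (a) : cE W (W.y1 a) = W.y1 a * (W.y2 (A W a (1, 0)) * (W.y3 (B W a (1, 0)) *
    (W.y4 (Gg W a (1, 0)) * W.y5 (D W a (1, 0))))) := by
  rw [cE_apply, q61]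
  simp only [mul_assoc]
  rw [E_sq, mul_one]
theorem cE3 (s) : cE W (W.y3 s) = W.y3 s := cE_comm W (W.r63 _ _)
theorem cE4 (s) : cE W (W.y4 s) = W.y4 s := cE_comm W (W.r64 _ _)
theorem cE5 (s) : cE W (W.y5 s) = W.y5 s := cE_comm W (W.r65 _ _)

/-- `nb = E (nb E nb) E` on elements -/
theorem cb_eq (x : G) : cb W x = cE W (cb W (cE W (cb W (cE W x)))) := by
  have h := W.rank1
  rw [cE_apply, cb_apply, cE_apply, cb_apply, cE_apply, cb_apply]
  calc W.nb * x * W.nb = (W.y6 (1, 0) * (W.nb * W.y6 (1, 0) * W.nb) * W.y6 (1, 0)) * x *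
      (W.y6 (1, 0) * (W.nb * W.y6 (1, 0) * W.nb) * W.y6 (1, 0)) := by rw [h]
    _ = _ := by group

theorem cb_cE_cb (x : G) : cb W (cE W (cb W (cE W x))) = cE W (cb W x) := by
  rw [cb_eq W x, cE_cE]

theorem o_oneR (s) : o W s (1, 0) = s := by
  have h := cb_cE_cb W (W.y2 s)
  simp only [cE2, cb2, cb4, cE4, map_mul] at h
  have h2 : W.y1 0 * (W.y3 0 * (W.y2 s * (W.y4 (o W s (1, 0)) * (W.y2 (o W (o W s (1, 0)) (1, 0)) *
      (W.y5 0 * W.y6 0))))) = W.y1 0 * (W.y2 0 * (W.y3 0 * (W.y4 s * (W.y5 0 * W.y6 0)))) := by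
    simp only [z1, z2, z3, z5, z6, one_mul, mul_one]
    simpa only [mul_assoc] using h
  simp only [r61, r51, r41, r31, r21, r32, r42, r52, r62, r43, r53, r63, r54, r64, r65, s1, s2, s3, s4, s5, s6] at h2
  exact (W.inj _ _ _ _ _ _ _ _ _ _ _ _ h2).2.2.2.1

theorem o_symm (s u) : o W s u = o W u s := by
  have h := congrArg (ca W) (q62 W u s)
  simp only [map_mul, ca2, ca6, ca4] at h
  -- `y2 u * y6 s = y6 s * (y4 (o s u) * y2 u)`
  have h2 : W.y6 s * (W.y2 u * (W.y4 (o W s u) * 1)) = W.y2 u * (W.y6 s * 1) := by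
    rw [mul_one, mul_one, h, W.r42]
  simp only [r61, r51, r41, r31, r21, r32, r42, r52, r62, r43, r53, r63, r54, r64, r65, s1, s2, s3, s4, s5, s6] at h2
  simp only [mul_one] at h2
  have h3 : W.y1 0 * (W.y2 u * (W.y3 0 * (W.y4 (o W u s + o W s u) * (W.y5 0 * W.y6 s)))) =
      W.y1 0 * (W.y2 u * (W.y3 0 * (W.y4 0 * (W.y5 0 * W.y6 s)))) := by
    simp only [z1, z3, z4, z5, one_mul, mul_one]
    exact h2
  have h4 := (W.inj _ _ _ _ _ _ _ _ _ _ _ _ h3).2.2.2.1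
  have h5 := twoR (C := C) (o W u s)
  linear_combination (norm := module) h4 - h5

theorem o_oneL (s) : o W (1, 0) s = s := by rw [o_symm, o_oneR]

theorem D_one (a) : D W a (1, 0) = a := by
  have h := cb_cE_cb W (W.y1 a)
  simp only [cE1, cb1, cb2, cb3, cb4, cb5, cE2, cE3, cE4, cE5, map_mul] at h
  have h2 := congrArg (· * W.y6 0) h
  simp only [mul_assoc, r61, r51, r41, r31, r21, r32, r42, r52, r62, r43, r53, r63, r54, r64, r65, s1, s2, s3, s4, s5, s6] at h2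
  have h3 : W.y5 a * W.y6 0 = W.y1 0 * (W.y2 0 * (W.y3 0 * (W.y4 0 * (W.y5 a * W.y6 0)))) := by
    simp only [z1, z2, z3, z4, one_mul]
  rw [h3] at h2
  exact (W.inj _ _ _ _ _ _ _ _ _ _ _ _ h2).2.2.2.2.1

/-! ### the torus and `t` -/

theorem tor (k : K) (l : F) (hk : k ≠ 0) (hl : l ≠ 0) : (∀ a b, T W (k • a) ((C.sh k * algebraMap F K l) • b) =
    (C.N k * l) • T W a b) ∧ (∀ a u, B W (k • a) (l • u) = (C.sh k * algebraMap F K l) • B W a u ∧
      Gg W (k • a) (l • u) = (C.N k * l ^ 2) • Gg W a u ∧ D W (k • a) (l • u) = (k * algebraMap F K l) • D W a u) := by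
  let f : G →* G := (MulAut.conj (W.h k l)).toMonoidHom
  have f1 : ∀ v, f (W.y1 v) = W.y1 (k • v) := W.h1 k l hk hl
  have f2 : ∀ v, f (W.y2 v) = W.y2 ((C.N k * l) • v) := W.h2 k l hk hl
  have f3 : ∀ v, f (W.y3 v) = W.y3 ((C.sh k * algebraMap F K l) • v) := W.h3 k l hk hl
  have f4 : ∀ v, f (W.y4 v) = W.y4 ((C.N k * l ^ 2) • v) := W.h4 k l hk hl
  have f5 : ∀ v, f (W.y5 v) = W.y5 ((k * algebraMap F K l) • v) := W.h5 k l hk hl
  have f6 : ∀ v, f (W.y6 v) = W.y6 (l • v) := W.h6 k l hk hl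
  refine ⟨fun a b => T_eq W f f1 f2 f3 a b, fun a u => ?_⟩
  have h := D_eq W f f1 f2 f3 f4 f5 f6 a u
  exact ⟨h.2.1, h.2.2.1, h.2.2.2⟩

/-- the action of `t` -/
def tt {k : Type*} [Add k] (v : k × k) : k × k := (v.1 + v.2, v.2)

theorem tor_t : (∀ a b, T W (tt a) (tt b) = tt (T W a b)) ∧ (∀ a b, o W (tt a) (tt b) = tt (o W a b)) ∧
    (∀ a u, B W (tt a) (tt u) = tt (B W a u) ∧ D W (tt a) (tt u) = tt (D W a u)) := by
  let f : G →* G := (MulAut.conj W.t).toMonoidHom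
  have f1 : ∀ v, f (W.y1 v) = W.y1 (tt v) := W.t1
  have f2 : ∀ v, f (W.y2 v) = W.y2 (tt v) := W.t2
  have f3 : ∀ v, f (W.y3 v) = W.y3 (tt v) := W.t3
  have f4 : ∀ v, f (W.y4 v) = W.y4 (tt v) := W.t4
  have f5 : ∀ v, f (W.y5 v) = W.y5 (tt v) := W.t5
  have f6 : ∀ v, f (W.y6 v) = W.y6 (tt v) := W.t6
  refine ⟨fun a b => T_eq W f f1 f2 f3 a b, fun a b => o_eq W f f2 f4 f6 a b, fun a u => ?_⟩
  have h := D_eq W f f1 f2 f3 f4 f5 f6 a u
  exact ⟨h.2.1, h.2.2.2⟩

theorem T_FR (l : F) (a b : K × K) : T W a (algebraMap F K l • b) = l • T W a b := by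
  by_cases hl : l = 0
  · rw [hl, map_zero, zero_smul, zero_smul, T_zeroR]
  have h := (tor W 1 l one_ne_zero hl).1 a b
  rwa [one_smul, C.sh_one, one_mul, C.N_one, one_mul] at h

theorem T_F (l : F) (a b : K × K) : T W (algebraMap F K l • a) b = l • T W a b := by
  rw [T_symm, T_FR, T_symm]

theorem T_K (k : K) (a b : K × K) : T W (k • a) b = T W a (k • b) := by
  by_cases hk : k = 0
  · rw [hk, zero_smul, zero_smul, T_zeroL, T_zeroR]
  have hs := C.sh_ne_zero hk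
  have h := (tor W k 1 hk one_ne_zero).1 a ((C.sh k)⁻¹ • b)
  rw [map_one, mul_one, smul_smul, mul_inv_cancel₀ hs, one_smul, mul_one, ← T_FR, smul_smul, C.N_map, mul_assoc,
    mul_inv_cancel₀ hs, mul_one] at h
  exact h

theorem D_smul (k : K) (l : F) (a : K × K) (u : F × F) : D W (k • a) (l • u) = (k * algebraMap F K l) • D W a u := by
  by_cases hk : k = 0
  · rw [hk, zero_smul, zero_mul, zero_smul, D_zeroL]
  by_cases hl : l = 0
  · rw [hl, zero_smul, map_zero, mul_zero, zero_smul, D_zeroR]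
  exact ((tor W k l hk hl).2 a u).2.2

theorem B_smul (k : K) (a : K × K) (u : F × F) : B W (k • a) u = C.sh k • B W a u := by
  by_cases hk : k = 0
  · rw [hk, zero_smul, C.sh_zero, zero_smul, B_zeroL]
  have h := ((tor W k 1 hk one_ne_zero).2 a u).1
  rwa [map_one, mul_one, one_smul] at h

theorem G_smul (k : K) (a : K × K) (u : F × F) : Gg W (k • a) u = C.N k • Gg W a u := by
  by_cases hk : k = 0
  · rw [hk, zero_smul, C.N_zero, zero_smul, G_zeroL]
  have h := ((tor W k 1 hk one_ne_zero).2 a u).2.1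
  rwa [one_pow, mul_one, one_smul] at h

/-! ### the values on the small group -/

theorem T_small (k l : K) : T W (k, 0) (l, 0) = (C.T k l, 0) := u31 W (W.rel.r31 l k)

theorem X_small (k l : K) : X W (k, 0) (l, 0) = (C.cr k l, 0) := (u51 W (W.rel.r51 l k)).2.1

theorem B_small (k : K) (l : F) : B W (k, 0) (l, 0) = (l • C.sh k, 0) := (u61 W (W.rel.r61 l k)).2.1

end Cfsg.Agent.HexRing.Grp2
end

-- part: HexRing/Main
section
/-!
# The ring of a grown hexagonal 2-group: main theorem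

`exists_qRel`: the labels of a grown system `Pos C G` can be changed (`lab`) so that all commutator relations are
those of the quadratic extension `K[ω]/F[ω]`, `ω² = β + ω`.
-/

set_option autoImplicit false

namespace Cfsg.Agent.HexRing.Main

open Cfsg.Agent.HexRec Cfsg.Agent.HexRing.Def Cfsg.Agent.HexRing.Grp Cfsg.Agent.HexRing.Grp2
  Cfsg.Agent.HexRing.Fun Cfsg.Agent.HexRing.Fun2 Cfsg.Agent.HexRing.Fun3

variable {F K : Type*} [Field F] [Field K] [Algebra F K] {C : Cubic F K} {G : Type*} [Group G] (W : Pos C G)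

/-- the functional system of `W` -/
noncomputable def fsys : FSys C (F × F) (K × K) where
  one := (1, 0)
  e := (0, 1)
  uno := (1, 0)
  tR := tt
  tM := tt
  tR_add a b := by ext <;> simp [tt] <;> ring
  tR_smul l a := by ext <;> simp [tt, mul_add]
  tR_one := by ext <;> simp [tt]
  tR_e := by ext <;> simp [tt]
  tM_add a b := by ext <;> simp [tt] <;> ring
  tM_smul l a := by ext <;> simp [tt, mul_add]
  tM_uno := by ext <;> simp [tt]
  tM_tM a := by ext <;> simp [tt, add_assoc, C.add_selfK]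
  decR r := ⟨r.1, r.2, by ext <;> simp⟩
  freeR a b h := by
    have h1 := congrArg Prod.fst h
    have h2 := congrArg Prod.snd h
    simp at h1 h2
    exact ⟨h1, h2⟩
  fixM m h := by
    have h1 := congrArg Prod.fst h
    simp only [tt] at h1
    refine ⟨m.1, ?_⟩
    ext
    · simp
    · simpa using h1
  freeM k h := by
    have h1 := congrArg Prod.fst h
    simpa using h1
  T := T W
  o := o W
  D := D W
  X := X W
  P := P W
  A := A W
  B := B W
  G := Gg W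
  T_add := T_addL W
  T_symm := T_symm W
  T_K := T_K W
  T_F := T_F W
  T_uno k l := by
    have h1 : k • ((1, 0) : K × K) = (k, 0) := by ext <;> simp
    have h2 : l • ((1, 0) : K × K) = (l, 0) := by ext <;> simp
    rw [h1, h2, T_small]
    ext <;> simp
  T_t := (tor_t W).1
  o_addL := o_addL W
  o_addR := o_addR W
  o_oneL := o_oneL W
  o_oneR := o_oneR W
  o_t := (tor_t W).2.1
  D_addL a a' u := (H4' W a a' u).2.2
  D_addR a u u' := (H3' W a u' u).2.1
  D_smul := D_smul W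
  D_one := D_one W
  D_t a u := ((tor_t W).2.2 a u).2
  H1 a u b := by rw [← H1', T'_eq]
  X_addL a a' b := (H5' W a a' b).2.1
  X_symm a b := (X_symm_aux W a b).1
  X_uno k l := by
    have h1 : k • ((1, 0) : K × K) = (k, 0) := by ext <;> simp
    have h2 : l • ((1, 0) : K × K) = (l, 0) := by ext <;> simp
    rw [h1, h2, X_small]
    ext <;> simp
  P_addL a a' b := by rw [(H5' W a a' b).1]; abel
  H2 a b u := by rw [H2', T'_eq, T'_eq, T_symm, T_symm W b]
  A_addR a u u' := (H3' W a u' u).1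
  G_addR a u u' := by
    rw [add_comm u u', (H3' W a u u').2.2, T'_eq]; abel
  B_addL a a' u := by rw [(H4' W a a' u).1]; abel
  G_addL a a' u := by rw [(H4' W a a' u).2.1, (X_symm_aux W _ _).2, T'_eq]; abel
  B_smul := B_smul W
  B_uno := by rw [B_small, C.sh_one, one_smul]
  B_t a u := ((tor_t W).2.2 a u).1
  G_smul := G_smul W

theorem thR_fsys {β : F} (r : RQ β) : thR (fsys W) r = lab β 0 r := by
  unfold thR lab fsys
  ext <;> simp

theorem exists_c : ∃ c : K, ∀ (β : F) (r : MQ K β), thM (fsys W) r = lab (algebraMap F K β) c r := by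
  have h := (fsys W).tM_f
  have h1 := congrArg Prod.fst h
  have h2 : (fsys W).f.2 = 1 := by
    change (fsys W).f.1 + (fsys W).f.2 = (fsys W).f.1 + 1 at h1
    exact add_left_cancel h1
  refine ⟨(fsys W).f.1, fun β r => ?_⟩
  unfold thM lab
  ext
  · change r.re * 1 + r.im * (fsys W).f.1 = _
    rw [mul_one, mul_comm]
  · change r.re * 0 + r.im * (fsys W).f.2 = _
    rw [h2, mul_zero, zero_add, mul_one]

theorem TQ_comm {β : F} (a b : MQ K β) : TQ C a b = TQ C b a := by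
  unfold TQ
  rw [mul_comm]

theorem exists_qRel (hN : ∃ k : K, C.N (k + 1) ≠ C.N k + 1)
    (hδ : (∃ l : F, l ^ 2 ≠ l) ∨ ∃ a b : K, C.cr a b ≠ 0) :
    ∃ (β : F) (c : K), QRel C β (fun z => W.y1 (lab (algebraMap F K β) c z)) (fun z => W.y2 (lab β 0 z))
      (fun z => W.y3 (lab (algebraMap F K β) c z)) (fun z => W.y4 (lab β 0 z))
      (fun z => W.y5 (lab (algebraMap F K β) c z)) (fun z => W.y6 (lab β 0 z)) := by
  obtain ⟨β, hβ⟩ := (fsys W).exists_beta
  obtain ⟨c, hc⟩ := exists_c W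
  have hs := sharp_f (fsys W) hβ hδ
  set Z := fsys W with hZ
  have hM : ∀ r : MQ K β, lab (algebraMap F K β) c r = thM Z r := fun r => (hc β r).symm
  have hR : ∀ r : RQ β, lab β 0 r = thR Z r := fun r => (thR_fsys W r).symm
  have eT : ∀ a b : MQ K β, T W (thM Z a) (thM Z b) = thR Z (TQ C a b) := T_th Z hβ
  have eo : ∀ s u : RQ β, o W (thR Z s) (thR Z u) = thR Z (s * u) := fun s u => (thR_mul Z hβ s u).symm
  have eD : ∀ (a : MQ K β) (u : RQ β), D W (thM Z a) (thR Z u) = thM Z (incl K u * a) := D_th Z hβ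
  have eX : ∀ a b : MQ K β, X W (thM Z a) (thM Z b) = thM Z (crQ C a b) := X_th Z hβ
  have eS : ∀ a : MQ K β, B W (thM Z a) (1, 0) = thM Z (shQ C a) := sharp_th Z hs
  have eP : ∀ a b : MQ K β, P W (thM Z a) (thM Z b) = thR Z (TQ C (shQ C a) b) := fun a b => by
    have h1 : P W (thM Z a) (thM Z b) = T W (B W (thM Z a) (1, 0)) (thM Z b) := P_eq Z _ _
    rw [h1, eS, eT]
  have eQ : ∀ a b : MQ K β, Q W (thM Z a) (thM Z b) = thR Z (TQ C a (shQ C b)) := fun a b => by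
    rw [(X_symm_aux W _ _).2, eP, TQ_comm]
  have eB : ∀ (a : MQ K β) (u : RQ β), B W (thM Z a) (thR Z u) = thM Z (incl K u * shQ C a) := fun a u => by
    have h1 : B W (thM Z a) (thR Z u) = D W (B W (thM Z a) (1, 0)) (thR Z u) := B_eq Z _ _
    rw [h1, eS, eD]
  have eA : ∀ (a : MQ K β) (u : RQ β), A W (thM Z a) (thR Z u) = thR Z (u * NQ C a) := fun a u => by
    have h1 : A W (thM Z a) (thR Z u) = o W (T W (B W (thM Z a) (1, 0)) (thM Z a)) (thR Z u) := A_eq Z _ _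
    rw [h1, eS, eT, eo, mul_comm, TQ_comm]
    rfl
  have eG : ∀ (a : MQ K β) (u : RQ β), Gg W (thM Z a) (thR Z u) = thR Z (u ^ 2 * NQ C a) := fun a u => by
    have h1 : Gg W (thM Z a) (thR Z u) = o W (o W (thR Z u) (thR Z u)) (T W (B W (thM Z a) (1, 0)) (thM Z a)) :=
      G_eq Z hβ hs hN _ _
    rw [h1, eS, eT, eo, eo, TQ_comm, sq]
    rfl
  refine ⟨β, c, ?_⟩
  simp only [hM, hR]
  exact
  { add1 := fun s t => by rw [thM_add, W.add1]
    add2 := fun s t => by rw [thR_add, W.add2]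
    add3 := fun s t => by rw [thM_add, W.add3]
    add4 := fun s t => by rw [thR_add, W.add4]
    add5 := fun s t => by rw [thM_add, W.add5]
    add6 := fun s t => by rw [thR_add, W.add6]
    r21 := fun t a => W.r21 _ _
    r31 := fun b a => by rw [q31, eT]
    r41 := fun t a => W.r41 _ _
    r51 := fun b a => by rw [q51, eP, eX, eQ]
    r61 := fun t a => by rw [q61, eA, eB, eG, eD]
    r32 := fun t a => W.r32 _ _
    r42 := fun t a => W.r42 _ _
    r52 := fun t a => W.r52 _ _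
    r62 := fun b t => by rw [q62, eo, mul_comm]
    r43 := fun t a => W.r43 _ _
    r53 := fun b t => by rw [q53, T'_eq, eT, TQ_comm]
    r63 := fun t a => W.r63 _ _
    r54 := fun t a => W.r54 _ _
    r64 := fun t a => W.r64 _ _
    r65 := fun t a => W.r65 _ _ }

end Cfsg.Agent.HexRing.Main
end

-- part: HexEight/SplitA
section
/-!
# The split case: the two families of root groups, positive relations
-/

set_option autoImplicit false
set_option linter.unusedSectionVars false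

namespace Cfsg.Agent.HexEight.SplitA

open Cfsg.Agent.StdRank2.Hex Cfsg.Agent.SplitTwo Cfsg.Agent.StdRank2.Hex.HexTwo Cfsg.Agent.HexEight.Def
open Cfsg.Agent.HexEight.Lab Cfsg.Agent.HexEight.ToPos Cfsg.Agent.HexEight.Alg
open Cfsg.Agent.HexRing.Def Cfsg.Agent.HexRec
open scoped commutatorElement

variable {E : Type*} [Field E] {σ : E ≃+* E} {G : Type*} [Group G] {x : ZMod 12 → E → G} {t : G}
  {V : ZMod 12 → Subgroup G}

/-- the eigenvalue at the root `k` -/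
def dd (c0 c : E) (k : ZMod 12) : E := if k.val % 2 = 0 then c0 else c0 + c

/-- the family of root elements belonging to `c0` -/
def fam (x z : ZMod 12 → E → G) (c0 c : E) (k : ZMod 12) (a : E) : G := Y x z k (dd c0 c k * a) a

theorem ok_dd {c0 c : E} (h0 : σ c0 = c0) (k : ZMod 12) : Ok σ k (dd c0 c k) := by
  intro hk
  unfold dd
  rw [if_pos hk, h0]

theorem dd_congr {c0 c : E} {k l : ZMod 12} (h : l.val % 2 = k.val % 2) : dd c0 c l = dd c0 c k := by
  unfold dd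
  rw [h]

theorem dd_succ (c0 c : E) (k : ZMod 12) : dd (c0 + 1) c k = dd c0 c k + 1 := by
  unfold dd
  split_ifs <;> ring

section fam

variable (g : Gr σ x t V) {z : ZMod 12 → E → G} (L : Lab σ x t V z) {c0 : E} (h0 : σ c0 = c0) (c : E)

include g L h0

theorem fam_mem {k : ZMod 12} {a : E} (ha : Ok σ k a) : fam x z c0 c k a ∈ V k :=
  Y_mem g L ((ok_dd h0 k).mul ha) ha

theorem fam_sq {k : ZMod 12} {a : E} (ha : Ok σ k a) : fam x z c0 c k a * fam x z c0 c k a = 1 :=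
  g.sq k _ (fam_mem g L h0 c ha)

theorem fam_add {k : ZMod 12} {a b : E} (ha : Ok σ k a) (hb : Ok σ k b) :
    fam x z c0 c k (a + b) = fam x z c0 c k a * fam x z c0 c k b := by
  unfold fam
  rw [mul_add]
  exact Y_add g L ((ok_dd h0 k).mul ha) ha ((ok_dd h0 k).mul hb) hb

theorem fam_zero (k : ZMod 12) : fam x z c0 c k 0 = 1 := by
  unfold fam
  rw [mul_zero, Y_zero_right g L, g.hex.x_zero]

theorem fam_eq_one {k : ZMod 12} {a : E} (ha : Ok σ k a) (e : fam x z c0 c k a = 1) : a = 0 := by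
  have h1 : fam x z c0 c k a = Y x z k 0 0 := by rw [e, Y_zero_right g L, g.hex.x_zero]
  exact (Y_inj g L ((ok_dd h0 k).mul ha) ha (ok_zero σ k) (ok_zero σ k) h1).2

theorem fam_refl (c' : ZMod 12) {k : ZMod 12} {a : E} (ha : Ok σ k a) :
    nn x c' * fam x z c0 c k a * (nn x c')⁻¹ = fam x z c0 c (2 * c' + 6 - k) a := by
  unfold fam
  rw [Y_refl g L c' ((ok_dd h0 k).mul ha) ha, dd_congr (val_refl c' k)]

theorem fam_tor1 {s : E} (hs : s ≠ 0) {k : ZMod 12} {a : E} (ha : Ok σ k a) :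
    hh x 1 s * fam x z c0 c k a * (hh x 1 s)⁻¹ = fam x z c0 c k (chS σ (k - 1) s * a) := by
  unfold fam
  rw [Y_tor1 g L hs ((ok_dd h0 k).mul ha) ha]
  congr 1
  ring

theorem fam_tor6 {s : E} (hs : s ≠ 0) (hs' : σ s = s) {k : ZMod 12} {a : E} (ha : Ok σ k a) :
    hh x 6 s * fam x z c0 c k a * (hh x 6 s)⁻¹ = fam x z c0 c k (chL (k - 6) s * a) := by
  unfold fam
  rw [Y_tor6 g L hs hs' ((ok_dd h0 k).mul ha) ha]
  congr 1
  ring

theorem fam_t {k : ZMod 12} {a : E} (ha : Ok σ k a) :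
    t * fam x z c0 c k a * t⁻¹ = fam x z (c0 + 1) c k a := by
  unfold fam
  rw [Y_t g L ((ok_dd h0 k).mul ha) ha, dd_succ]
  congr 1
  ring

theorem fam_mul {k : ZMod 12} {a : E} (ha : Ok σ k a) :
    fam x z c0 c k a * fam x z (c0 + 1) c k a = x k a := by
  have h1 : σ (c0 + 1) = c0 + 1 := by rw [map_add, h0, map_one]
  unfold fam
  rw [← Y_add g L ((ok_dd h0 k).mul ha) ha ((ok_dd h1 k).mul ha) ha, g.hex.add_self, Y_zero_right g L, dd_succ]
  congr 1
  linear_combination (dd c0 c k * a) * g.hex.two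

theorem fam_surj {k : ZMod 12} {y : G} (hy : y ∈ V k) :
    ∃ a b, Ok σ k a ∧ Ok σ k b ∧ y = fam x z c0 c k a * fam x z (c0 + 1) c k b := by
  have h1 : σ (c0 + 1) = c0 + 1 := by rw [map_add, h0, map_one]
  obtain ⟨p, q, hp, hq, rfl⟩ := Y_surj g L hy
  have hd := ok_dd (c := c) h0 k
  have hb : Ok σ k (p + dd c0 c k * q) := hp.add (hd.mul hq)
  have ha : Ok σ k (q + (p + dd c0 c k * q)) := hq.add hb
  refine ⟨q + (p + dd c0 c k * q), p + dd c0 c k * q, ha, hb, ?_⟩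
  unfold fam
  rw [← Y_add g L (hd.mul ha) ha ((ok_dd h1 k).mul hb) hb, dd_succ]
  congr 1
  · linear_combination (-(dd c0 c k * q) - dd c0 c k * (p + dd c0 c k * q)) * g.hex.two
  · linear_combination (-(p + dd c0 c k * q)) * g.hex.two

end fam

/-- `[a, b]` from a swap -/
theorem kk_of_swap {a b s : G} (ha : a * a = 1) (hb : b * b = 1) (e : b * a = a * (s * b)) : kk a b = s := by
  unfold kk
  rw [inv_eq_of_mul_eq_one_left ha, inv_eq_of_mul_eq_one_left hb]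
  calc a * b * a * b = a * (b * a) * b := by group
    _ = (a * a) * s * (b * b) := by rw [e]; group
    _ = s := by rw [ha, hb]; group

theorem kk_of_comm {a b : G} (e : b * a = a * b) : kk a b = 1 := by
  unfold kk
  rw [mul_assoc, ← e]
  group

section rel

open Cfsg.Agent.Hex.Defs

variable {F K : Type*} [Field F] [Field K] [Algebra F K] {φ : K ≃ₐ[F] K} (hφ : CubicPair φ) [Finite K]
  {x : ZMod 12 → K → G} (g : Gr (φ : K ≃+* K) x t V) {z : ZMod 12 → K → G} (L : Lab (φ : K ≃+* K) x t V z)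
  {β : F} {c : K}

/-- the relations over the quadratic ring -/
def QR (hφ : CubicPair φ) (g : Gr (φ : K ≃+* K) x t V) (L : Lab (φ : K ≃+* K) x t V z) (β : F) (c : K) : Prop :=
  QRel (OfPair.cubic hφ) β (fun m => (pos hφ g L).y1 (lab (algebraMap F K β) c m))
    (fun m => (pos hφ g L).y2 (lab β 0 m)) (fun m => (pos hφ g L).y3 (lab (algebraMap F K β) c m))
    (fun m => (pos hφ g L).y4 (lab β 0 m)) (fun m => (pos hφ g L).y5 (lab (algebraMap F K β) c m))
    (fun m => (pos hφ g L).y6 (lab β 0 m))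

theorem f1 (c0 : F) (a : K) : (pos hφ g L).y1 (lab (algebraMap F K β) c (psi β c0 a)) =
    fam x z (algebraMap F K c0) c 1 a := by
  change Y x z 1 (algebraMap F K c0 * a + c * a) a = Y x z 1 ((algebraMap F K c0 + c) * a) a
  rw [add_mul]

theorem f3 (c0 : F) (a : K) : (pos hφ g L).y3 (lab (algebraMap F K β) c (psi β c0 a)) =
    fam x z (algebraMap F K c0) c 3 a := by
  change Y x z 3 (algebraMap F K c0 * a + c * a) a = Y x z 3 ((algebraMap F K c0 + c) * a) a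
  rw [add_mul]

theorem f5 (c0 : F) (a : K) : (pos hφ g L).y5 (lab (algebraMap F K β) c (psi β c0 a)) =
    fam x z (algebraMap F K c0) c 5 a := by
  change Y x z 5 (algebraMap F K c0 * a + c * a) a = Y x z 5 ((algebraMap F K c0 + c) * a) a
  rw [add_mul]

theorem f2 (c : K) (c0 a : F) : (pos hφ g L).y2 (lab β 0 (psiF β c0 a)) =
    fam x z (algebraMap F K c0) c 2 (algebraMap F K a) := by
  change Y x z 2 (algebraMap F K (c0 * a + 0 * a)) (algebraMap F K a) =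
    Y x z 2 (algebraMap F K c0 * algebraMap F K a) (algebraMap F K a)
  rw [zero_mul, add_zero, _root_.map_mul]

theorem f4 (c : K) (c0 a : F) : (pos hφ g L).y4 (lab β 0 (psiF β c0 a)) =
    fam x z (algebraMap F K c0) c 4 (algebraMap F K a) := by
  change Y x z 4 (algebraMap F K (c0 * a + 0 * a)) (algebraMap F K a) =
    Y x z 4 (algebraMap F K c0 * algebraMap F K a) (algebraMap F K a)
  rw [zero_mul, add_zero, _root_.map_mul]

theorem f6 (c : K) (c0 a : F) : (pos hφ g L).y6 (lab β 0 (psiF β c0 a)) =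
    fam x z (algebraMap F K c0) c 6 (algebraMap F K a) := by
  change Y x z 6 (algebraMap F K (c0 * a + 0 * a)) (algebraMap F K a) =
    Y x z 6 (algebraMap F K c0 * algebraMap F K a) (algebraMap F K a)
  rw [zero_mul, add_zero, _root_.map_mul]

theorem cr_coe (a b : K) : (OfPair.cubic hφ).cr a b = crs (φ : K ≃+* K) a b := OfPair.cubic_cr hφ a b

variable {hφ g L} (hQ : QR hφ g L β c) {c0 : F} (hc : c0 * c0 + c0 = β)

include hQ hc

/-- **The positive relations of a family.** -/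
theorem fam_rel : HexRel (φ : K ≃+* K) (fam x z (algebraMap F K c0) c 1) (fam x z (algebraMap F K c0) c 2)
    (fam x z (algebraMap F K c0) c 3) (fam x z (algebraMap F K c0) c 4) (fam x z (algebraMap F K c0) c 5)
    (fam x z (algebraMap F K c0) c 6) := by
  have h0 : (φ : K ≃+* K) (algebraMap F K c0) = algebraMap F K c0 := φ.commutes c0
  have q1 := fun (k : ZMod 12) {a : K} (ha : Ok (φ : K ≃+* K) k a) => fam_sq g L h0 c ha
  have o1 := fun a : K => ok1 (σ := (φ : K ≃+* K)) a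
  have o3 := fun a : K => ok3 (σ := (φ : K ≃+* K)) a
  have o5 := fun a : K => ok5 (σ := (φ : K ≃+* K)) a
  have oF := fun (k : ZMod 12) {a : K} (ha : (φ : K ≃+* K) a = a) => ok_of_fix (σ := (φ : K ≃+* K)) k ha
  have neg : ∀ a : K, -a = a := g.hex.neg_eq
  refine ⟨g.hex.cube, fun a b => fam_add g L h0 c (o1 a) (o1 b),
    fun a b ha hb => fam_add g L h0 c (oF 2 ha) (oF 2 hb), fun a b => fam_add g L h0 c (o3 a) (o3 b),
    fun a b ha hb => fam_add g L h0 c (oF 4 ha) (oF 4 hb), fun a b => fam_add g L h0 c (o5 a) (o5 b),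
    fun a b ha hb => fam_add g L h0 c (oF 6 ha) (oF 6 hb), ?_, ?_, ?_, ?_, ?_, ?_, ?_, ?_, ?_, ?_, ?_, ?_, ?_,
    ?_, ?_⟩
  · intro a u hu
    exact kk_of_comm (g.c1 1 _ (fam_mem g L h0 c (o1 a)) _ (fam_mem g L h0 c (oF 2 hu))).symm
  · intro a b
    have e := hQ.r31 (psi β c0 b) (psi β c0 a)
    simp only [T_psi _ hc, f1, f2 hφ g L c, f3, algebraMap_tr'] at e
    exact kk_of_swap (q1 1 (o1 a)) (q1 3 (o3 b)) e
  · intro a u hu
    exact kk_of_comm (g.c3 1 _ (fam_mem g L h0 c (o1 a)) _ (fam_mem g L h0 c (oF 4 hu))).symm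
  · intro a b
    have e := hQ.r51 (psi β c0 b) (psi β c0 a)
    simp only [sh_psi hc, cr_psi _ hc, T_psi _ hc, f1, f2 hφ g L c, f3, f4 hφ g L c, f5, algebraMap_tr', cr_coe] at e
    rw [neg]
    refine kk_of_swap (q1 1 (o1 a)) (q1 5 (o5 b)) ?_
    refine e.trans ?_
    simp only [mul_assoc]
    rfl
  · intro a u hu
    obtain ⟨u, rfl⟩ := exists_F hφ hu
    have e := hQ.r61 (psiF β c0 u) (psi β c0 a)
    simp only [pow_two, mul_assoc, sh_psi hc, N_psi _ hc, incl_psiF, psiF_mul (OfPair.cubic hφ) hc,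
      psi_mul (OfPair.cubic hφ) hc, f1, f2 hφ g L c, f3, f4 hφ g L c, f5, f6 hφ g L c, algebraMap_nm',
      _root_.map_mul] at e
    simp only [neg]
    refine kk_of_swap (q1 1 (o1 a)) (q1 6 (oF 6 hu)) ?_
    refine e.trans ?_
    simp only [mul_assoc, pow_two]
    rfl
  · intro u a hu
    exact kk_of_comm (g.c1 2 _ (fam_mem g L h0 c (oF 2 hu)) _ (fam_mem g L h0 c (o3 a))).symm
  · intro u v hu hv
    exact kk_of_comm (g.l2 2 (by decide) _ (fam_mem g L h0 c (oF 2 hu)) _ (fam_mem g L h0 c (oF 4 hv))).symm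
  · intro u a hu
    exact kk_of_comm (g.c3 2 _ (fam_mem g L h0 c (oF 2 hu)) _ (fam_mem g L h0 c (o5 a))).symm
  · intro u v hu hv
    obtain ⟨u, rfl⟩ := exists_F hφ hu
    obtain ⟨v, rfl⟩ := exists_F hφ hv
    have e := hQ.r62 (psiF β c0 v) (psiF β c0 u)
    simp only [psiF_mul (OfPair.cubic hφ) hc, f2 hφ g L c, f4 hφ g L c, f6 hφ g L c, _root_.map_mul] at e
    refine kk_of_swap (q1 2 (oF 2 hu)) (q1 6 (oF 6 hv)) ?_
    rw [mul_comm (algebraMap F K u)]
    exact e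
  · intro a u hu
    exact kk_of_comm (g.c1 3 _ (fam_mem g L h0 c (o3 a)) _ (fam_mem g L h0 c (oF 4 hu))).symm
  · intro a b
    have e := hQ.r53 (psi β c0 b) (psi β c0 a)
    simp only [T_psi _ hc, f3, f4 hφ g L c, f5, algebraMap_tr'] at e
    exact kk_of_swap (q1 3 (o3 a)) (q1 5 (o5 b)) e
  · intro a u hu
    exact kk_of_comm (g.c3 3 _ (fam_mem g L h0 c (o3 a)) _ (fam_mem g L h0 c (oF 6 hu))).symm
  · intro u a hu
    exact kk_of_comm (g.c1 4 _ (fam_mem g L h0 c (oF 4 hu)) _ (fam_mem g L h0 c (o5 a))).symm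
  · intro u v hu hv
    exact kk_of_comm (g.l2 4 (by decide) _ (fam_mem g L h0 c (oF 4 hu)) _ (fam_mem g L h0 c (oF 6 hv))).symm
  · intro a u hu
    exact kk_of_comm (g.c1 5 _ (fam_mem g L h0 c (o5 a)) _ (fam_mem g L h0 c (oF 6 hu))).symm

end rel

end Cfsg.Agent.HexEight.SplitA
end

private theorem dce_7cf928ad0c09 : _root_.True := by
  try have : _root_.True := by simp only [_root_.Cfsg.Agent.HexEight.Alg.psiF.eq_1]
  try have : _root_.True := by simp only [_root_.Cfsg.Agent.HexRing.Def.crQ.eq_1]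
  try have : _root_.True := by simp only [_root_.Cfsg.Agent.HexEight.ToPos.rt.congr_simp]
  try have : _root_.True := by simp only [_root_.Cfsg.Agent.HexRing.Def.shQ.eq_1]
  try have : _root_.True := by simp only [_root_.Cfsg.Agent.HexEight.ToPos.pos.congr_simp]
  try have : _root_.True := by simp only [_root_.Cfsg.Agent.HexEight.Alg.psi.eq_1]
  try have : _root_.True := by simp only [_root_.Cfsg.Agent.HexRing.Grp2.tt.eq_1]
  exact _root_.True.intro
end

-- part: WreathFusion/HexEnd_mg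
section
prune_inst 0x10182200000000000400000000080000900000000000a005020040000000000000180005000002080000080000001000000040000004000400000000000080100000000000000090000080000000000000000000000000000000000000000000000
set_option linter.all false
open scoped Cfsg.Agent.FastGrp

-- part: WreathFusion/HexCanon
section
/-!
# The doubled root groups are canonical

An element `y` of `C(t)` normalising all root groups `X r` and the torus normalises the doubled root groups `V r`.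
-/

set_option autoImplicit false

namespace Cfsg.Agent.WreathFusion.HexCanon

open Cfsg.Agent.HexGrow.Defs
open scoped commutatorElement

variable {G : Type*} [Group G] {t : G} {T : Subgroup G} {X : ZMod 12 → Subgroup G} {n : ZMod 12 → G}
  {V : ZMod 12 → Subgroup G}

theorem comm_of_sq {A : Subgroup G} (h : ∀ a ∈ A, a * a = 1) {a b : G} (ha : a ∈ A) (hb : b ∈ A) : a * b = b * a := by
  have hinv : ∀ y ∈ A, y⁻¹ = y := fun y hy => inv_eq_of_mul_eq_one_right (h y hy)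
  have h1 := hinv _ (mul_mem ha hb)
  rw [mul_inv_rev, hinv a ha, hinv b hb] at h1
  exact h1.symm

/-- conjugation transports commuting -/
theorem comm_conj {y a b : G} (h : a * (y⁻¹ * b * y) = (y⁻¹ * b * y) * a) : y * a * y⁻¹ * b = b * (y * a * y⁻¹) := by
  calc y * a * y⁻¹ * b = y * (a * (y⁻¹ * b * y)) * y⁻¹ := by group
    _ = y * ((y⁻¹ * b * y) * a) * y⁻¹ := by rw [h]
    _ = _ := by group

/-- common part: `w = y v y⁻¹`, `v' ∈ V r` with the same displacement -/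
theorem aux (W : Grown t T X n V) {y : G} (tt : t * t = 1) (hyt : y * t = t * y)
    (hyX : ∀ r, ∀ a ∈ X r, y * a * y⁻¹ ∈ X r) (r : ZMod 12) {v : G} (hv : v ∈ V r)
    (hc : ∀ v' ∈ V r, (v'⁻¹ * (y * v * y⁻¹)) * t = t * (v'⁻¹ * (y * v * y⁻¹)) →
      v'⁻¹ * (y * v * y⁻¹) ∈ X r ∨ t * (v'⁻¹ * (y * v * y⁻¹)) ∈ X r) : y * v * y⁻¹ ∈ V r := by
  have hti : t⁻¹ = t := inv_eq_of_mul_eq_one_right tt
  set w := y * v * y⁻¹ with hw
  have hbr : ⁅t, w⁆ = y * ⁅t, v⁆ * y⁻¹ := by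
    rw [commutatorElement_def, commutatorElement_def, hw]
    have e1 : y⁻¹ * t⁻¹ = t⁻¹ * y⁻¹ := by rw [← mul_inv_rev, ← mul_inv_rev, hyt]
    have e2 : y⁻¹ * t = t * y⁻¹ := by rw [hti] at e1; exact e1
    calc t * (y * v * y⁻¹) * t⁻¹ * (y * v * y⁻¹)⁻¹ = (t * y) * v * (y⁻¹ * t⁻¹) * y * v⁻¹ * y⁻¹ := by group
      _ = (y * t) * v * (t⁻¹ * y⁻¹) * y * v⁻¹ * y⁻¹ := by rw [hyt, e1]
      _ = _ := by group
  have hw2 : w * w = 1 := by
    calc w * w = y * (v * v) * y⁻¹ := by rw [hw]; group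
      _ = 1 := by rw [W.sq r v hv]; group
  obtain ⟨v', hv', hv'w⟩ := W.onto r _ (hyX r _ (W.br r v hv))
  rw [← hbr] at hv'w
  have hct : (v'⁻¹ * w) * t = t * (v'⁻¹ * w) := by
    have h1 : t * v' * t⁻¹ * v'⁻¹ = t * w * t⁻¹ * w⁻¹ := by
      rw [← commutatorElement_def, ← commutatorElement_def]; exact hv'w
    have h2 : t * (v'⁻¹ * w) * t⁻¹ = v'⁻¹ * w := by
      calc t * (v'⁻¹ * w) * t⁻¹ = (t * v' * t⁻¹ * v'⁻¹ * v')⁻¹ * (t * w * t⁻¹ * w⁻¹ * w) := by group
        _ = (t * w * t⁻¹ * w⁻¹ * v')⁻¹ * (t * w * t⁻¹ * w⁻¹ * w) := by rw [h1]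
        _ = _ := by group
    calc (v'⁻¹ * w) * t = t * (v'⁻¹ * w) * t⁻¹ * t := by rw [h2]
      _ = _ := by group
  rcases hc v' hv' hct with h1 | h1
  · have h2 : w = v' * (v'⁻¹ * w) := by group
    rw [h2]
    exact mul_mem hv' (W.le r h1)
  · -- `w = v' t a`
    set a := t * (v'⁻¹ * w) with ha
    have hwa : w = v' * t * a := by
      rw [ha]
      calc w = v' * (v'⁻¹ * w) := by group
        _ = v' * (t * t) * (v'⁻¹ * w) := by rw [tt]; group
        _ = _ := by group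
    have hat : a * t = t * a := by
      calc a * t = t * ((v'⁻¹ * w) * t) := by rw [ha]; group
        _ = t * (t * (v'⁻¹ * w)) := by rw [hct]
        _ = _ := by rw [ha]
    have hav : a * v' = v' * a := comm_of_sq (W.sq r) (W.le r h1) hv'
    have haa : a * a = 1 := W.sq r a (W.le r h1)
    have hvt : v' * t = t * v' := by
      have h3 : v' * t * v' * t = 1 := by
        calc v' * t * v' * t = v' * t * (v' * (a * a)) * t := by rw [haa]; group
          _ = v' * t * (a * v') * a * t := by rw [hav]; group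
          _ = (v' * t * a) * v' * (a * t) := by group
          _ = (v' * t * a) * (v' * t * a) := by rw [hat]; group
          _ = 1 := by rw [← hwa, hw2]
      have hv2 := W.sq r v' hv'
      calc v' * t = v' * t * (v' * v') * (t * t) := by rw [hv2, tt]; group
        _ = v' * t * v' * (v' * t) * t := by group
        _ = v' * t * v' * t * (t * (v' * t)) * t := by
            rw [show v' * t * v' * t * (t * (v' * t)) * t = v' * t * v' * (t * t) * (v' * t) * t by group, tt]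
            group
        _ = t * v' * (t * t) := by rw [h3]; group
        _ = t * v' := by rw [tt, mul_one]
    -- so `w`, hence `v`, commutes with `t`
    have hv'X : v' ∈ X r := W.fix r v' hv' hvt
    have h4 : ⁅t, w⁆ = 1 := by
      rw [← hv'w, commutatorElement_eq_one_iff_mul_comm, hvt]
    have h5 : ⁅t, v⁆ = 1 := by
      have : ⁅t, v⁆ = y⁻¹ * ⁅t, w⁆ * y := by rw [hbr]; group
      rw [this, h4]; group
    have h6 : v * t = t * v := (commutatorElement_eq_one_iff_mul_comm.1 h5).symm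
    exact W.le r (hyX r v (W.fix r v hv h6))

/-- **The doubled root groups are canonical.** -/
theorem conj_V (E : Env t T X n) (W : Grown t T X n V) {y : G} (hyt : y * t = t * y)
    (hyX : ∀ r, ∀ a ∈ X r, y * a * y⁻¹ ∈ X r) (hyX' : ∀ r, ∀ a ∈ X r, y⁻¹ * a * y ∈ X r)
    (hyT : ∀ h ∈ T, y⁻¹ * h * y ∈ T) (r : ZMod 12) {v : G} (hv : v ∈ V r) : y * v * y⁻¹ ∈ V r := by
  have hcc : ∀ {s : ZMod 12}, (∀ a ∈ V r, ∀ b ∈ V s, a * b = b * a) → ∀ v' ∈ V r, ∀ b ∈ X s,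
      (v'⁻¹ * (y * v * y⁻¹)) * b = b * (v'⁻¹ * (y * v * y⁻¹)) := by
    intro s hs v' hv' b hb
    have h1 : v'⁻¹ * b = b * v'⁻¹ := hs _ (inv_mem hv') b (W.le s hb)
    have h2 : y * v * y⁻¹ * b = b * (y * v * y⁻¹) := comm_conj (hs v hv _ (W.le s (hyX' s b hb)))
    calc (v'⁻¹ * (y * v * y⁻¹)) * b = v'⁻¹ * (y * v * y⁻¹ * b) := by group
      _ = v'⁻¹ * (b * (y * v * y⁻¹)) := by rw [h2]
      _ = v'⁻¹ * b * (y * v * y⁻¹) := by group
      _ = b * v'⁻¹ * (y * v * y⁻¹) := by rw [h1]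
      _ = _ := by group
  have k0 : ∀ a ∈ V r, ∀ b ∈ V r, a * b = b * a := fun a ha b hb => comm_of_sq (W.sq r) ha hb
  have k1 : ∀ a ∈ V r, ∀ b ∈ V (r + 1), a * b = b * a := W.c1 r
  have k1' : ∀ a ∈ V r, ∀ b ∈ V (r - 1), a * b = b * a := fun a ha b hb => by
    have := W.c1 (r - 1) b hb a (by rw [sub_add_cancel]; exact ha)
    exact this.symm
  refine aux W E.tt hyt hyX r hv fun v' hv' hct => ?_
  by_cases hr : Ev r
  · have k2 : ∀ a ∈ V r, ∀ b ∈ V (r + 2), a * b = b * a := W.l2 r hr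
    have k2' : ∀ a ∈ V r, ∀ b ∈ V (r - 2), a * b = b * a := fun a ha b hb => by
      have hr2 : Ev (r - 2) := by
        have : ∀ r : ZMod 12, Ev r → Ev (r - 2) := by decide
        exact this r hr
      have := W.l2 (r - 2) hr2 b hb a (by rw [sub_add_cancel]; exact ha)
      exact this.symm
    apply E.cQ1' r hr _ hct
    -- commutes with `QQ X r`
    have hle : QQ X r ≤ Subgroup.centralizer ({v'⁻¹ * (y * v * y⁻¹)} : Set G) := by
      refine sup_le (sup_le (sup_le (sup_le ?_ ?_) ?_) ?_) ?_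
      · exact fun b hb => Subgroup.mem_centralizer_singleton_iff.2 (hcc k2' v' hv' b hb).symm
      · exact fun b hb => Subgroup.mem_centralizer_singleton_iff.2 (hcc k1' v' hv' b hb).symm
      · exact fun b hb => Subgroup.mem_centralizer_singleton_iff.2 (hcc k0 v' hv' b hb).symm
      · exact fun b hb => Subgroup.mem_centralizer_singleton_iff.2 (hcc k1 v' hv' b hb).symm
      · exact fun b hb => Subgroup.mem_centralizer_singleton_iff.2 (hcc k2 v' hv' b hb).symm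
    intro a ha
    exact (Subgroup.mem_centralizer_singleton_iff.1 (hle ha)).symm
  · obtain ⟨h, hT, hcen, -, hq, -, -⟩ := E.tod r hr
    have hh1 : h * (v'⁻¹ * (y * v * y⁻¹)) * h⁻¹ = v'⁻¹ * (y * v * y⁻¹) := by
      have e1 : h * v' * h⁻¹ = v' := W.cen h hT r hcen v' hv'
      have hcen' : Cen (y⁻¹ * h * y) (X r) := by
        intro a ha
        have e2 := hcen _ (hyX r a ha)
        calc y⁻¹ * h * y * a * (y⁻¹ * h * y)⁻¹ = y⁻¹ * (h * (y * a * y⁻¹) * h⁻¹) * y := by group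
          _ = y⁻¹ * (y * a * y⁻¹) * y := by rw [e2]
          _ = a := by group
      have e3 := W.cen _ (hyT h hT) r hcen' v hv
      have e4 : h * (y * v * y⁻¹) * h⁻¹ = y * v * y⁻¹ := by
        calc h * (y * v * y⁻¹) * h⁻¹ = y * ((y⁻¹ * h * y) * v * (y⁻¹ * h * y)⁻¹) * y⁻¹ := by group
          _ = _ := by rw [e3]
      calc h * (v'⁻¹ * (y * v * y⁻¹)) * h⁻¹ = (h * v' * h⁻¹)⁻¹ * (h * (y * v * y⁻¹) * h⁻¹) := by group
        _ = _ := by rw [e1, e4]
    have hcW := E.cW r hr _ hct (fun a ha => hcc k1' v' hv' a ha) (fun a ha => hcc k1 v' hv' a ha) (fun a ha => by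
      have : ⁅v'⁻¹ * (y * v * y⁻¹), a⁆ = 1 := by
        rw [commutatorElement_eq_one_iff_mul_comm]
        exact hcc k0 v' hv' a ha
      rw [this]
      exact one_mem _)
    rcases hcW with h1 | h1
    · exact Or.inl (hq _ h1 hh1)
    · right
      refine hq _ h1 ?_
      have ht := E.tT h hT
      calc h * (t * (v'⁻¹ * (y * v * y⁻¹))) * h⁻¹ = (h * t) * (v'⁻¹ * (y * v * y⁻¹)) * h⁻¹ := by group
        _ = t * (h * (v'⁻¹ * (y * v * y⁻¹)) * h⁻¹) := by rw [ht]; group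
        _ = _ := by rw [hh1]

end Cfsg.Agent.WreathFusion.HexCanon
end

-- part: WreathFusion/HexEnd
section
/-!
# The grown hexagonal 2-group satisfies the hypotheses of `Closing.End`

All `q` (including `³D₄(2)`).
-/

set_option autoImplicit false

namespace Cfsg.Agent.WreathFusion.HexEnd

open Subgroup Cfsg.Agent.HexGrow.Defs Cfsg.Agent.StdRank2.Hex
open scoped commutatorElement

section Grown

variable {Γ : Type*} [Group Γ] {t : Γ} {H : Subgroup Γ} {X : ZMod 12 → Subgroup Γ} {n : ZMod 12 → Γ}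
  {V : ZMod 12 → Subgroup Γ}

theorem UU_mono (W : Grown t H X n V) (r : ZMod 12) : UU X r ≤ UU V r :=
  sup_le_sup (sup_le_sup (sup_le_sup (sup_le_sup (sup_le_sup (W.le _) (W.le _)) (W.le _)) (W.le _)) (W.le _)) (W.le _)

theorem le_UU1 (Y : ZMod 12 → Subgroup Γ) (r : ZMod 12) (hr : r = 1 ∨ r = 2 ∨ r = 3 ∨ r = 4 ∨ r = 5 ∨ r = 6) :
    Y r ≤ UU Y 1 := by
  rcases hr with rfl | rfl | rfl | rfl | rfl | rfl
  · exact le_sup_left.trans (le_sup_left.trans (le_sup_left.trans (le_sup_left.trans le_sup_left)))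
  · exact (show Y 2 ≤ Y 1 ⊔ Y (1 + 1) from le_sup_right).trans
      (le_sup_left.trans (le_sup_left.trans (le_sup_left.trans le_sup_left)))
  · exact (show Y 3 ≤ Y 1 ⊔ Y (1 + 1) ⊔ Y (1 + 2) from le_sup_right).trans
      (le_sup_left.trans (le_sup_left.trans le_sup_left))
  · exact (show Y 4 ≤ Y 1 ⊔ Y (1 + 1) ⊔ Y (1 + 2) ⊔ Y (1 + 3) from le_sup_right).trans
      (le_sup_left.trans le_sup_left)
  · exact (show Y 5 ≤ Y 1 ⊔ Y (1 + 1) ⊔ Y (1 + 2) ⊔ Y (1 + 3) ⊔ Y (1 + 4) from le_sup_right).trans le_sup_left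
  · exact (show Y 6 ≤ UU Y 1 from le_sup_right)

theorem UU1_le {Y : ZMod 12 → Subgroup Γ} {Z : Subgroup Γ}
    (h : ∀ r : ZMod 12, (r = 1 ∨ r = 2 ∨ r = 3 ∨ r = 4 ∨ r = 5 ∨ r = 6) → Y r ≤ Z) : UU Y 1 ≤ Z := by
  refine sup_le (sup_le (sup_le (sup_le (sup_le (h 1 (by simp only [_root_.true_or])) ?_) ?_) ?_) ?_) ?_
  · exact h (1 + 1) (Or.inr (Or.inl rfl))
  · exact h (1 + 2) (Or.inr (Or.inr (Or.inl rfl)))
  · exact h (1 + 3) (Or.inr (Or.inr (Or.inr (Or.inl rfl))))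
  · exact h (1 + 4) (Or.inr (Or.inr (Or.inr (Or.inr (Or.inl rfl)))))
  · exact h (1 + 5) (Or.inr (Or.inr (Or.inr (Or.inr (Or.inr rfl)))))

theorem twoV [Finite Γ] (W : Grown t H X n V) (r : ZMod 12) : ∃ k, Nat.card (V r) = 2 ^ k := by
  have : Fact (Nat.Prime 2) := ⟨Nat.prime_two⟩
  have h1 : IsPGroup 2 (V r) := by
    rintro ⟨y, hy⟩
    exact ⟨1, Subtype.ext (by
      show y ^ 2 ^ 1 = 1
      rw [pow_one, pow_two]
      exact W.sq r y hy)⟩
  exact IsPGroup.iff_card.1 h1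

theorem twoUU [Finite Γ] (W : Grown t H X n V) : IsPGroup 2 (UU V 1) := by
  have hm : ∀ (p : V 1 × V (1 + 1) × V (1 + 2) × V (1 + 3) × V (1 + 4) × V (1 + 5)),
      (p.1 : Γ) * p.2.1 * p.2.2.1 * p.2.2.2.1 * p.2.2.2.2.1 * p.2.2.2.2.2 ∈ UU V 1 := by
    rintro ⟨a, b, c, d, e, f⟩
    exact mul_mem (mul_mem (mul_mem (mul_mem (mul_mem (le_UU1 V 1 (by simp only [_root_.true_or]) a.2) (le_UU1 V 2 (by simp only [_root_.true_or, _root_.or_true]) b.2))
      (le_UU1 V 3 (by simp) c.2)) (le_UU1 V 4 (by simp) d.2)) (le_UU1 V 5 (by simp) e.2)) (le_UU1 V 6 (by simp) f.2)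
  let F : V 1 × V (1 + 1) × V (1 + 2) × V (1 + 3) × V (1 + 4) × V (1 + 5) → UU V 1 := fun p => ⟨_, hm p⟩
  have hF : Function.Bijective F := by
    constructor
    · rintro ⟨a, b, c, d, e, f⟩ ⟨a', b', c', d', e', f'⟩ h
      have h1 := congrArg Subtype.val h
      obtain ⟨q1, q2, q3, q4, q5, q6⟩ := W.nf 1 a a.2 b b.2 c c.2 d d.2 e e.2 f f.2 a' a'.2 b' b'.2 c' c'.2 d' d'.2
        e' e'.2 f' f'.2 h1
      rw [Subtype.ext q1, Subtype.ext q2, Subtype.ext q3, Subtype.ext q4, Subtype.ext q5, Subtype.ext q6]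
    · rintro ⟨g, hg⟩
      obtain ⟨a, ha, b, hb, c, hc, d, hd, e, he, f, hf, rfl⟩ := W.mem 1 g hg
      exact ⟨⟨⟨a, ha⟩, ⟨b, hb⟩, ⟨c, hc⟩, ⟨d, hd⟩, ⟨e, he⟩, ⟨f, hf⟩⟩, rfl⟩
  obtain ⟨k1, e1⟩ := twoV W 1
  obtain ⟨k2, e2⟩ := twoV W (1 + 1)
  obtain ⟨k3, e3⟩ := twoV W (1 + 2)
  obtain ⟨k4, e4⟩ := twoV W (1 + 3)
  obtain ⟨k5, e5⟩ := twoV W (1 + 4)
  obtain ⟨k6, e6⟩ := twoV W (1 + 5)
  apply IsPGroup.of_card (n := k1 + k2 + k3 + k4 + k5 + k6)
  rw [← Nat.card_congr (Equiv.ofBijective F hF), Nat.card_prod, Nat.card_prod, Nat.card_prod, Nat.card_prod,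
    Nat.card_prod, e1, e2, e3, e4, e5, e6]
  simp only [pow_add, mul_assoc]

/-- `V 4` is central in the grown group. -/
theorem V4_comm (W : Grown t H X n V) {v s : Γ} (hv : v ∈ V 4) (hs : s ∈ UU V 1) : v * s = s * v := by
  have hle : UU V 1 ≤ centralizer ({v} : Set Γ) := by
    apply UU1_le
    intro r hr s hs
    rw [mem_centralizer_singleton_iff]
    rcases hr with rfl | rfl | rfl | rfl | rfl | rfl
    · exact W.c3 1 s hs v hv
    · exact W.l2 2 (by decide) s hs v hv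
    · exact W.c1 3 s hs v hv
    · exact HexCanon.comm_of_sq (W.sq 4) hs hv
    · exact (W.c1 4 v hv s hs).symm
    · exact (W.l2 4 (by decide) v hv s hs).symm
  exact (mem_centralizer_singleton_iff.1 (hle hs)).symm

end Grown

section Main

variable {E : Type*} [Field E] {σ : E ≃+* E} {Γ : Type*} [Group Γ] {x : ZMod 12 → E → Γ} (h : HexTwo σ x)
  {t : Γ} {H : Subgroup Γ} {X : ZMod 12 → Subgroup Γ} {n : ZMod 12 → Γ} {V : ZMod 12 → Subgroup Γ}
  (W : Grown t H X n V) (hX : ∀ r g, g ∈ X r ↔ ∃ a, Ok σ r a ∧ g = x r a)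

include h W hX

theorem V4_le (htx : ∀ a ∈ X 2, a * t = t * a) : V 4 ≤ ⁅UU X 1, UU V 1⁆ := by
  have ht2 : x 2 1 ∈ X 2 := (hX 2 _).2 ⟨1, ok_one σ 2, rfl⟩
  have hc2 : x 2 1 ∈ UU X 1 := le_UU1 X 2 (by simp only [_root_.true_or, _root_.or_true]) ht2
  have hx2t := htx _ ht2
  intro v hv
  obtain ⟨u, hu, hvu⟩ := (hX 4 _).1 (W.br 4 v hv)
  have hu' : σ u = u := hu (by decide)
  obtain ⟨y, hy, hyu⟩ := W.onto 6 (x 6 u) ((hX 6 _).2 ⟨u, ok_of_fix 6 hu', rfl⟩)
  have hx6 : x 6 u ∈ V 6 := W.le 6 ((hX 6 _).2 ⟨u, ok_of_fix 6 hu', rfl⟩)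
  have hd : ⁅x 2 1, y⁆ ∈ V 4 := W.l4 2 (by decide) _ (W.le 2 ht2) y hy
  have hyU : y ∈ UU V 1 := le_UU1 V 6 (by simp only [_root_.or_true]) hy
  have c26 : ⁅x 2 1, x 6 u⁆ = x 4 u := by
    have := h.commL4 (k := 2) (by decide) (t := 1) (u := u) (map_one σ) hu'
    rw [one_mul] at this
    exact this
  -- `⁅t, d⁆ = x 4 u`
  have e1 : t * ⁅x 2 1, y⁆ * t⁻¹ = x 4 u * ⁅x 2 1, y⁆ := by
    have e2 : t * x 2 1 * t⁻¹ = x 2 1 := by rw [← hx2t, mul_inv_cancel_right]
    have e3 : t * y * t⁻¹ = x 6 u * y := by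
      rw [← hyu, commutatorElement_def]; group
    have e4 : t * ⁅x 2 1, y⁆ * t⁻¹ = ⁅t * x 2 1 * t⁻¹, t * y * t⁻¹⁆ := by
      rw [commutatorElement_def, commutatorElement_def]; group
    rw [e4, e2, e3]
    have e5 : ⁅x 2 1, x 6 u * y⁆ = ⁅x 2 1, x 6 u⁆ * (x 6 u * ⁅x 2 1, y⁆ * (x 6 u)⁻¹) := by
      rw [commutatorElement_def, commutatorElement_def, commutatorElement_def]; group
    have e6 : x 6 u * ⁅x 2 1, y⁆ = ⁅x 2 1, y⁆ * x 6 u := (W.l2 4 (by decide) _ hd _ hx6).symm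
    rw [e5, c26, e6, mul_inv_cancel_right]
  have e2 : t * v * t⁻¹ = x 4 u * v := by
    rw [← hvu, commutatorElement_def]; group
  set d := ⁅x 2 1, y⁆ with hddef
  have hvd : v * d⁻¹ ∈ V 4 := mul_mem hv (inv_mem hd)
  have hx4 : x 4 u ∈ V 4 := W.le 4 ((hX 4 _).2 ⟨u, hu, rfl⟩)
  have e3 : v * d⁻¹ * t = t * (v * d⁻¹) := by
    have e4 : t * (v * d⁻¹) * t⁻¹ = v * d⁻¹ := by
      calc t * (v * d⁻¹) * t⁻¹ = (t * v * t⁻¹) * (t * d * t⁻¹)⁻¹ := by group
        _ = x 4 u * (v * d⁻¹) * (x 4 u)⁻¹ := by rw [e1, e2]; group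
        _ = v * d⁻¹ := by rw [HexCanon.comm_of_sq (W.sq 4) hx4 hvd, mul_inv_cancel_right]
    calc v * d⁻¹ * t = t * (v * d⁻¹) * t⁻¹ * t := by rw [e4]
      _ = _ := by group
  obtain ⟨s, hs, e4⟩ := (hX 4 _).1 (W.fix 4 _ hvd e3)
  have hs' : σ s = s := hs (by decide)
  have c26' : ⁅x 2 1, x 6 s⁆ = x 4 s := by
    have := h.commL4 (k := 2) (by decide) (t := 1) (u := s) (map_one σ) hs'
    rw [one_mul] at this
    exact this
  have e5 : v = ⁅x 2 1, x 6 s⁆ * d := by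
    rw [c26', ← e4]; group
  rw [e5]
  refine mul_mem (commutator_mem_commutator hc2 ?_) (commutator_mem_commutator hc2 hyU)
  exact le_UU1 V 6 (by simp only [_root_.or_true]) (W.le 6 ((hX 6 _).2 ⟨s, ok_of_fix 6 hs', rfl⟩))

/-- **The hypotheses of `Closing.End` for the grown hexagonal group.** -/
theorem end_of_grown [Finite Γ] (tt : t * t = 1) {T : Subgroup Γ} (tT : t ∈ T) (twoT : IsPGroup 2 T)
    (TC : ∀ y ∈ T, y * t = t * y)
    (syl : ∀ Q : Subgroup Γ, IsPGroup 2 Q → (∀ y ∈ Q, y * t = t * y) → T ≤ Q → Q = T)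
    (UT : UU X 1 ≤ T) (tnot : t ∉ UU X 1)
    (hfix : ∀ y ∈ T, (∀ a ∈ UU X 1, y * a = a * y) → y ∈ X 4 ∨ t * y ∈ X 4)
    (hn : ∀ y ∈ T, ∀ s ∈ UU V 1, y * s * y⁻¹ ∈ UU V 1) (hn4 : ∀ y ∈ T, ∀ s ∈ V 4, y * s * y⁻¹ ∈ V 4)
    (hinv : ∀ y ∈ T, y * y ∈ UU X 1 → y ∈ UU X 1 ∨ t * y ∈ UU X 1)
    (hab : ∀ y ∈ T, ∀ z ∈ T, ⁅y, z⁆ ∈ UU X 1) :
    Closing.End t T (UU X 1) (UU V 1) (V 4) (X 4) := by
  -- `V 4` does not centralise `t`
  have hV4 : ¬ ∀ v ∈ V 4, v * t = t * v := by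
    intro hc
    obtain ⟨v, hv, e⟩ := W.onto 4 (x 4 1) ((hX 4 _).2 ⟨1, ok_one σ 4, rfl⟩)
    have h1 : ⁅t, v⁆ = 1 := commutatorElement_eq_one_iff_mul_comm.2 (hc v hv).symm
    rw [h1] at e
    exact one_ne_zero (h.inj 4 1 (ok_one σ 4) e.symm)
  exact
  { tt := tt
    tT := tT
    twoS := twoUU W
    twoT := twoT
    TC := TC
    syl := syl
    norm := hn
    US := UU_mono W 1
    UT := UT
    cent := fun s hs hst => W.cent 1 s hs hst
    tS := fun hts => tnot (W.cent 1 t hts rfl)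
    good := fun s hs hts => W.good 1 s hs hts
    inv := hinv
    ab := hab
    VS := le_UU1 V 4 (by simp only [_root_.true_or, _root_.or_true])
    Vc := fun v hv s hs => V4_comm W hv hs
    Vn := hn4
    gen := by
      apply UU1_le
      intro r hr a ha
      obtain ⟨y, hy, e⟩ := W.onto r a ha
      exact subset_closure ⟨y, le_UU1 V r hr hy, e.symm⟩
    VU := V4_le h W hX fun a ha => TC a (UT (le_UU1 X 2 (by simp only [_root_.true_or, _root_.or_true]) ha))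
    fix := by
      intro y hy hyU hyV
      rcases hfix y hy hyU with h1 | h1
      · exact h1
      · exfalso
        apply hV4
        intro v hv
        have h2 : (t * y) * v = v * (t * y) := HexCanon.comm_of_sq (W.sq 4) (W.le 4 h1) hv
        have h3 := hyV v hv
        have h4 : t * v * y = v * t * y := by
          calc t * v * y = t * (v * y) := by group
            _ = t * (y * v) := by rw [h3]
            _ = t * y * v := by group
            _ = v * (t * y) := h2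
            _ = v * t * y := by group
        exact (mul_right_cancel h4).symm
    lt := by
      by_contra hcon
      push Not at hcon
      have h1 : X 4 = V 4 := Subgroup.eq_of_le_of_card_ge (W.le 4) hcon
      apply hV4
      intro v hv
      rw [← h1] at hv
      exact TC v (UT (le_UU1 X 4 (by simp only [_root_.true_or, _root_.or_true]) hv)) }

end Main

end Cfsg.Agent.WreathFusion.HexEnd
end

-- part: HexEight/SplitB
section
/-!
# The split case: the two families commute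
-/

set_option autoImplicit false
set_option linter.unusedSectionVars false

namespace Cfsg.Agent.HexEight.SplitB

open Cfsg.Agent.StdRank2.Hex Cfsg.Agent.SplitTwo Cfsg.Agent.StdRank2.Hex.HexTwo Cfsg.Agent.HexEight.Def
open Cfsg.Agent.HexEight.Lab Cfsg.Agent.HexEight.ToPos Cfsg.Agent.HexEight.Alg Cfsg.Agent.HexEight.SplitA
open Cfsg.Agent.HexRing.Def Cfsg.Agent.HexRec Cfsg.Agent.Hex.Defs
open scoped commutatorElement

variable {G : Type*} [Group G] {t : G} {V : ZMod 12 → Subgroup G}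
  {F K : Type*} [Field F] [Field K] [Algebra F K] {φ : K ≃ₐ[F] K} {hφ : CubicPair φ} [Finite K]
  {x : ZMod 12 → K → G} {g : Gr (φ : K ≃+* K) x t V} {z : ZMod 12 → K → G} {L : Lab (φ : K ≃+* K) x t V z}
  {β : F} {c : K}

theorem zero_of_add {A : Type*} [AddGroup A] {f : A → G} (h : ∀ a b, f (a + b) = f a * f b) : f 0 = 1 :=
  left_eq_mul.1 (by rw [← h, add_zero] : f 0 = f 0 * f 0)

/-- the two families commute at `k`, `l` -/
def Cm (φ : K ≃ₐ[F] K) (x z : ZMod 12 → K → G) (c0 : F) (c : K) (k l : ZMod 12) : Prop :=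
  ∀ a b, Ok (φ : K ≃+* K) k a → Ok (φ : K ≃+* K) l b →
    Commute (fam x z (algebraMap F K c0) c k a) (fam x z (algebraMap F K (c0 + 1)) c l b)

section

variable (hQ : QR hφ g L β c) {c0 : F} (hc : c0 * c0 + c0 = β)

include hQ

theorem zero2 : (pos hφ g L).y2 (lab β 0 0) = 1 :=
  zero_of_add (f := fun m => (pos hφ g L).y2 (lab β 0 m)) hQ.add2

theorem zero3 : (pos hφ g L).y3 (lab (algebraMap F K β) c 0) = 1 :=
  zero_of_add (f := fun m => (pos hφ g L).y3 (lab (algebraMap F K β) c m)) hQ.add3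

theorem zero4 : (pos hφ g L).y4 (lab β 0 0) = 1 :=
  zero_of_add (f := fun m => (pos hφ g L).y4 (lab β 0 m)) hQ.add4

theorem zero5 : (pos hφ g L).y5 (lab (algebraMap F K β) c 0) = 1 :=
  zero_of_add (f := fun m => (pos hφ g L).y5 (lab (algebraMap F K β) c m)) hQ.add5

include hc

theorem m13 : Cm φ x z c0 c 1 3 := by
  intro a b _ _
  have e := hQ.r31 (psi β (c0 + 1) b) (psi β c0 a)
  have z2 := zero2 hQ
  simp only [T_psi' _ hc, z2, one_mul, f1, f3] at e
  exact e.symm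

theorem m15 : Cm φ x z c0 c 1 5 := by
  intro a b _ _
  have e := hQ.r51 (psi β (c0 + 1) b) (psi β c0 a)
  have z2 := zero2 hQ
  have z3 := zero3 hQ
  have z4 := zero4 hQ
  have hc1 := hc_succ (OfPair.cubic hφ) hc
  simp only [sh_psi hc, sh_psi hc1, cr_psi' _ hc, T_psi' _ hc, z2, z3, z4, one_mul, f1, f5] at e
  exact e.symm

theorem m16 : Cm φ x z c0 c 1 6 := by
  intro a b _ hb
  obtain ⟨b, rfl⟩ := exists_F hφ (hb (by decide))
  have e := hQ.r61 (psiF β (c0 + 1) b) (psi β c0 a)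
  have z2 := zero2 hQ
  have z3 := zero3 hQ
  have z4 := zero4 hQ
  have z5 := zero5 hQ
  have hF : ∀ u v : F, psiF β (c0 + 1) u * psiF β c0 v = 0 := fun u v => by
    rw [mul_comm, psiF_mul' (OfPair.cubic hφ) hc]
  have hK : ∀ u v : K, psi β (c0 + 1) u * psi β c0 v = 0 := fun u v => by
    rw [mul_comm, psi_mul' (OfPair.cubic hφ) hc]
  simp only [pow_two, mul_assoc, sh_psi hc, N_psi _ hc, incl_psiF, hF, hK, mul_zero, z2, z3, z4, z5, one_mul, f1,
    f6 hφ g L c] at e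
  exact e.symm

theorem m26 : Cm φ x z c0 c 2 6 := by
  intro a b ha hb
  obtain ⟨a, rfl⟩ := exists_F hφ (ha (by decide))
  obtain ⟨b, rfl⟩ := exists_F hφ (hb (by decide))
  have e := hQ.r62 (psiF β (c0 + 1) b) (psiF β c0 a)
  have z4 := zero4 hQ
  have hF : ∀ u v : F, psiF β (c0 + 1) u * psiF β c0 v = 0 := fun u v => by
    rw [mul_comm, psiF_mul' (OfPair.cubic hφ) hc]
  simp only [hF, z4, one_mul, f2 hφ g L c, f6 hφ g L c] at e
  exact e.symm

theorem m35 : Cm φ x z c0 c 3 5 := by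
  intro a b _ _
  have e := hQ.r53 (psi β (c0 + 1) b) (psi β c0 a)
  have z4 := zero4 hQ
  simp only [T_psi' _ hc, z4, one_mul, f3, f5] at e
  exact e.symm

end

section

variable (g L) (hQ : QR hφ g L β c) {c0 : F} (hc : c0 * c0 + c0 = β)

include g L

theorem Cm_self (c0 : F) (k : ZMod 12) : Cm φ x z c0 c k k := fun _ _ ha hb =>
  comm_V g (fam_mem g L (φ.commutes c0) c ha) (fam_mem g L (φ.commutes (c0 + 1)) c hb)

theorem Cm_c1 (c0 : F) (k : ZMod 12) : Cm φ x z c0 c k (k + 1) := fun _ _ ha hb =>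
  g.c1 k _ (fam_mem g L (φ.commutes c0) c ha) _ (fam_mem g L (φ.commutes (c0 + 1)) c hb)

theorem Cm_c3 (c0 : F) (k : ZMod 12) : Cm φ x z c0 c k (k + 3) := fun _ _ ha hb =>
  g.c3 k _ (fam_mem g L (φ.commutes c0) c ha) _ (fam_mem g L (φ.commutes (c0 + 1)) c hb)

theorem Cm_l2 (c0 : F) (k : ZMod 12) (hk : k.val % 2 = 0) : Cm φ x z c0 c k (k + 2) := fun _ _ ha hb =>
  g.l2 k hk _ (fam_mem g L (φ.commutes c0) c ha) _ (fam_mem g L (φ.commutes (c0 + 1)) c hb)

include hQ hc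

theorem Cm_symm {k l : ZMod 12} (h : Cm φ x z (c0 + 1) c l k) : Cm φ x z c0 c k l := by
  intro a b ha hb
  have := h b a hb ha
  rw [succ_succ (OfPair.cubic hφ)] at this
  exact this.symm

theorem Cm_refl (c' : ZMod 12) {k l : ZMod 12} (h : Cm φ x z c0 c k l) :
    Cm φ x z c0 c (2 * c' + 6 - k) (2 * c' + 6 - l) := by
  intro a b ha hb
  have ha' : Ok (φ : K ≃+* K) k a := ha.congr (val_refl c' k).symm
  have hb' : Ok (φ : K ≃+* K) l b := hb.congr (val_refl c' l).symm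
  rw [← fam_refl g L (φ.commutes c0) c c' ha', ← fam_refl g L (φ.commutes (c0 + 1)) c c' hb']
  have e := (h a b ha' hb').eq
  show _ * _ = _ * _
  generalize fam x z (algebraMap F K c0) c k a = u at *
  generalize fam x z (algebraMap F K (c0 + 1)) c l b = v at *
  calc nn x c' * u * (nn x c')⁻¹ * (nn x c' * v * (nn x c')⁻¹) = nn x c' * (u * v) * (nn x c')⁻¹ := by group
    _ = _ := by rw [e]; group

theorem Cm_rot (m : ZMod 12) {k l : ZMod 12} (h : Cm φ x z c0 c k l) : Cm φ x z c0 c (k + 2 * m) (l + 2 * m) := by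
  have h1 := Cm_refl g L hQ hc m (Cm_refl g L hQ hc 0 h)
  rw [show 2 * m + 6 - (2 * 0 + 6 - k) = k + 2 * m by ring, show 2 * m + 6 - (2 * 0 + 6 - l) = l + 2 * m by ring] at h1
  exact h1

omit [Finite K] hQ hc g L in
theorem pairs : ∀ k l : ZMod 12, (1 ≤ k.val ∧ k.val ≤ 6) → (1 ≤ l.val ∧ l.val ≤ 6) → k.val < l.val →
    (k = 1 ∧ l = 3) ∨ (k = 1 ∧ l = 5) ∨ (k = 1 ∧ l = 6) ∨ (k = 2 ∧ l = 6) ∨ (k = 3 ∧ l = 5) ∨ l = k + 1 ∨ l = k + 3 ∨
      (k.val % 2 = 0 ∧ l = k + 2) := by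
  decide +kernel

theorem Cm_lt {k l : ZMod 12} (hk : 1 ≤ k.val ∧ k.val ≤ 6) (hl : 1 ≤ l.val ∧ l.val ≤ 6) (hkl : k.val < l.val) :
    Cm φ x z c0 c k l := by
  rcases pairs k l hk hl hkl with ⟨rfl, rfl⟩ | ⟨rfl, rfl⟩ | ⟨rfl, rfl⟩ | ⟨rfl, rfl⟩ | ⟨rfl, rfl⟩ | rfl | rfl | ⟨h, rfl⟩
  · exact m13 hQ hc
  · exact m15 hQ hc
  · exact m16 hQ hc
  · exact m26 hQ hc
  · exact m35 hQ hc
  · exact Cm_c1 g L c0 k
  · exact Cm_c3 g L c0 k
  · exact Cm_l2 g L c0 k h

theorem Cm_pos {k l : ZMod 12} (hk : 1 ≤ k.val ∧ k.val ≤ 6) (hl : 1 ≤ l.val ∧ l.val ≤ 6) :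
    Cm φ x z c0 c k l := by
  rcases lt_trichotomy k.val l.val with h | h | h
  · exact Cm_lt g L hQ hc hk hl h
  · have : k = l := ZMod.val_injective 12 h
    subst this
    exact Cm_self g L c0 k
  · exact Cm_symm g L hQ hc (Cm_lt g L hQ (hc_succ (OfPair.cubic hφ) hc) hl hk h)

omit [Finite K] hQ hc g L in
theorem move : ∀ k l : ZMod 12, l ≠ k + 6 →
    (∃ m : ZMod 12, (1 ≤ (2 * m + 6 - k).val ∧ (2 * m + 6 - k).val ≤ 6) ∧
      (1 ≤ (2 * m + 6 - l).val ∧ (2 * m + 6 - l).val ≤ 6)) ∨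
    ∃ m : ZMod 12, (1 ≤ (k + 2 * m).val ∧ (k + 2 * m).val ≤ 6) ∧ (1 ≤ (l + 2 * m).val ∧ (l + 2 * m).val ≤ 6) := by
  decide +kernel

theorem Cm_ne {k l : ZMod 12} (h : l ≠ k + 6) : Cm φ x z c0 c k l := by
  rcases move k l h with ⟨m, h1, h2⟩ | ⟨m, h1, h2⟩
  · have := Cm_refl g L hQ hc m (Cm_pos g L hQ hc h1 h2)
    rwa [show 2 * m + 6 - (2 * m + 6 - k) = k by ring, show 2 * m + 6 - (2 * m + 6 - l) = l by ring] at this
  · have := Cm_rot g L hQ hc (-m) (Cm_pos g L hQ hc h1 h2)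
    rwa [show k + 2 * m + 2 * -m = k by ring, show l + 2 * m + 2 * -m = l by ring] at this

/-- opposite short roots -/
theorem Cm_17 : Cm φ x z c0 c 1 7 := by
  intro a b ha _
  have hc1 := hc_succ (OfPair.cubic hφ) hc
  have h1 : (φ : K ≃+* K) (algebraMap F K (c0 + 1)) = algebraMap F K (c0 + 1) := φ.commutes _
  -- the relation `[y1, y6]` rotated by two
  have R := (fam_rel hQ hc1).c16 b 1 (map_one _)
  have rot : ∀ (k : ZMod 12) {a : K}, Ok (φ : K ≃+* K) k a →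
      rho x * fam x z (algebraMap F K (c0 + 1)) c k a * (rho x)⁻¹ = fam x z (algebraMap F K (c0 + 1)) c (k + 2) a := by
    intro k a ha
    have e : rho x * fam x z (algebraMap F K (c0 + 1)) c k a * (rho x)⁻¹ =
        nn x 1 * (nn x 6 * fam x z (algebraMap F K (c0 + 1)) c k a * (nn x 6)⁻¹) * (nn x 1)⁻¹ := by
      unfold rho
      group
    rw [e, fam_refl g L h1 c 6 ha, fam_refl g L h1 c 1 (ha.congr (val_refl 6 k))]
    congr 1
    rw [show (2 : ZMod 12) * 1 + 6 - (2 * 6 + 6 - k) = k + 2 - 12 by ring, twelve_eq, sub_zero]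
  have hn : Ok (φ : K ≃+* K) 2 (-(1 * nrm (φ : K ≃+* K) b)) := fun _ => by
    rw [map_neg, one_mul, nrm_fix g.hex.cube]
  have hn4 : Ok (φ : K ≃+* K) 4 (1 ^ 2 * nrm (φ : K ≃+* K) b) := fun _ => by
    rw [one_pow, one_mul, nrm_fix g.hex.cube]
  set f := fam x z (algebraMap F K (c0 + 1)) c with hf
  have e1 : rho x * kk (f 1 b) (f 6 1) * (rho x)⁻¹ = kk (f 3 b) (f 8 1) := by
    rw [show f 3 b = f (1 + 2) b from rfl, show f 8 1 = f (6 + 2) 1 from rfl, ← rot 1 (ok1 b), ← rot 6 (ok_one _ 6)]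
    unfold kk
    group
  have e2 : kk (f 3 b) (f 8 1) = f 4 (-(1 * nrm (φ : K ≃+* K) b)) * f 5 (1 * shp (φ : K ≃+* K) b) *
      f 6 (1 ^ 2 * nrm (φ : K ≃+* K) b) * f 7 (-(1 * b)) := by
    have r2 := rot 2 hn
    have r3 := rot 3 (ok3 (1 * shp (φ : K ≃+* K) b))
    have r4 := rot 4 hn4
    have r5 := rot 5 (ok5 (-(1 * b)))
    rw [show (2 : ZMod 12) + 2 = 4 from by decide] at r2
    rw [show (3 : ZMod 12) + 2 = 5 from by decide] at r3
    rw [show (4 : ZMod 12) + 2 = 6 from by decide] at r4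
    rw [show (5 : ZMod 12) + 2 = 7 from by decide] at r5
    rw [← e1, R, ← r2, ← r3, ← r4, ← r5]
    group
  have e3 : f 7 b = (f 4 (-(1 * nrm (φ : K ≃+* K) b)) * f 5 (1 * shp (φ : K ≃+* K) b) *
      f 6 (1 ^ 2 * nrm (φ : K ≃+* K) b))⁻¹ * kk (f 3 b) (f 8 1) := by
    rw [e2, show -(1 * b) = b by rw [one_mul]; exact g.hex.neg_eq b]
    group
  have hcm : ∀ (l : ZMod 12) (b : K), l ≠ 1 + 6 → Ok (φ : K ≃+* K) l b →
      Commute (fam x z (algebraMap F K c0) c 1 a) (f l b) := fun l b hl hb => Cm_ne g L hQ hc hl a b ha hb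
  have c3 := hcm 3 b (by decide) (ok3 b)
  have c8 := hcm 8 1 (by decide) (ok_one _ 8)
  have c4 := hcm 4 _ (by decide) (show Ok (φ : K ≃+* K) 4 (-(1 * nrm (φ : K ≃+* K) b)) from hn.congr (by decide))
  have c5 := hcm 5 _ (by decide) (ok5 (1 * shp (φ : K ≃+* K) b))
  have c6 := hcm 6 _ (by decide) (show Ok (φ : K ≃+* K) 6 (1 ^ 2 * nrm (φ : K ≃+* K) b) from hn4.congr (by decide))
  rw [e3]
  unfold kk
  exact (((c4.mul_right c5).mul_right c6).inv_right).mul_right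
    ((((c3.inv_right).mul_right c8.inv_right).mul_right c3).mul_right c8)

/-- opposite long roots -/
theorem Cm_60 : Cm φ x z c0 c 6 0 := by
  intro a b ha hb
  have hc1 := hc_succ (OfPair.cubic hφ) hc
  have h1 : (φ : K ≃+* K) (algebraMap F K (c0 + 1)) = algebraMap F K (c0 + 1) := φ.commutes _
  have hb' : (φ : K ≃+* K) b = b := hb (by decide)
  have R := (fam_rel hQ hc1).c26 b 1 hb' (map_one _)
  -- reflect by `nn 5`: `k ↦ 4 - k`: `2, 6, 4 ↦ 2, 10, 0`
  have rf : ∀ (k : ZMod 12) {a : K}, Ok (φ : K ≃+* K) k a →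
      nn x 5 * fam x z (algebraMap F K (c0 + 1)) c k a * (nn x 5)⁻¹ =
        fam x z (algebraMap F K (c0 + 1)) c (2 * 5 + 6 - k) a := fun k a ha => fam_refl g L h1 c 5 ha
  set f := fam x z (algebraMap F K (c0 + 1)) c with hf
  have e1 : nn x 5 * kk (f 2 b) (f 6 1) * (nn x 5)⁻¹ = kk (f 2 b) (f 10 1) := by
    have r2 := rf 2 (ok_of_fix (σ := (φ : K ≃+* K)) 2 hb')
    have r6 := rf 6 (ok_one (φ : K ≃+* K) 6)
    rw [show (2 : ZMod 12) * 5 + 6 - 2 = 2 from by decide] at r2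
    rw [show (2 : ZMod 12) * 5 + 6 - 6 = 10 from by decide] at r6
    nth_rewrite 2 [← r2]
    rw [← r6]
    unfold kk
    group
  have e2 : f 0 b = kk (f 2 b) (f 10 1) := by
    have r4 := rf 4 (ok_of_fix (σ := (φ : K ≃+* K)) 4 hb')
    rw [show (2 : ZMod 12) * 5 + 6 - 4 = 0 from by decide] at r4
    rw [← e1, R, mul_one, r4]
  have hcm : ∀ (l : ZMod 12) (b : K), l ≠ 6 + 6 → Ok (φ : K ≃+* K) l b →
      Commute (fam x z (algebraMap F K c0) c 6 a) (f l b) := fun l b hl hb => Cm_ne g L hQ hc hl a b ha hb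
  have c2 := hcm 2 b (by decide) (ok_of_fix _ hb')
  have c10 := hcm 10 1 (by decide) (ok_one _ 10)
  rw [e2]
  unfold kk
  exact (((c2.inv_right).mul_right c10.inv_right).mul_right c2).mul_right c10

omit [Finite K] hQ hc g L in
theorem opp_aux : ∀ k : ZMod 12, ∃ m : ZMod 12, (k = 1 + 2 * m ∧ k + 6 = 7 + 2 * m) ∨ (k = 6 + 2 * m ∧ k + 6 = 0 + 2 * m) := by
  decide +kernel

/-- **The two families commute.** -/
theorem Cm_all (k l : ZMod 12) : Cm φ x z c0 c k l := by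
  by_cases h : l = k + 6
  · subst h
    obtain ⟨m, ⟨h1, h2⟩ | ⟨h1, h2⟩⟩ := opp_aux k
    · have := Cm_rot g L hQ hc m (Cm_17 g L hQ hc)
      rwa [← h1, ← h2] at this
    · have := Cm_rot g L hQ hc m (Cm_60 g L hQ hc)
      rwa [← h1, ← h2] at this
  · exact Cm_ne g L hQ hc h

end

end Cfsg.Agent.HexEight.SplitB
end

-- part: HexEight/SplitC
section
/-!
# The split case: each family is a hexagonal root system `HexTwo`
-/

set_option autoImplicit false
set_option linter.unusedSectionVars false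

namespace Cfsg.Agent.HexEight.SplitC

open Cfsg.Agent.StdRank2.Hex Cfsg.Agent.SplitTwo Cfsg.Agent.StdRank2.Hex.HexTwo Cfsg.Agent.HexEight.Def
open Cfsg.Agent.HexEight.Lab Cfsg.Agent.HexEight.ToPos Cfsg.Agent.HexEight.Alg Cfsg.Agent.HexEight.SplitA
open Cfsg.Agent.HexEight.SplitB
open Cfsg.Agent.HexRing.Def Cfsg.Agent.HexRec Cfsg.Agent.Hex.Defs
open scoped commutatorElement

theorem comm_closure {G : Type*} [Group G] {S T : Set G} (h : ∀ a ∈ S, ∀ b ∈ T, Commute a b) {a b : G}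
    (ha : a ∈ Subgroup.closure S) (hb : b ∈ Subgroup.closure T) : Commute a b := by
  have h1 : Subgroup.closure S ≤ Subgroup.centralizer T := by
    rw [Subgroup.closure_le]
    intro a ha
    rw [SetLike.mem_coe, Subgroup.mem_centralizer_iff]
    exact fun b hb => (h a ha b hb).symm.eq
  have h2 : Subgroup.closure T ≤ Subgroup.centralizer (Subgroup.closure S : Set G) := by
    rw [Subgroup.closure_le]
    intro b hb
    rw [SetLike.mem_coe, Subgroup.mem_centralizer_iff]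
    intro a ha
    exact ((Subgroup.mem_centralizer_iff.1 (h1 ha)) b hb).symm
  exact (Subgroup.mem_centralizer_iff.1 (h2 hb)) a ha

theorem prod3 {G : Type*} [Group G] {a a' b b' : G} (h1 : Commute a' b) (h2 : Commute b' a) (h3 : Commute a' a) :
    a * a' * (b * b') * (a * a') = (a * b * a) * (a' * b' * a') := by
  calc a * a' * (b * b') * (a * a') = a * (a' * b) * (b' * a) * a' := by group
    _ = a * b * (a' * a) * b' * a' := by rw [h1.eq, h2.eq]; group
    _ = _ := by rw [h3.eq]; group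

theorem prod2 {G : Type*} [Group G] {a a' b b' : G} (h1 : Commute a' b) :
    a * a' * (b * b') = (a * b) * (a' * b') := by
  calc a * a' * (b * b') = a * (a' * b) * b' := by group
    _ = _ := by rw [h1.eq]; group

variable {G : Type*} [Group G] {t : G} {V : ZMod 12 → Subgroup G}
  {F K : Type*} [Field F] [Field K] [Algebra F K] {φ : K ≃ₐ[F] K} {hφ : CubicPair φ} [Finite K]
  {x : ZMod 12 → K → G} (g : Gr (φ : K ≃+* K) x t V) {z : ZMod 12 → K → G} (L : Lab (φ : K ≃+* K) x t V z)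
  {β : F} {c : K} (hQ : QR hφ g L β c) {c0 : F} (hc : c0 * c0 + c0 = β)

include g L hQ hc

/-- the first family -/
local notation "f₁" => fam x z (algebraMap F K c0) c
/-- the second family -/
local notation "f₂" => fam x z (algebraMap F K (c0 + 1)) c

theorem x_eq {k : ZMod 12} {a : K} (ha : Ok (φ : K ≃+* K) k a) : x k a = f₁ k a * f₂ k a := by
  rw [← fam_mul g L (φ.commutes c0) c ha, map_add, map_one]

theorem nt_eq {k : ZMod 12} {s : K} (hs : Ok (φ : K ≃+* K) k s) : nt x k s = nt f₁ k s * nt f₂ k s := by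
  have hs' : Ok (φ : K ≃+* K) (k + 6) s⁻¹ := hs.inv.congr (val_add_6 k)
  unfold nt
  rw [x_eq g L hQ hc hs, x_eq g L hQ hc hs']
  exact prod3 (Cm_all g L hQ hc _ _ _ _ hs' hs).symm (Cm_all g L hQ hc _ _ _ _ hs hs').symm
    (Cm_all g L hQ hc _ _ _ _ hs hs).symm

theorem nn_eq (k : ZMod 12) : nn x k = nn f₁ k * nn f₂ k := by
  rw [← nt_one, ← nt_one, ← nt_one]
  exact nt_eq g L hQ hc (ok_one _ k)

theorem comm_nt {k l : ZMod 12} {s a : K} (hs : Ok (φ : K ≃+* K) k s) (ha : Ok (φ : K ≃+* K) l a) :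
    Commute (nt f₂ k s) (f₁ l a) := by
  have hs' : Ok (φ : K ≃+* K) (k + 6) s⁻¹ := hs.inv.congr (val_add_6 k)
  have h1 := (Cm_all g L hQ hc l k a s ha hs).symm
  have h2 := (Cm_all g L hQ hc l (k + 6) a s⁻¹ ha hs').symm
  unfold nt
  exact (h1.mul_left h2).mul_left h1

theorem comm_nn (k : ZMod 12) {l : ZMod 12} {a : K} (ha : Ok (φ : K ≃+* K) l a) :
    Commute (nn f₂ k) (f₁ l a) := by
  rw [← nt_one]
  exact comm_nt g L hQ hc (ok_one _ k) ha

theorem comm_nt_nn {k l : ZMod 12} {s : K} (hs : Ok (φ : K ≃+* K) k s) :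
    Commute (nt f₂ k s) (nn f₁ l) := by
  unfold nn
  exact ((comm_nt g L hQ hc hs (ok_one _ l)).mul_right (comm_nt g L hQ hc hs (ok_one _ _))).mul_right
    (comm_nt g L hQ hc hs (ok_one _ l))

theorem hh_eq {k : ZMod 12} {s : K} (hs : Ok (φ : K ≃+* K) k s) : hh x k s = hh f₁ k s * hh f₂ k s := by
  unfold hh
  rw [nt_eq g L hQ hc hs, nn_eq g L hQ hc k]
  exact prod2 (comm_nt_nn g L hQ hc hs)

theorem comm_hh {k l : ZMod 12} {s a : K} (hs : Ok (φ : K ≃+* K) k s) (ha : Ok (φ : K ≃+* K) l a) :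
    Commute (hh f₂ k s) (f₁ l a) := by
  unfold hh
  exact (comm_nt g L hQ hc hs ha).mul_left (comm_nn g L hQ hc k ha)

omit g L hQ hc [Finite K] in
theorem conj_mul_comm {u v y : G} (h : Commute v y) : u * v * y * (u * v)⁻¹ = u * y * u⁻¹ := by
  calc u * v * y * (u * v)⁻¹ = u * (v * y) * v⁻¹ * u⁻¹ := by group
    _ = _ := by rw [h.eq]; group

theorem refl_fam (k : ZMod 12) {j : ZMod 12} {a : K} (ha : Ok (φ : K ≃+* K) j a) :
    nn f₁ k * f₁ j a * (nn f₁ k)⁻¹ = f₁ (2 * k + 6 - j) a := by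
  rw [← fam_refl g L (φ.commutes c0) c k ha, nn_eq g L hQ hc k, conj_mul_comm (comm_nn g L hQ hc k ha)]

/-! ### `U ∩ U⁻ = 1` -/

theorem comm_gen {S T : Set (ZMod 12)} {u v : G}
    (hu : u ∈ Subgroup.closure {y : G | ∃ k ∈ S, ∃ a, Ok (φ : K ≃+* K) k a ∧ y = f₁ k a})
    (hv : v ∈ Subgroup.closure {y : G | ∃ k ∈ T, ∃ a, Ok (φ : K ≃+* K) k a ∧ y = f₂ k a}) : Commute u v := by
  refine comm_closure ?_ hu hv
  rintro _ ⟨k, _, a, ha, rfl⟩ _ ⟨l, _, b, hb, rfl⟩
  exact Cm_all g L hQ hc k l a b ha hb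

theorem t_gen {S : Set (ZMod 12)} {u : G}
    (hu : u ∈ Subgroup.closure {y : G | ∃ k ∈ S, ∃ a, Ok (φ : K ≃+* K) k a ∧ y = f₁ k a}) :
    t * u * t⁻¹ ∈ Subgroup.closure {y : G | ∃ k ∈ S, ∃ a, Ok (φ : K ≃+* K) k a ∧ y = f₂ k a} := by
  induction hu using Subgroup.closure_induction with
  | mem y hy =>
    obtain ⟨k, hk, a, ha, rfl⟩ := hy
    refine Subgroup.subset_closure ⟨k, hk, a, ha, ?_⟩
    rw [fam_t g L (φ.commutes c0) c ha, map_add, map_one]
  | one => simp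
  | mul u v _ _ hu hv =>
    have e : t * (u * v) * t⁻¹ = (t * u * t⁻¹) * (t * v * t⁻¹) := by group
    rw [e]
    exact mul_mem hu hv
  | inv u _ hu =>
    have e : t * u⁻¹ * t⁻¹ = (t * u * t⁻¹)⁻¹ := by group
    rw [e]
    exact inv_mem hu

theorem D_mem {S : Set (ZMod 12)} {u : G}
    (hu : u ∈ Subgroup.closure {y : G | ∃ k ∈ S, ∃ a, Ok (φ : K ≃+* K) k a ∧ y = f₁ k a}) :
    u * (t * u * t⁻¹) ∈ Subgroup.closure {y : G | ∃ k ∈ S, ∃ a, Ok (φ : K ≃+* K) k a ∧ y = x k a} := by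
  induction hu using Subgroup.closure_induction with
  | mem y hy =>
    obtain ⟨k, hk, a, ha, rfl⟩ := hy
    refine Subgroup.subset_closure ⟨k, hk, a, ha, ?_⟩
    rw [fam_t g L (φ.commutes c0) c ha, fam_mul g L (φ.commutes c0) c ha]
  | one => simp only [_root_.mul_one, _root_.mul_inv_cancel, _root_.OneMemClass.one_mem]
  | mul u v hu' hv' hu hv =>
    have e : u * v * (t * (u * v) * t⁻¹) = (u * (t * u * t⁻¹)) * (v * (t * v * t⁻¹)) := by
      have h1 := (comm_gen g L hQ hc hv' (t_gen g L hQ hc hu')).eq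
      calc u * v * (t * (u * v) * t⁻¹) = u * (v * (t * u * t⁻¹)) * (t * v * t⁻¹) := by group
        _ = _ := by rw [h1]; group
    rw [e]
    exact mul_mem hu hv
  | inv u hu' hu =>
    have e : u⁻¹ * (t * u⁻¹ * t⁻¹) = (u * (t * u * t⁻¹))⁻¹ := by
      have h1 := (comm_gen g L hQ hc hu' (t_gen g L hQ hc hu')).eq
      rw [h1]
      group
    rw [e]
    exact inv_mem hu

/-- product form -/
theorem exists_prod [Finite G] {u : G}
    (hu : u ∈ Subgroup.closure {y : G | ∃ k ∈ ({1, 2, 3, 4, 5, 6} : Set (ZMod 12)), ∃ a, Ok (φ : K ≃+* K) k a ∧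
      y = f₁ k a}) : ∃ a1 a2 a3 a4 a5 a6, Ok (φ : K ≃+* K) 2 a2 ∧ Ok (φ : K ≃+* K) 4 a4 ∧ Ok (φ : K ≃+* K) 6 a6 ∧
      u = f₁ 1 a1 * (f₁ 2 a2 * (f₁ 3 a3 * (f₁ 4 a4 * (f₁ 5 a5 * f₁ 6 a6)))) := by
  have H := OfHexRel.posRel_of_hexRel hφ (fam_rel hQ hc)
  have z : ∀ k, f₁ k 0 = 1 := fun k => fam_zero g L (φ.commutes c0) c k
  have hle : Subgroup.closure {y : G | ∃ k ∈ ({1, 2, 3, 4, 5, 6} : Set (ZMod 12)), ∃ a, Ok (φ : K ≃+* K) k a ∧
      y = f₁ k a} ≤ Model.R H := by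
    rw [Subgroup.closure_le]
    rintro _ ⟨k, hk, a, ha, rfl⟩
    rcases hk with rfl | rfl | rfl | rfl | rfl | rfl
    · exact ⟨⟨a, 0, 0, 0, 0, 0⟩, by simp [OfHexRel.PosRel.pm, z]⟩
    · obtain ⟨a, rfl⟩ := exists_F hφ (ha (by decide))
      exact ⟨⟨0, a, 0, 0, 0, 0⟩, by simp [OfHexRel.PosRel.pm, z]⟩
    · exact ⟨⟨0, 0, a, 0, 0, 0⟩, by simp [OfHexRel.PosRel.pm, z]⟩
    · obtain ⟨a, rfl⟩ := exists_F hφ (ha (by decide))
      exact ⟨⟨0, 0, 0, a, 0, 0⟩, by simp [OfHexRel.PosRel.pm, z]⟩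
    · exact ⟨⟨0, 0, 0, 0, a, 0⟩, by simp [OfHexRel.PosRel.pm, z]⟩
    · obtain ⟨a, rfl⟩ := exists_F hφ (ha (by decide))
      exact ⟨⟨0, 0, 0, 0, 0, a⟩, by simp [OfHexRel.PosRel.pm, z]⟩
  obtain ⟨a, rfl⟩ := hle hu
  exact ⟨a.a1, algebraMap F K a.a2, a.a3, algebraMap F K a.a4, a.a5, algebraMap F K a.a6, okF _ _, okF _ _, okF _ _,
    rfl⟩

theorem opp_fam [Finite G] {u : G}
    (h1 : u ∈ Subgroup.closure {y : G | ∃ k ∈ ({1, 2, 3, 4, 5, 6} : Set (ZMod 12)), ∃ a, Ok (φ : K ≃+* K) k a ∧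
      y = f₁ k a})
    (h2 : u ∈ Subgroup.closure {y : G | ∃ k ∈ ({7, 8, 9, 10, 11, 0} : Set (ZMod 12)), ∃ a, Ok (φ : K ≃+* K) k a ∧
      y = f₁ k a}) : u = 1 := by
  have hD := g.hex.opp _ (D_mem g L hQ hc h1) (D_mem g L hQ hc h2)
  obtain ⟨a1, a2, a3, a4, a5, a6, o2, o4, o6, rfl⟩ := exists_prod g L hQ hc h1
  have o1 := ok1 (σ := (φ : K ≃+* K)) a1
  have o3 := ok3 (σ := (φ : K ≃+* K)) a3
  have o5 := ok5 (σ := (φ : K ≃+* K)) a5
  have ft : ∀ {k : ZMod 12} {a : K}, Ok (φ : K ≃+* K) k a → t * f₁ k a * t⁻¹ = f₂ k a := fun ha => by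
    rw [fam_t g L (φ.commutes c0) c ha, map_add, map_one]
  have e1 : t * (f₁ 1 a1 * (f₁ 2 a2 * (f₁ 3 a3 * (f₁ 4 a4 * (f₁ 5 a5 * f₁ 6 a6))))) * t⁻¹ =
      f₂ 1 a1 * (f₂ 2 a2 * (f₂ 3 a3 * (f₂ 4 a4 * (f₂ 5 a5 * f₂ 6 a6)))) := by
    rw [← ft o1, ← ft o2, ← ft o3, ← ft o4, ← ft o5, ← ft o6]
    group
  rw [e1] at hD
  have C := fun (k l : ZMod 12) {a b : K} (ha : Ok (φ : K ≃+* K) k a) (hb : Ok (φ : K ≃+* K) l b) =>
    Cm_all g L hQ hc k l a b ha hb
  have p5 : f₁ 5 a5 * f₁ 6 a6 * (f₂ 5 a5 * f₂ 6 a6) = x 5 a5 * x 6 a6 := by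
    rw [prod2 (C 6 5 o6 o5), ← x_eq g L hQ hc o5, ← x_eq g L hQ hc o6]
  have p4 : f₁ 4 a4 * (f₁ 5 a5 * f₁ 6 a6) * (f₂ 4 a4 * (f₂ 5 a5 * f₂ 6 a6)) = x 4 a4 * (x 5 a5 * x 6 a6) := by
    rw [prod2 ((C 5 4 o5 o4).mul_left (C 6 4 o6 o4)), p5, ← x_eq g L hQ hc o4]
  have p3 : f₁ 3 a3 * (f₁ 4 a4 * (f₁ 5 a5 * f₁ 6 a6)) * (f₂ 3 a3 * (f₂ 4 a4 * (f₂ 5 a5 * f₂ 6 a6))) =
      x 3 a3 * (x 4 a4 * (x 5 a5 * x 6 a6)) := by
    rw [prod2 ((C 4 3 o4 o3).mul_left ((C 5 3 o5 o3).mul_left (C 6 3 o6 o3))), p4, ← x_eq g L hQ hc o3]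
  have p2 : f₁ 2 a2 * (f₁ 3 a3 * (f₁ 4 a4 * (f₁ 5 a5 * f₁ 6 a6))) *
      (f₂ 2 a2 * (f₂ 3 a3 * (f₂ 4 a4 * (f₂ 5 a5 * f₂ 6 a6)))) = x 2 a2 * (x 3 a3 * (x 4 a4 * (x 5 a5 * x 6 a6))) := by
    rw [prod2 ((C 3 2 o3 o2).mul_left ((C 4 2 o4 o2).mul_left ((C 5 2 o5 o2).mul_left (C 6 2 o6 o2)))), p3,
      ← x_eq g L hQ hc o2]
  rw [prod2 ((C 2 1 o2 o1).mul_left ((C 3 1 o3 o1).mul_left ((C 4 1 o4 o1).mul_left ((C 5 1 o5 o1).mul_left
    (C 6 1 o6 o1))))), p2, ← x_eq g L hQ hc o1] at hD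
  obtain ⟨q1, q2, q3, q4, q5, q6⟩ := g.nf _ (g.le 1 _ o1) _ (g.le 2 _ o2) _ (g.le 3 _ o3) _ (g.le 4 _ o4)
    _ (g.le 5 _ o5) _ (g.le 6 _ o6) 1 (one_mem _) 1 (one_mem _) 1 (one_mem _) 1 (one_mem _) 1 (one_mem _) 1
    (one_mem _) (by simpa only [mul_assoc, mul_one] using hD)
  rw [(g.hex.x_eq_one o1).1 q1, (g.hex.x_eq_one o2).1 q2, (g.hex.x_eq_one o3).1 q3, (g.hex.x_eq_one o4).1 q4,
    (g.hex.x_eq_one o5).1 q5, (g.hex.x_eq_one o6).1 q6]
  simp only [fam_zero g L (φ.commutes c0) c, mul_one]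

/-- **Each family is a hexagonal root system.** -/
theorem hexTwo_fam [Finite G] : HexTwo (φ : K ≃+* K) f₁ where
  two := hφ.two
  rel := fam_rel hQ hc
  add k a b ha hb := fam_add g L (φ.commutes c0) c ha hb
  inj k a ha e := fam_eq_one g L (φ.commutes c0) c ha e
  refl1 j a ha := by
    rw [refl_fam g L hQ hc 1 ha]
    congr 1
  refl6 j a ha := by
    rw [refl_fam g L hQ hc 6 ha]
    congr 1
  tor1 s hs j a ha := by
    rw [← fam_tor1 g L (φ.commutes c0) c hs ha, hh_eq g L hQ hc (ok1 s), conj_mul_comm (comm_hh g L hQ hc (ok1 s) ha)]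
  tor6 s hs hs' j a ha := by
    have hs6 : Ok (φ : K ≃+* K) 6 s := ok_of_fix _ hs'
    rw [← fam_tor6 g L (φ.commutes c0) c hs hs' ha, hh_eq g L hQ hc hs6, conj_mul_comm (comm_hh g L hQ hc hs6 ha)]
  opp u h1 h2 := opp_fam g L hQ hc h1 h2

end Cfsg.Agent.HexEight.SplitC
end

-- part: HexRing/Avg
section
/-!
# An equivariant section (Maschke)

`exists_section`: a surjective homomorphism `δ : V → A` of elementary abelian 2-groups which is equivariant for a finite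
group `H` of odd order has an `H`-equivariant section.
-/

set_option autoImplicit false

namespace Cfsg.Agent.HexRing.Avg

open Finset

variable {H V A : Type*} [Group H] [Finite H] [AddCommGroup V] [AddCommGroup A]

theorem exists_section (hodd : Odd (Nat.card H)) (hV : ∀ v : V, v + v = 0) (hA : ∀ a : A, a + a = 0)
    (ρ : H → V →+ V) (ρ_mul : ∀ g h v, ρ (g * h) v = ρ g (ρ h v))
    (χ : H → A →+ A) (χ_mul : ∀ g h v, χ (g * h) v = χ g (χ h v)) (χ_one : ∀ v, χ 1 v = v)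
    (δ : V →+ A) (hδ : Function.Surjective δ) (hδρ : ∀ g v, δ (ρ g v) = χ g (δ v)) :
    ∃ s : A →+ V, (∀ a, δ (s a) = a) ∧ ∀ g a, ρ g (s a) = s (χ g a) := by
  classical
  have : Fintype H := Fintype.ofFinite H
  let _ : Module (ZMod 2) V := AddCommGroup.zmodModule (n := 2) fun v => by rw [two_nsmul, hV]
  let _ : Module (ZMod 2) A := AddCommGroup.zmodModule (n := 2) fun v => by rw [two_nsmul, hA]
  obtain ⟨s0, hs0⟩ := LinearMap.exists_rightInverse_of_surjective (δ.toZModLinearMap 2)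
    (LinearMap.range_eq_top.2 hδ)
  have hs : ∀ a, δ (s0 a) = a := fun a => LinearMap.congr_fun hs0 a
  let s : A →+ V := ∑ g : H, (ρ g⁻¹).comp (s0.toAddMonoidHom.comp (χ g))
  have hsa : ∀ a, s a = ∑ g : H, ρ g⁻¹ (s0 (χ g a)) := fun a => by
    simp only [s, AddMonoidHom.finsetSum_apply, AddMonoidHom.comp_apply]
    rfl
  refine ⟨s, fun a => ?_, fun h a => ?_⟩
  · rw [hsa, map_sum]
    have h1 : ∀ g : H, δ (ρ g⁻¹ (s0 (χ g a))) = a := fun g => by
      rw [hδρ, hs, ← χ_mul, inv_mul_cancel, χ_one]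
    simp only [h1, sum_const, card_univ]
    rw [← Nat.card_eq_fintype_card]
    obtain ⟨k, hk⟩ := hodd
    rw [hk, add_smul, one_smul, mul_comm, mul_smul, two_nsmul, hA, smul_zero, zero_add]
  · rw [hsa, hsa, map_sum]
    refine Fintype.sum_equiv (Equiv.mulRight h⁻¹) _ _ fun g => ?_
    simp only [Equiv.coe_mulRight]
    rw [← ρ_mul, mul_inv_rev, inv_inv, ← χ_mul, inv_mul_cancel_right]

open scoped commutatorElement in
/-- equivariant lifts of the elements of `X = [V, t]` to `V` -/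
theorem exists_lift {Γ : Type*} [Group Γ] {V H : Subgroup Γ} [Finite H] (hodd : Odd (Nat.card H))
    (sq : ∀ y ∈ V, y * y = 1) {A : Type*} [AddCommGroup A] (hA : ∀ a : A, a + a = 0) (xk : A → Γ)
    (xk_add : ∀ a b, xk (a + b) = xk a * xk b) (xk_inj : ∀ a b, xk a = xk b → a = b) (xkV : ∀ a, xk a ∈ V)
    {t : Γ} (br : ∀ y ∈ V, ∃ a, ⁅t, y⁆ = xk a) (onto : ∀ a, ∃ y ∈ V, ⁅t, y⁆ = xk a)
    (HV : ∀ g ∈ H, ∀ y ∈ V, g * y * g⁻¹ ∈ V) (Ht : ∀ g ∈ H, g * t = t * g)
    (χ : Γ → A → A) (hχ : ∀ g ∈ H, ∀ a, g * xk a * g⁻¹ = xk (χ g a)) :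
    ∃ v : A → Γ, (∀ a, v a ∈ V) ∧ (∀ a b, v (a + b) = v a * v b) ∧ (∀ a, t * v a * t⁻¹ = v a * xk a) ∧
      ∀ g ∈ H, ∀ a, g * v a * g⁻¹ = v (χ g a) := by
  have hinv : ∀ y ∈ V, y⁻¹ = y := fun y hy => inv_eq_of_mul_eq_one_right (sq y hy)
  have hcomm : ∀ y ∈ V, ∀ z ∈ V, y * z = z * y := fun y hy z hz => by
    have h1 := hinv _ (V.mul_mem hy hz)
    rw [mul_inv_rev, hinv y hy, hinv z hz] at h1
    exact h1.symm
  let _ : CommGroup V :=
    { (inferInstance : Group V) with mul_comm := fun a b => Subtype.ext (hcomm a a.2 b b.2) }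
  have xk_zero : xk 0 = 1 := left_eq_mul.1 (by rw [← xk_add, add_zero] : xk 0 = xk 0 * xk 0)
  choose d hd using br
  have hd_eq : ∀ y (hy : y ∈ V), t * y * t⁻¹ = y * xk (d y hy) := fun y hy => by
    have h1 := hd y hy
    rw [commutatorElement_def, hinv y hy] at h1
    have h2 : t * y * t⁻¹ = xk (d y hy) * y := by
      rw [← h1, mul_assoc (t * y * t⁻¹), sq y hy, mul_one]
    rw [h2, hcomm _ (xkV _) _ hy]
  have hd_uniq : ∀ y (hy : y ∈ V) a, t * y * t⁻¹ = y * xk a → d y hy = a := fun y hy a h => by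
    rw [hd_eq y hy] at h
    exact xk_inj _ _ (mul_left_cancel h)
  let δ : Additive V →+ A :=
    { toFun := fun y => d (y.toMul : V) (y.toMul : V).2
      map_zero' := by
        apply hd_uniq
        rw [xk_zero, mul_one]
        change t * 1 * t⁻¹ = 1
        rw [mul_one, mul_inv_cancel]
      map_add' := fun y z => by
        apply hd_uniq
        rw [xk_add]
        change t * ((y.toMul : V) * (z.toMul : V) : Γ) * t⁻¹ = _
        have h1 := hd_eq _ (y.toMul : V).2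
        have h2 := hd_eq _ (z.toMul : V).2
        calc t * ((y.toMul : V) * (z.toMul : V) : Γ) * t⁻¹ =
            (t * (y.toMul : V) * t⁻¹) * (t * (z.toMul : V) * t⁻¹) := by group
          _ = (y.toMul : V) * (xk (d _ (y.toMul : V).2) * (z.toMul : V)) * xk (d _ (z.toMul : V).2) := by
            rw [h1, h2]; group
          _ = _ := by
            rw [hcomm _ (xkV _) _ (z.toMul : V).2]
            change _ = ((y.toMul : V) * (z.toMul : V) : Γ) * _
            group }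
  have hχ_inj : ∀ g ∈ H, ∀ a b, χ g (a + b) = χ g a + χ g b := fun g hg a b => by
    apply xk_inj
    rw [← hχ g hg, xk_add, xk_add, ← hχ g hg, ← hχ g hg]
    group
  let χ' : H → A →+ A := fun g => AddMonoidHom.mk' (χ g) (hχ_inj g g.2)
  let ρ : H → Additive V →+ Additive V := fun g => AddMonoidHom.mk'
    (fun y => Additive.ofMul ⟨(g : Γ) * (y.toMul : V) * (g : Γ)⁻¹, HV g g.2 _ (y.toMul : V).2⟩) (fun y z => by
      apply congrArg Additive.ofMul
      apply Subtype.ext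
      change (g : Γ) * ((y.toMul : V) * (z.toMul : V) : Γ) * (g : Γ)⁻¹ =
        ((g : Γ) * (y.toMul : V) * (g : Γ)⁻¹) * ((g : Γ) * (z.toMul : V) * (g : Γ)⁻¹)
      group)
  obtain ⟨s, hs1, hs2⟩ := exists_section (H := H) (V := Additive V) (A := A) hodd
    (fun v => by
      apply congrArg Additive.ofMul
      exact Subtype.ext (sq _ (v.toMul : V).2)) hA ρ
    (fun g h v => by
      apply congrArg Additive.ofMul
      apply Subtype.ext
      change (g * h : Γ) * (v.toMul : V) * (g * h : Γ)⁻¹ = (g : Γ) * ((h : Γ) * (v.toMul : V) * (h : Γ)⁻¹) * (g : Γ)⁻¹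
      group) χ'
    (fun g h v => by
      change χ (g * h) v = χ g (χ h v)
      apply xk_inj
      rw [← hχ _ (H.mul_mem g.2 h.2), ← hχ _ g.2, ← hχ _ h.2]
      group)
    (fun v => by
      change χ 1 v = v
      apply xk_inj
      rw [← hχ _ H.one_mem]
      group) δ
    (fun a => by
      obtain ⟨y, hy, e⟩ := onto a
      refine ⟨Additive.ofMul ⟨y, hy⟩, ?_⟩
      apply xk_inj
      change xk (d y hy) = xk a
      rw [← hd y hy, e])
    (fun g v => by
      change d ((g : Γ) * (v.toMul : V) * (g : Γ)⁻¹) _ = χ g (d (v.toMul : V) _)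
      apply hd_uniq
      rw [← hχ _ g.2]
      have h1 := hd_eq _ (v.toMul : V).2
      have h2 := Ht g g.2
      have h3 : (g : Γ)⁻¹ * t⁻¹ = t⁻¹ * (g : Γ)⁻¹ := by rw [← mul_inv_rev, ← mul_inv_rev, h2]
      calc t * ((g : Γ) * (v.toMul : V) * (g : Γ)⁻¹) * t⁻¹ = (t * g) * (v.toMul : V) * ((g : Γ)⁻¹ * t⁻¹) := by group
        _ = (g * t) * (v.toMul : V) * (t⁻¹ * (g : Γ)⁻¹) := by rw [← h2, h3]
        _ = g * (t * (v.toMul : V) * t⁻¹) * (g : Γ)⁻¹ := by group
        _ = _ := by rw [h1]; group)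
  refine ⟨fun a => ((s a).toMul : V), fun a => ((s a).toMul : V).2, fun a b => ?_, fun a => ?_, fun g hg a => ?_⟩
  · change (((s (a + b)).toMul : V) : Γ) = _
    rw [map_add]
    rfl
  · rw [hd_eq _ ((s a).toMul : V).2]
    have : d _ ((s a).toMul : V).2 = a := hs1 a
    rw [this]
  · have h1 := congrArg (fun y : Additive V => ((y.toMul : V) : Γ)) (hs2 ⟨g, hg⟩ a)
    exact h1

end Cfsg.Agent.HexRing.Avg
end

-- part: HexRing/Lab
section
/-!
# Labels of the doubled root groups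

`VSys σ x t V` : the twelve doubled root groups `V r` of a hexagonal root system `x` (`HexTwo σ x`) with respect to an
involution `t`.
`exists_labels` : labels `Y r : A × A → Γ` of the groups `V r` of one parity, compatible with the Weyl elements, the torus and `t`.
-/

set_option autoImplicit false

namespace Cfsg.Agent.HexRing.Lab

open Cfsg.Agent.StdRank2.Hex
open scoped commutatorElement

section

variable {K : Type*} [Field K] {σ : K ≃+* K} {Γ : Type*} [Group Γ] {x : ZMod 12 → K → Γ} {t : Γ}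
  {V : ZMod 12 → Subgroup Γ}

/-- The doubled root groups. -/
structure VSys (σ : K ≃+* K) (x : ZMod 12 → K → Γ) (t : Γ) (V : ZMod 12 → Subgroup Γ) : Prop where
  tx : ∀ r a, Ok σ r a → x r a * t = t * x r a
  le : ∀ r a, Ok σ r a → x r a ∈ V r
  sq : ∀ r, ∀ y ∈ V r, y * y = 1
  br : ∀ r, ∀ y ∈ V r, ∃ a, Ok σ r a ∧ ⁅t, y⁆ = x r a
  onto : ∀ r a, Ok σ r a → ∃ y ∈ V r, ⁅t, y⁆ = x r a
  fix : ∀ r, ∀ y ∈ V r, y * t = t * y → ∃ a, Ok σ r a ∧ y = x r a
  hV : ∀ k s, s ≠ 0 → Ok σ k s → ∀ r, ∀ y ∈ V r, hh x k s * y * (hh x k s)⁻¹ ∈ V r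
  nV : ∀ k r, ∀ y ∈ V r, nn x k * y * (nn x k)⁻¹ ∈ V (2 * k + 6 - r)
  c1 : ∀ r, ∀ a ∈ V r, ∀ b ∈ V (r + 1), a * b = b * a
  c3 : ∀ r, ∀ a ∈ V r, ∀ b ∈ V (r + 3), a * b = b * a
  l2 : ∀ r : ZMod 12, r.val % 2 = 0 → ∀ a ∈ V r, ∀ b ∈ V (r + 2), a * b = b * a
  l4 : ∀ r : ZMod 12, r.val % 2 = 0 → ∀ a ∈ V r, ∀ b ∈ V (r + 4), ⁅a, b⁆ ∈ V (r + 2)
  s2 : ∀ r : ZMod 12, r.val % 2 = 1 → ∀ a ∈ V r, ∀ b ∈ V (r + 2), ⁅a, b⁆ ∈ V (r + 1)
  s4 : ∀ r : ZMod 12, r.val % 2 = 1 → ∀ a ∈ V r, ∀ b ∈ V (r + 4), ⁅a, b⁆ ∈ V (r + 1) ⊔ V (r + 2) ⊔ V (r + 3)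
  c5 : ∀ r, ∀ a ∈ V r, ∀ b ∈ V (r + 5), ⁅a, b⁆ ∈ V (r + 1) ⊔ V (r + 2) ⊔ V (r + 3) ⊔ V (r + 4)
  /-- unique normal form -/
  nf : ∀ a₁ ∈ V 1, ∀ a₂ ∈ V 2, ∀ a₃ ∈ V 3, ∀ a₄ ∈ V 4, ∀ a₅ ∈ V 5, ∀ a₆ ∈ V 6,
    ∀ b₁ ∈ V 1, ∀ b₂ ∈ V 2, ∀ b₃ ∈ V 3, ∀ b₄ ∈ V 4, ∀ b₅ ∈ V 5, ∀ b₆ ∈ V 6,
    a₁ * a₂ * a₃ * a₄ * a₅ * a₆ = b₁ * b₂ * b₃ * b₄ * b₅ * b₆ →
    a₁ = b₁ ∧ a₂ = b₂ ∧ a₃ = b₃ ∧ a₄ = b₄ ∧ a₅ = b₅ ∧ a₆ = b₆

/-! ### The torus has odd order -/

theorem finite_H (h : HexTwo σ x) [Finite K] : Finite h.H := by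
  have : (h.H : Set Γ) ⊆ Set.range fun p : K × K => hh x 1 p.1 * hh x 6 p.2 := by
    rintro g ⟨s, u, -, -, -, rfl⟩
    exact ⟨(s, u), rfl⟩
  exact ((Set.finite_range _).subset this).to_subtype

theorem odd_card_H (h : HexTwo σ x) [Finite K] : Odd (Nat.card h.H) := by
  have := finite_H h
  rw [← Nat.not_even_iff_odd, even_iff_two_dvd]
  intro h2
  have : Fact (Nat.Prime 2) := ⟨Nat.prime_two⟩
  obtain ⟨⟨g, hg⟩, ho⟩ := exists_prime_orderOf_dvd_card' 2 h2
  have hgg : g * g = 1 := by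
    have h3 := pow_orderOf_eq_one (⟨g, hg⟩ : h.H)
    rw [ho, sq] at h3
    exact congrArg Subtype.val h3
  have hx : ∀ j : ZMod 12, g * x j 1 * g⁻¹ = x j 1 := by
    intro j
    obtain ⟨c, hc, hok, e⟩ := h.H_diag hg j
    have e1 := e 1 (ok_one σ j)
    have e2 : x j 1 = g * (g * x j 1 * g⁻¹) * g⁻¹ := by
      calc x j 1 = (g * g) * x j 1 * (g * g)⁻¹ := by rw [hgg]; group
        _ = _ := by group
    rw [e1, e _ (hok.mul (ok_one σ j)), h.x_inj (ok_one σ j) (hok.mul (hok.mul (ok_one σ j))), mul_one] at e2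
    have hc1 : c = 1 := h.sq_eq_one e2.symm
    rw [e1, hc1, one_mul]
  have h1 : g = 1 := by
    obtain ⟨s, u, hs, hu, hu', e⟩ := hg
    have := h.H_eq_one hs hu hu' (by rw [← e]; exact hx 4) (by rw [← e]; exact hx 1)
    rw [e, this.1, this.2, h.hh_one, h.hh_one, mul_one]
  subst h1
  rw [show (⟨1, hg⟩ : h.H) = 1 from rfl, orderOf_one] at ho
  exact absurd ho (by norm_num)

theorem H_V (h : HexTwo σ x) [Finite K] (S : VSys σ x t V) {g : Γ} (hg : g ∈ h.H) (r : ZMod 12) :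
    ∀ y ∈ V r, g * y * g⁻¹ ∈ V r := by
  obtain ⟨s, u, hs, hu, hu', rfl⟩ := hg
  intro y hy
  have h1 := S.hV 1 s hs (HexTwo.ok1 s) r _ (S.hV 6 u hu (ok_of_fix _ hu') r y hy)
  have e : hh x 1 s * hh x 6 u * y * (hh x 1 s * hh x 6 u)⁻¹ =
      hh x 1 s * (hh x 6 u * y * (hh x 6 u)⁻¹) * (hh x 1 s)⁻¹ := by group
  rwa [e]

theorem t_nn (S : VSys σ x t V) (k : ZMod 12) : nn x k * t = t * nn x k := by
  have h1 := S.tx k 1 (ok_one σ k)
  have h2 := S.tx (k + 6) 1 (ok_one σ (k + 6))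
  unfold nn
  rw [mul_assoc, h1, mul_assoc, ← mul_assoc (x (k + 6) 1) t, h2, ← mul_assoc, ← mul_assoc, ← mul_assoc, h1]
  group

theorem t_H (h : HexTwo σ x) [Finite K] (S : VSys σ x t V) {g : Γ} (hg : g ∈ h.H) : g * t = t * g := by
  have hnt : ∀ k u, Ok σ k u → nt x k u * t = t * nt x k u := by
    intro k u hu
    have h1 := S.tx k u hu
    have h2 := S.tx (k + 6) u⁻¹ (hu.inv.congr (val_add_6 k))
    unfold nt
    rw [mul_assoc, h1, mul_assoc, ← mul_assoc (x (k + 6) u⁻¹) t, h2, ← mul_assoc, ← mul_assoc, ← mul_assoc, h1]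
    group
  obtain ⟨s, u, hs, hu, hu', rfl⟩ := hg
  unfold hh
  rw [mul_assoc, mul_assoc, mul_assoc, t_nn S, ← mul_assoc (nt x 6 u), hnt 6 u (ok_of_fix _ hu'), mul_assoc t,
    ← mul_assoc (nn x 1) t, t_nn S, mul_assoc t, ← mul_assoc (nt x 1 s) t, hnt 1 s (HexTwo.ok1 s)]
  group

/-! ### Base case -/

section base

variable {A : Type*} [CommRing A] (ι : A →+* K)

/-- labels of one doubled root group -/
theorem base (h : HexTwo σ x) [Finite K] (S : VSys σ x t V) (r : ZMod 12) (hι : Function.Injective ι)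
    (hok : ∀ b, Ok σ r b ↔ ∃ a, ι a = b) :
    ∃ y : A × A → Γ, (∀ v w, y (v + w) = y v * y w) ∧ (∀ g, g ∈ V r ↔ ∃ v, y v = g) ∧ (∀ v w, y v = y w → v = w) ∧
      (∀ a, y (a, 0) = x r (ι a)) ∧ (∀ v, t * y v * t⁻¹ = y (v.1 + v.2, v.2)) ∧
      ∀ g ∈ h.H, ∀ c : A, (∀ a, g * x r (ι a) * g⁻¹ = x r (ι (c * a))) → ∀ v, g * y v * g⁻¹ = y (c • v) := by
  have hfin := finite_H h
  have okι : ∀ a, Ok σ r (ι a) := fun a => (hok _).2 ⟨a, rfl⟩
  have hA : ∀ a : A, a + a = 0 := fun a => hι (by rw [map_add, h.add_self, map_zero])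
  have xadd : ∀ a b : A, x r (ι (a + b)) = x r (ι a) * x r (ι b) := fun a b => by
    rw [map_add, h.add r _ _ (okι a) (okι b)]
  have xinj : ∀ a b : A, x r (ι a) = x r (ι b) → a = b := fun a b e => hι ((h.x_inj (okι a) (okι b)).1 e)
  -- the characters
  have hch : ∀ g ∈ h.H, ∃ c : A, ∀ a, g * x r (ι a) * g⁻¹ = x r (ι (c * a)) := by
    intro g hg
    obtain ⟨c, hc, hc', e⟩ := h.H_diag hg r
    obtain ⟨c, rfl⟩ := (hok c).1 hc'
    exact ⟨c, fun a => by rw [e _ (okι a), map_mul]⟩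
  classical
  choose! ch hch using hch
  obtain ⟨v, hvV, hvadd, hvt, hvH⟩ := Avg.exists_lift (V := V r) (H := h.H) (odd_card_H h) (S.sq r) hA
    (fun a => x r (ι a)) xadd xinj (fun a => S.le r _ (okι a)) (t := t)
    (fun y hy => by
      obtain ⟨a, ha, e⟩ := S.br r y hy
      obtain ⟨a, rfl⟩ := (hok a).1 ha
      exact ⟨a, e⟩)
    (fun a => S.onto r _ (okι a)) (fun g hg y hy => H_V h S hg r y hy) (fun g hg => t_H h S hg)
    (fun g a => ch g * a) (fun g hg a => hch g hg a)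
  have hcomm : ∀ y ∈ V r, ∀ z ∈ V r, y * z = z * y := fun y hy z hz => by
    have hinv : ∀ y ∈ V r, y⁻¹ = y := fun y hy => inv_eq_of_mul_eq_one_right (S.sq r y hy)
    have h1 := hinv _ ((V r).mul_mem hy hz)
    rw [mul_inv_rev, hinv y hy, hinv z hz] at h1
    exact h1.symm
  have hv0 : v 0 = 1 := left_eq_mul.1 (by rw [← hvadd, add_zero] : v 0 = v 0 * v 0)
  have hx0 : x r (ι 0) = 1 := by rw [map_zero, h.x_zero]
  have txt : ∀ a, t * x r (ι a) * t⁻¹ = x r (ι a) := fun a => by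
    rw [← S.tx r _ (okι a), mul_inv_cancel_right]
  refine ⟨fun w => x r (ι w.1) * v w.2, fun w w' => ?_, fun g => ⟨fun hg => ?_, ?_⟩, ?_, fun a => ?_, fun w => ?_,
    fun g hg c hc w => ?_⟩
  · simp only [Prod.fst_add, Prod.snd_add]
    rw [xadd, hvadd]
    have e := hcomm _ (S.le r _ (okι w'.1)) _ (hvV w.2)
    calc x r (ι w.1) * x r (ι w'.1) * (v w.2 * v w'.2) = x r (ι w.1) * (x r (ι w'.1) * v w.2) * v w'.2 := by group
      _ = _ := by rw [e]; group
  · obtain ⟨b, hb, e⟩ := S.br r g hg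
    obtain ⟨b, rfl⟩ := (hok b).1 hb
    have e1 : t * g * t⁻¹ = x r (ι b) * g := by
      rw [← e, commutatorElement_def]; group
    have hgv : g * v b ∈ V r := mul_mem hg (hvV b)
    obtain ⟨a, ha, e2⟩ := S.fix r _ hgv (by
      have e3 : t * (g * v b) * t⁻¹ = g * v b := by
        calc t * (g * v b) * t⁻¹ = (t * g * t⁻¹) * (t * v b * t⁻¹) := by group
          _ = (x r (ι b) * g) * (v b * x r (ι b)) := by rw [e1, hvt]
          _ = x r (ι b) * (g * v b * x r (ι b)) := by group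
          _ = x r (ι b) * (x r (ι b) * (g * v b)) := by rw [hcomm _ hgv _ (S.le r _ (okι b))]
          _ = _ := by rw [← mul_assoc, h.x_sq (okι b), one_mul]
      calc g * v b * t = (t * (g * v b) * t⁻¹) * t := by rw [e3]
        _ = _ := by group)
    obtain ⟨a, rfl⟩ := (hok a).1 ha
    refine ⟨(a, b), ?_⟩
    simp only
    rw [← e2, mul_assoc, S.sq r _ (hvV b), mul_one]
  · rintro ⟨w, rfl⟩
    exact mul_mem (S.le r _ (okι w.1)) (hvV w.2)
  · intro w w' e
    simp only at e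
    have e1 : t * (x r (ι w.1) * v w.2) * t⁻¹ = t * (x r (ι w'.1) * v w'.2) * t⁻¹ := by rw [e]
    have e2 : ∀ w : A × A, t * (x r (ι w.1) * v w.2) * t⁻¹ = (x r (ι w.1) * v w.2) * x r (ι w.2) := fun w => by
      calc t * (x r (ι w.1) * v w.2) * t⁻¹ = (t * x r (ι w.1) * t⁻¹) * (t * v w.2 * t⁻¹) := by group
        _ = _ := by rw [txt, hvt, mul_assoc]
    rw [e2, e2, e] at e1
    have e3 := xinj _ _ (mul_left_cancel e1)
    rw [e3] at e
    exact Prod.ext (xinj _ _ (mul_right_cancel e)) e3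
  · simp only
    rw [hv0, mul_one]
  · simp only
    have e := hcomm _ (hvV w.2) _ (S.le r _ (okι w.2))
    calc t * (x r (ι w.1) * v w.2) * t⁻¹ = (t * x r (ι w.1) * t⁻¹) * (t * v w.2 * t⁻¹) := by group
      _ = x r (ι w.1) * (v w.2 * x r (ι w.2)) := by rw [txt, hvt]
      _ = _ := by rw [e, xadd]; group
  · simp only [Prod.smul_fst, Prod.smul_snd, smul_eq_mul]
    have hc' : ch g = c := by
      have e := hch g hg 1
      rw [hc 1, mul_one, mul_one] at e
      exact (xinj _ _ e).symm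
    have e2 : g * v w.2 * g⁻¹ = v (c * w.2) := by rw [hvH g hg, hc']
    calc g * (x r (ι w.1) * v w.2) * g⁻¹ = (g * x r (ι w.1) * g⁻¹) * (g * v w.2 * g⁻¹) := by group
      _ = _ := by rw [hc, e2]

end base

end

end Cfsg.Agent.HexRing.Lab
end

-- part: HexRing/Lab2
section
/-!
# Labels of the doubled root groups: rotation
-/

set_option autoImplicit false

namespace Cfsg.Agent.HexRing.Lab2

open Cfsg.Agent.StdRank2.Hex Cfsg.Agent.StdRank2.Hex.HexTwo Cfsg.Agent.HexRing.Lab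
open scoped commutatorElement

variable {K : Type*} [Field K] {σ : K ≃+* K} {Γ : Type*} [Group Γ] {x : ZMod 12 → K → Γ} {t : Γ}
  {V : ZMod 12 → Subgroup Γ}

end Cfsg.Agent.HexRing.Lab2
end

-- part: HexRing/Lab3
section
/-!
# From the doubled root groups to `Pos`
-/

set_option autoImplicit false

namespace Cfsg.Agent.HexRing.Lab3

open Cfsg.Agent.HexRec Cfsg.Agent.HexRing.Def
open Cfsg.Agent.StdRank2.Hex Cfsg.Agent.StdRank2.Hex.HexTwo Cfsg.Agent.HexRing.Lab Cfsg.Agent.HexRing.Lab2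
open Cfsg.Agent.Hex.Defs (CubicPair)
open scoped commutatorElement

/-! ### joins -/

section join

variable {G : Type*} [Group G]

theorem mem_sup_of_norm {A B : Subgroup G} (h : ∀ b ∈ B, ∀ a ∈ A, b * a * b⁻¹ ∈ A) {g : G} (hg : g ∈ A ⊔ B) :
    ∃ a ∈ A, ∃ b ∈ B, a * b = g := by
  let S : Subgroup G :=
    { carrier := {g | ∃ a ∈ A, ∃ b ∈ B, a * b = g}
      one_mem' := ⟨1, A.one_mem, 1, B.one_mem, by simp⟩
      mul_mem' := by
        rintro _ _ ⟨a, ha, b, hb, rfl⟩ ⟨a', ha', b', hb', rfl⟩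
        exact ⟨a * (b * a' * b⁻¹), A.mul_mem ha (h b hb a' ha'), b * b', B.mul_mem hb hb', by group⟩
      inv_mem' := by
        rintro _ ⟨a, ha, b, hb, rfl⟩
        refine ⟨b⁻¹ * a⁻¹ * b⁻¹⁻¹, h _ (B.inv_mem hb) _ (A.inv_mem ha), b⁻¹, B.inv_mem hb, by group⟩ }
  have : A ⊔ B ≤ S := sup_le (fun a ha => ⟨a, ha, 1, B.one_mem, by simp⟩) (fun b hb => ⟨1, A.one_mem, b, hb, by simp⟩)
  exact this hg

theorem conj_sup {A B S : Subgroup G} {g : G} (hA : ∀ a ∈ A, g * a * g⁻¹ ∈ S) (hB : ∀ a ∈ B, g * a * g⁻¹ ∈ S) :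
    ∀ a ∈ A ⊔ B, g * a * g⁻¹ ∈ S := by
  have : A ⊔ B ≤ S.comap (MulAut.conj g).toMonoidHom := by
    refine sup_le (fun a ha => ?_) (fun a ha => ?_)
    · simpa only [_root_.MulEquiv.toMonoidHom_eq_coe, _root_.Subgroup.mem_comap, _root_.MonoidHom.coe_coe, _root_.MulAut.conj_apply] using hA a ha
    · simpa using hB a ha
  intro a ha
  simpa using this ha

theorem conj_mem_comm {A S : Subgroup G} {g : G} (hA : ∀ a ∈ A, g * a = a * g) (hS : A ≤ S) : ∀ a ∈ A, g * a * g⁻¹ ∈ S :=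
  fun a ha => by rw [hA a ha, mul_inv_cancel_right]; exact hS ha

end join

section main

variable {F K : Type*} [Field F] [Field K] [Algebra F K] {φ : K ≃ₐ[F] K} {Γ : Type*} [Group Γ]
  {x : ZMod 12 → K → Γ} {t : Γ} {V : ZMod 12 → Subgroup Γ}

/-- decomposition of `V 2 ⊔ V 3 ⊔ V 4` -/
theorem mem234 {σ : K ≃+* K} (S : VSys σ x t V) {g : Γ} (hg : g ∈ V 2 ⊔ V 3 ⊔ V 4) :
    ∃ a ∈ V 2, ∃ b ∈ V 3, ∃ c ∈ V 4, a * (b * c) = g := by
  have h23 : ∀ b ∈ V 3, ∀ a ∈ V 2, b * a * b⁻¹ ∈ V 2 := fun b hb a ha => by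
    rw [← S.c1 2 a ha b hb, mul_inv_cancel_right]; exact ha
  have h4 : ∀ c ∈ V 4, ∀ a ∈ V 2 ⊔ V 3, c * a * c⁻¹ ∈ V 2 ⊔ V 3 := fun c hc =>
    conj_sup (conj_mem_comm (fun a ha => (S.l2 2 (by decide) a ha c hc).symm) le_sup_left)
      (conj_mem_comm (fun a ha => (S.c1 3 a ha c hc).symm) le_sup_right)
  obtain ⟨p, hp, c, hc, rfl⟩ := mem_sup_of_norm h4 hg
  obtain ⟨a, ha, b, hb, rfl⟩ := mem_sup_of_norm h23 hp
  exact ⟨a, ha, b, hb, c, hc, by group⟩

/-- decomposition of `V 2 ⊔ V 3 ⊔ V 4 ⊔ V 5` -/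
theorem mem2345 {σ : K ≃+* K} (S : VSys σ x t V) {g : Γ} (hg : g ∈ V 2 ⊔ V 3 ⊔ V 4 ⊔ V 5) :
    ∃ a ∈ V 2, ∃ b ∈ V 3, ∃ c ∈ V 4, ∃ d ∈ V 5, a * (b * (c * d)) = g := by
  have h5 : ∀ d ∈ V 5, ∀ a ∈ V 2 ⊔ V 3 ⊔ V 4, d * a * d⁻¹ ∈ V 2 ⊔ V 3 ⊔ V 4 := fun d hd => by
    refine conj_sup (conj_sup ?_ ?_) ?_
    · exact conj_mem_comm (fun a ha => (S.c3 2 a ha d hd).symm) (le_sup_left.trans le_sup_left)
    · intro b hb
      have h1 := S.s2 3 (by decide) b hb d hd
      have h2 : d * b * d⁻¹ = ⁅b, d⁆⁻¹ * b := by rw [commutatorElement_def]; group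
      rw [h2]
      exact mul_mem (inv_mem (Subgroup.mem_sup_right h1)) (Subgroup.mem_sup_left (Subgroup.mem_sup_right hb))
    · exact conj_mem_comm (fun a ha => (S.c1 4 a ha d hd).symm) le_sup_right
  obtain ⟨p, hp, d, hd, rfl⟩ := mem_sup_of_norm h5 hg
  obtain ⟨a, ha, b, hb, c, hc, rfl⟩ := mem234 S hp
  exact ⟨a, ha, b, hb, c, hc, d, hd, by group⟩

/-- the labels -/
structure Labels (φ : K ≃ₐ[F] K) (x : ZMod 12 → K → Γ) (t : Γ) (V : ZMod 12 → Subgroup Γ) [Finite K]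
    (h : HexTwo (φ : K ≃+* K) x) where
  YS : ZMod 12 → K × K → Γ
  YL : ZMod 12 → F × F → Γ
  addS : ∀ r v w, YS r (v + w) = YS r v * YS r w
  addL : ∀ r v w, YL r (v + w) = YL r v * YL r w
  tS : ∀ r v, t * YS r v * t⁻¹ = YS r (v.1 + v.2, v.2)
  tL : ∀ r v, t * YL r v * t⁻¹ = YL r (v.1 + v.2, v.2)
  memS : ∀ r : ZMod 12, r.val % 2 = 1 → ∀ g, g ∈ V r ↔ ∃ v, YS r v = g
  memL : ∀ r : ZMod 12, r.val % 2 = 0 → ∀ g, g ∈ V r ↔ ∃ v, YL r v = g
  injS : ∀ r : ZMod 12, r.val % 2 = 1 → ∀ v w, YS r v = YS r w → v = w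
  injL : ∀ r : ZMod 12, r.val % 2 = 0 → ∀ v w, YL r v = YL r w → v = w
  smallS : ∀ r : ZMod 12, r.val % 2 = 1 → ∀ a, YS r (a, 0) = x r a
  smallL : ∀ r : ZMod 12, r.val % 2 = 0 → ∀ a, YL r (a, 0) = x r (algebraMap F K a)
  nS : ∀ k r : ZMod 12, r.val % 2 = 1 → ∀ v, nn x k * YS r v * (nn x k)⁻¹ = YS (2 * k + 6 - r) v
  nL : ∀ k r : ZMod 12, r.val % 2 = 0 → ∀ v, nn x k * YL r v * (nn x k)⁻¹ = YL (2 * k + 6 - r) v
  hS : ∀ g ∈ h.H, ∀ r : ZMod 12, r.val % 2 = 1 → ∀ c, (∀ a, g * x r a * g⁻¹ = x r (c * a)) →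
    ∀ v, g * YS r v * g⁻¹ = YS r (c • v)
  hL : ∀ g ∈ h.H, ∀ r : ZMod 12, r.val % 2 = 0 → ∀ c : F,
    (∀ a : F, g * x r (algebraMap F K a) * g⁻¹ = x r (algebraMap F K (c * a))) → ∀ v, g * YL r v * g⁻¹ = YL r (c • v)

end main

end Cfsg.Agent.HexRing.Lab3
end

-- part: HexRing/Lab4
section
/-!
# From the doubled root groups to `Pos`, second part
-/

set_option autoImplicit false

namespace Cfsg.Agent.HexRing.Lab4

open Cfsg.Agent.HexRec Cfsg.Agent.HexRing.Def Cfsg.Agent.HexRing.Lab3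
open Cfsg.Agent.StdRank2.Hex Cfsg.Agent.StdRank2.Hex.HexTwo Cfsg.Agent.HexRing.Lab Cfsg.Agent.HexRing.Lab2
open Cfsg.Agent.Hex.Defs (CubicPair)
open Cfsg.Agent.SplitTwo (nrm shp)
open scoped commutatorElement

variable {F K : Type*} [Field F] [Field K] [Algebra F K] {φ : K ≃ₐ[F] K} {Γ : Type*} [Group Γ]
  {x : ZMod 12 → K → Γ} {t : Γ} {V : ZMod 12 → Subgroup Γ}

/-! ### the torus -/

theorem exists_sqrt (hφ : CubicPair φ) [Finite K] (k : K) : ∃ r : K, r * r = shp (φ : K ≃+* K) k := by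
  have h1 : Function.Injective (fun r : K => r * r) := fun a b e => by
    have h2 : (a - b) * (a - b) = 0 := by
      have h3 := hφ.two
      simp only at e
      linear_combination e + (b * b - a * b) * h3
    exact sub_eq_zero.1 (mul_self_eq_zero.1 h2)
  exact Finite.surjective_of_injective h1 _

/-- the parameters of `h (k, l)` -/
theorem exists_param (hφ : CubicPair φ) [Finite K] {k : K} {l : F} (hk : k ≠ 0) (hl : l ≠ 0) :
    ∃ s u : K, s ≠ 0 ∧ u ≠ 0 ∧ (φ : K ≃+* K) u = u ∧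
      s ^ 2 * u⁻¹ = k ∧
      nrm (φ : K ≃+* K) s * u⁻¹ = algebraMap F K ((OfPair.cubic hφ).N k * l) ∧
      s⁻¹ * shp (φ : K ≃+* K) s = (OfPair.cubic hφ).sh k * algebraMap F K l ∧
      u = algebraMap F K ((OfPair.cubic hφ).N k * l ^ 2) ∧
      s * (shp (φ : K ≃+* K) s)⁻¹ * u = k * algebraMap F K l ∧
      (nrm (φ : K ≃+* K) s)⁻¹ * u ^ 2 = algebraMap F K l := by
  set σ : K ≃+* K := (φ : K ≃+* K) with hσ
  obtain ⟨r, hr⟩ := exists_sqrt hφ k
  have hN : algebraMap F K ((OfPair.cubic hφ).N k) = k * shp σ k := (OfPair.cubic hφ).N_map k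
  have hsh : (OfPair.cubic hφ).sh k = shp σ k := rfl
  have hl' : algebraMap F K l ≠ 0 := by
    rw [Ne, map_eq_zero]; exact hl
  have hσl : σ (algebraMap F K l) = algebraMap F K l := φ.commutes l
  have hσ3 : ∀ a, σ (σ (σ a)) = a := hφ.three
  set L := algebraMap F K l with hL
  have hk1 : σ k ≠ 0 := by rw [Ne, map_eq_zero_iff _ σ.injective]; exact hk
  have hk2 : σ (σ k) ≠ 0 := by rw [Ne, map_eq_zero_iff _ σ.injective]; exact hk1
  have hshk : shp σ k ≠ 0 := mul_ne_zero hk1 hk2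
  have hr0 : r ≠ 0 := by
    rintro rfl
    rw [mul_zero] at hr
    exact hshk hr.symm
  have sq_inj : ∀ a b : K, a * a = b * b → a = b := fun a b e => by
    have h2 : (a - b) * (a - b) = 0 := by
      have h3 := hφ.two
      linear_combination e + (b * b - a * b) * h3
    exact sub_eq_zero.1 (mul_self_eq_zero.1 h2)
  have hσr : ∀ a, σ (shp σ a) = σ (σ a) * a := fun a => by unfold shp; rw [map_mul, hσ3]
  -- `shp r = k r`
  have e1 : shp σ r = k * r := by
    apply sq_inj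
    have : shp σ r * shp σ r = σ (r * r) * σ (σ (r * r)) := by
      unfold shp; simp only [map_mul]; ring
    rw [this, hr]
    have h5 : σ (shp σ k) = σ (σ k) * k := hσr k
    have h6 : σ (σ (shp σ k)) = k * σ k := by rw [h5, map_mul, hσ3]
    rw [h6, h5]
    have h7 : k * r * (k * r) = k * k * (r * r) := by ring
    rw [h7, hr]
    unfold shp; ring
  set s := k * r * L with hs
  set u := k * shp σ k * L ^ 2 with hu
  have hs0 : s ≠ 0 := mul_ne_zero (mul_ne_zero hk hr0) hl'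
  have hu0 : u ≠ 0 := mul_ne_zero (mul_ne_zero hk hshk) (pow_ne_zero 2 hl')
  have hσu : σ u = u := by
    rw [hu, map_mul, map_mul, map_pow, hσl, hσr]
    unfold shp; ring
  have hshs : shp σ s = shp σ k * (k * r) * L ^ 2 := by
    have h5 : shp σ s = shp σ k * shp σ r * (σ L * σ (σ L)) := by
      rw [hs]; unfold shp; simp only [map_mul]; ring
    rw [h5, e1, hσl, hσl]; ring
  have hnr : nrm σ s = s * shp σ s := by unfold nrm shp; ring
  refine ⟨s, u, hs0, hu0, hσu, ?_, ?_, ?_, ?_, ?_, ?_⟩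
  · rw [← div_eq_mul_inv, div_eq_iff hu0, hs, hu]
    linear_combination (k ^ 2 * L ^ 2) * hr
  · rw [← div_eq_mul_inv, div_eq_iff hu0, map_mul, hN, hnr, hshs, hs, hu]
    linear_combination (k ^ 2 * shp σ k * L ^ 3) * hr
  · rw [inv_mul_eq_div, div_eq_iff hs0, hsh, hshs, hs]
    ring
  · rw [map_mul, hN, map_pow]
  · rw [hshs, hs, hu]
    field_simp
  · have hn0 : nrm σ s ≠ 0 := by
      rw [hnr, hshs]
      exact mul_ne_zero hs0 (mul_ne_zero (mul_ne_zero hshk (mul_ne_zero hk hr0)) (pow_ne_zero 2 hl'))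
    rw [inv_mul_eq_div, div_eq_iff hn0, hnr, hshs, hs, hu]
    linear_combination (-(k ^ 2 * shp σ k * L ^ 4)) * hr

/-- values of the characters of `hh 1 s * hh 6 u` -/
theorem ch_vals {σ : K ≃+* K} (s u : K) :
    (ch σ 1 (1 - 1) s * ch σ 6 (1 - 6) u = s ^ 2 * u⁻¹) ∧ (ch σ 1 (2 - 1) s * ch σ 6 (2 - 6) u = nrm σ s * u⁻¹) ∧
    (ch σ 1 (3 - 1) s * ch σ 6 (3 - 6) u = s⁻¹ * shp σ s) ∧ (ch σ 1 (4 - 1) s * ch σ 6 (4 - 6) u = u) ∧
    (ch σ 1 (5 - 1) s * ch σ 6 (5 - 6) u = s * (shp σ s)⁻¹ * u) ∧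
    (ch σ 1 (6 - 1) s * ch σ 6 (6 - 6) u = (nrm σ s)⁻¹ * u ^ 2) := by
  refine ⟨rfl, rfl, ?_, ?_, rfl, rfl⟩
  · change s⁻¹ * shp σ s * 1 = _
    rw [mul_one]
  · change 1 * u = u
    rw [one_mul]

/-- the element `h (k, l)` of the torus -/
theorem exists_tor (hφ : CubicPair φ) [Finite K] (h : HexTwo (φ : K ≃+* K) x) {k : K} {l : F} (hk : k ≠ 0)
    (hl : l ≠ 0) : ∃ g ∈ h.H, (∀ a, g * x 1 a * g⁻¹ = x 1 (k * a)) ∧
      (∀ a : F, g * x 2 (algebraMap F K a) * g⁻¹ = x 2 (algebraMap F K (((OfPair.cubic hφ).N k * l) * a))) ∧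
      (∀ a, g * x 3 a * g⁻¹ = x 3 (((OfPair.cubic hφ).sh k * algebraMap F K l) * a)) ∧
      (∀ a : F, g * x 4 (algebraMap F K a) * g⁻¹ = x 4 (algebraMap F K (((OfPair.cubic hφ).N k * l ^ 2) * a))) ∧
      (∀ a, g * x 5 a * g⁻¹ = x 5 ((k * algebraMap F K l) * a)) ∧
      (∀ a : F, g * x 6 (algebraMap F K a) * g⁻¹ = x 6 (algebraMap F K (l * a))) := by
  obtain ⟨s, u, hs, hu, hσu, e1, e2, e3, e4, e5, e6⟩ := exists_param hφ hk hl
  obtain ⟨c1, c2, c3, c4, c5, c6⟩ := ch_vals (σ := (φ : K ≃+* K)) s u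
  have okF : ∀ (j : ZMod 12) (a : F), Ok (φ : K ≃+* K) j (algebraMap F K a) := fun j a => ok_of_fix j (φ.commutes a)
  refine ⟨hh x 1 s * hh x 6 u, ⟨s, u, hs, hu, hσu, rfl⟩, fun a => ?_, fun a => ?_, fun a => ?_, fun a => ?_,
    fun a => ?_, fun a => ?_⟩
  · rw [h.H_act hs hu hσu (HexTwo.ok1 a), c1, e1]
  · rw [h.H_act hs hu hσu (okF 2 a), c2, e2, ← map_mul]
  · rw [h.H_act hs hu hσu (HexTwo.ok3 a), c3, e3]
  · rw [h.H_act hs hu hσu (okF 4 a), c4, map_mul, ← e4]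
  · rw [h.H_act hs hu hσu (HexTwo.ok5 a), c5, e5]
  · rw [h.H_act hs hu hσu (okF 6 a), c6, e6, ← map_mul]

/-! ### `Pos` -/

section pos

variable (hφ : CubicPair φ) [Finite K] (h : HexTwo (φ : K ≃+* K) x) (S : VSys (φ : K ≃+* K) x t V)
  (L : Labels φ x t V h)

open Classical in
/-- the element `h (k, l)` -/
noncomputable def hkl (k : K) (l : F) : Γ :=
  if hh : k ≠ 0 ∧ l ≠ 0 then (exists_tor hφ h hh.1 hh.2).choose else 1

theorem hkl_spec {k : K} {l : F} (hk : k ≠ 0) (hl : l ≠ 0) : hkl hφ h k l ∈ h.H ∧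
      (∀ a, hkl hφ h k l * x 1 a * (hkl hφ h k l)⁻¹ = x 1 (k * a)) ∧
      (∀ a : F, hkl hφ h k l * x 2 (algebraMap F K a) * (hkl hφ h k l)⁻¹ =
        x 2 (algebraMap F K (((OfPair.cubic hφ).N k * l) * a))) ∧
      (∀ a, hkl hφ h k l * x 3 a * (hkl hφ h k l)⁻¹ = x 3 (((OfPair.cubic hφ).sh k * algebraMap F K l) * a)) ∧
      (∀ a : F, hkl hφ h k l * x 4 (algebraMap F K a) * (hkl hφ h k l)⁻¹ =
        x 4 (algebraMap F K (((OfPair.cubic hφ).N k * l ^ 2) * a))) ∧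
      (∀ a, hkl hφ h k l * x 5 a * (hkl hφ h k l)⁻¹ = x 5 ((k * algebraMap F K l) * a)) ∧
      (∀ a : F, hkl hφ h k l * x 6 (algebraMap F K a) * (hkl hφ h k l)⁻¹ = x 6 (algebraMap F K (l * a))) := by
  unfold hkl
  rw [dif_pos ⟨hk, hl⟩]
  exact (exists_tor hφ h hk hl).choose_spec

theorem swap_eq {a b c : Γ} (e : ⁅a⁻¹, b⁆ = c) : b * a = a * (c * b) := by
  rw [← e, commutatorElement_def]; group

/-- **the positive part of a grown system** -/
noncomputable def pos : Pos (OfPair.cubic hφ) Γ where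
  y1 := L.YS 1
  y2 := L.YL 2
  y3 := L.YS 3
  y4 := L.YL 4
  y5 := L.YS 5
  y6 := L.YL 6
  add1 := L.addS 1
  add2 := L.addL 2
  add3 := L.addS 3
  add4 := L.addL 4
  add5 := L.addS 5
  add6 := L.addL 6
  r21 u a := (S.c1 1 _ ((L.memS 1 (by decide) _).2 ⟨a, rfl⟩) _ ((L.memL 2 (by decide) _).2 ⟨u, rfl⟩)).symm
  s31 b a := by
    have ha := (L.memS 1 (by decide) _).2 ⟨a, rfl⟩
    have hb := (L.memS 3 (by decide) _).2 ⟨b, rfl⟩
    obtain ⟨s, hs⟩ := (L.memL 2 (by decide) _).1 (S.s2 1 (by decide) _ (inv_mem ha) _ hb)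
    exact ⟨s, swap_eq hs.symm⟩
  r41 u a := (S.c3 1 _ ((L.memS 1 (by decide) _).2 ⟨a, rfl⟩) _ ((L.memL 4 (by decide) _).2 ⟨u, rfl⟩)).symm
  s51 b a := by
    have ha := (L.memS 1 (by decide) _).2 ⟨a, rfl⟩
    have hb := (L.memS 5 (by decide) _).2 ⟨b, rfl⟩
    obtain ⟨p, hp, q, hq, r, hr, e⟩ := mem234 S (S.s4 1 (by decide) _ (inv_mem ha) _ hb)
    obtain ⟨p, rfl⟩ := (L.memL 2 (by decide) _).1 hp
    obtain ⟨q, rfl⟩ := (L.memS 3 (by decide) _).1 hq
    obtain ⟨r, rfl⟩ := (L.memL 4 (by decide) _).1 hr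
    refine ⟨p, q, r, ?_⟩
    rw [swap_eq e.symm]
    simp only [mul_assoc]
  s61 b a := by
    have ha := (L.memS 1 (by decide) _).2 ⟨a, rfl⟩
    have hb := (L.memL 6 (by decide) _).2 ⟨b, rfl⟩
    obtain ⟨p, hp, q, hq, r, hr, d, hd, e⟩ := mem2345 S (S.c5 1 _ (inv_mem ha) _ hb)
    obtain ⟨p, rfl⟩ := (L.memL 2 (by decide) _).1 hp
    obtain ⟨q, rfl⟩ := (L.memS 3 (by decide) _).1 hq
    obtain ⟨r, rfl⟩ := (L.memL 4 (by decide) _).1 hr
    obtain ⟨d, rfl⟩ := (L.memS 5 (by decide) _).1 hd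
    refine ⟨p, q, r, d, ?_⟩
    rw [swap_eq e.symm]
    simp only [mul_assoc]
  r32 b u := (S.c1 2 _ ((L.memL 2 (by decide) _).2 ⟨u, rfl⟩) _ ((L.memS 3 (by decide) _).2 ⟨b, rfl⟩)).symm
  r42 b u := (S.l2 2 (by decide) _ ((L.memL 2 (by decide) _).2 ⟨u, rfl⟩) _ ((L.memL 4 (by decide) _).2 ⟨b, rfl⟩)).symm
  r52 b u := (S.c3 2 _ ((L.memL 2 (by decide) _).2 ⟨u, rfl⟩) _ ((L.memS 5 (by decide) _).2 ⟨b, rfl⟩)).symm
  s62 b a := by
    have ha := (L.memL 2 (by decide) _).2 ⟨a, rfl⟩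
    have hb := (L.memL 6 (by decide) _).2 ⟨b, rfl⟩
    obtain ⟨s, hs⟩ := (L.memL 4 (by decide) _).1 (S.l4 2 (by decide) _ (inv_mem ha) _ hb)
    exact ⟨s, swap_eq hs.symm⟩
  r43 b u := (S.c1 3 _ ((L.memS 3 (by decide) _).2 ⟨u, rfl⟩) _ ((L.memL 4 (by decide) _).2 ⟨b, rfl⟩)).symm
  s53 b a := by
    have ha := (L.memS 3 (by decide) _).2 ⟨a, rfl⟩
    have hb := (L.memS 5 (by decide) _).2 ⟨b, rfl⟩
    obtain ⟨s, hs⟩ := (L.memL 4 (by decide) _).1 (S.s2 3 (by decide) _ (inv_mem ha) _ hb)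
    exact ⟨s, swap_eq hs.symm⟩
  r63 b u := (S.c3 3 _ ((L.memS 3 (by decide) _).2 ⟨u, rfl⟩) _ ((L.memL 6 (by decide) _).2 ⟨b, rfl⟩)).symm
  r54 b u := (S.c1 4 _ ((L.memL 4 (by decide) _).2 ⟨u, rfl⟩) _ ((L.memS 5 (by decide) _).2 ⟨b, rfl⟩)).symm
  r64 b u := (S.l2 4 (by decide) _ ((L.memL 4 (by decide) _).2 ⟨u, rfl⟩) _ ((L.memL 6 (by decide) _).2 ⟨b, rfl⟩)).symm
  r65 b u := (S.c1 5 _ ((L.memS 5 (by decide) _).2 ⟨u, rfl⟩) _ ((L.memL 6 (by decide) _).2 ⟨b, rfl⟩)).symm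
  inj a b c d e f a' b' c' d' e' f' H := by
    obtain ⟨h1, h2, h3, h4, h5, h6⟩ := S.nf _ ((L.memS 1 (by decide) _).2 ⟨a, rfl⟩) _
      ((L.memL 2 (by decide) _).2 ⟨b, rfl⟩) _ ((L.memS 3 (by decide) _).2 ⟨c, rfl⟩) _
      ((L.memL 4 (by decide) _).2 ⟨d, rfl⟩) _ ((L.memS 5 (by decide) _).2 ⟨e, rfl⟩) _
      ((L.memL 6 (by decide) _).2 ⟨f, rfl⟩) _ ((L.memS 1 (by decide) _).2 ⟨a', rfl⟩) _
      ((L.memL 2 (by decide) _).2 ⟨b', rfl⟩) _ ((L.memS 3 (by decide) _).2 ⟨c', rfl⟩) _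
      ((L.memL 4 (by decide) _).2 ⟨d', rfl⟩) _ ((L.memS 5 (by decide) _).2 ⟨e', rfl⟩) _
      ((L.memL 6 (by decide) _).2 ⟨f', rfl⟩) (by simpa only [mul_assoc] using H)
    exact ⟨L.injS 1 (by decide) _ _ h1, L.injL 2 (by decide) _ _ h2, L.injS 3 (by decide) _ _ h3,
      L.injL 4 (by decide) _ _ h4, L.injS 5 (by decide) _ _ h5, L.injL 6 (by decide) _ _ h6⟩
  rel := by
    have h1 := OfHexRel.posRel_of_hexRel hφ h.rel
    have e1 : (fun a => L.YS 1 (a, 0)) = x 1 := funext (L.smallS 1 (by decide))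
    have e2 : (fun a => L.YL 2 (a, 0)) = fun a => x 2 (algebraMap F K a) := funext (L.smallL 2 (by decide))
    have e3 : (fun a => L.YS 3 (a, 0)) = x 3 := funext (L.smallS 3 (by decide))
    have e4 : (fun a => L.YL 4 (a, 0)) = fun a => x 4 (algebraMap F K a) := funext (L.smallL 4 (by decide))
    have e5 : (fun a => L.YS 5 (a, 0)) = x 5 := funext (L.smallS 5 (by decide))
    have e6 : (fun a => L.YL 6 (a, 0)) = fun a => x 6 (algebraMap F K a) := funext (L.smallL 6 (by decide))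
    rw [e1, e2, e3, e4, e5, e6]
    exact h1
  t := t
  t1 := L.tS 1
  t2 := L.tL 2
  t3 := L.tS 3
  t4 := L.tL 4
  t5 := L.tS 5
  t6 := L.tL 6
  h := hkl hφ h
  h1 k l hk hl := L.hS _ (hkl_spec hφ h hk hl).1 1 (by decide) _ (hkl_spec hφ h hk hl).2.1
  h2 k l hk hl := L.hL _ (hkl_spec hφ h hk hl).1 2 (by decide) _ (hkl_spec hφ h hk hl).2.2.1
  h3 k l hk hl := L.hS _ (hkl_spec hφ h hk hl).1 3 (by decide) _ (hkl_spec hφ h hk hl).2.2.2.1
  h4 k l hk hl := L.hL _ (hkl_spec hφ h hk hl).1 4 (by decide) _ (hkl_spec hφ h hk hl).2.2.2.2.1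
  h5 k l hk hl := L.hS _ (hkl_spec hφ h hk hl).1 5 (by decide) _ (hkl_spec hφ h hk hl).2.2.2.2.2.1
  h6 k l hk hl := L.hL _ (hkl_spec hφ h hk hl).1 6 (by decide) _ (hkl_spec hφ h hk hl).2.2.2.2.2.2
  na := nn x 1
  nb := nn x 6
  na_sq := h.nn_sq 1
  nb_sq := h.nn_sq 6
  na2 v := by
    have := L.nL 1 2 (by decide) v
    rwa [h.nn_inv] at this
  na3 v := by
    have := L.nS 1 3 (by decide) v
    rwa [h.nn_inv] at this
  na4 v := by
    have := L.nL 1 4 (by decide) v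
    rwa [h.nn_inv] at this
  nb1 v := by
    have := L.nS 6 1 (by decide) v
    rwa [h.nn_inv] at this
  nb2 v := by
    have := L.nL 6 2 (by decide) v
    rwa [h.nn_inv] at this
  nb3 v := by
    have := L.nS 6 3 (by decide) v
    rwa [h.nn_inv] at this
  rank1 := by
    have e1 : L.YL 6 (1, 0) = x 6 1 := by rw [L.smallL 6 (by decide), map_one]
    have e2 : nn x 6 * x 6 1 * nn x 6 = x (6 + 6) 1 := h.refl' 6 6 (ok_one _ 6)
    rw [e1, e2]
    rfl

end pos

end Cfsg.Agent.HexRing.Lab4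
end

-- part: HexRing/Hyp
section
/-!
# The hypotheses of `exists_qRel`; the doubled root groups from `HexGrow.Grown`
-/

set_option autoImplicit false

namespace Cfsg.Agent.HexRing.Hyp

open Cfsg.Agent.HexRec Cfsg.Agent.HexRing.Def Cfsg.Agent.HexRing.Lab Cfsg.Agent.HexRing.Lab3 Cfsg.Agent.HexRing.Lab4
open Cfsg.Agent.Hex.Defs (CubicPair)
open Cfsg.Agent.StdRank2.Hex
open scoped commutatorElement

variable {F K : Type*} [Field F] [Field K] [Algebra F K]

/-- the norm is not additive -/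
theorem exists_N (C : Cubic F K) (hδ : (∃ l : F, l ^ 2 ≠ l) ∨ ∃ a b : K, C.cr a b ≠ 0) :
    ∃ k : K, C.N (k + 1) ≠ C.N k + 1 := by
  by_contra hcon
  push Not at hcon
  have h1 : ∀ k, C.T (C.sh k) 1 = C.T k 1 := fun k => by
    have h2 := C.N_add' k 1
    rw [hcon k, C.N_one, C.sh_one] at h2
    have h3 := C.two_F
    linear_combination (-1 : F) * h2 - C.T k 1 * h3
  rcases hδ with ⟨l, hl⟩ | ⟨a, b, hab⟩
  · have h2 := h1 (algebraMap F K l * 1)
    rw [C.sh_mul, C.sh_map, C.sh_one, ← map_pow, ← Algebra.smul_def, ← Algebra.smul_def, C.T_smul_left,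
      C.T_smul_left] at h2
    have h3 : C.T 1 1 = 1 := by unfold Cubic.T; rw [mul_one, C.tr_one]
    rw [h3, mul_one, mul_one] at h2
    exact hl h2
  · have h2 : ∀ a b, C.T (C.cr a b) 1 = 0 := fun a b => by
      have h3 := h1 (a + b)
      rw [C.sh_add', C.T_add_left, C.T_add_left, C.T_add_left, h1, h1] at h3
      linear_combination h3
    have h3 : ∀ b, C.cr b 1 = 0 := fun b => by
      apply C.T_nondeg
      intro a
      rw [C.T_comm, ← C.T_cr, h2]
    apply hab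
    by_cases ha : a = 0
    · rw [ha, C.cr_zero_left]
    · have h4 := C.cr_mul a 1 (b / a)
      rw [mul_one, mul_div_cancel₀ _ ha, C.cr_comm 1, h3, mul_zero] at h4
      exact h4

theorem exists_cr {φ : K ≃ₐ[F] K} (hφ : CubicPair φ) (h1 : ∃ a, φ a ≠ a) :
    ∃ a b : K, (OfPair.cubic hφ).cr a b ≠ 0 := by
  by_contra hcon
  push Not at hcon
  obtain ⟨a, ha⟩ := h1
  apply ha
  have h2 := hcon a 1
  rw [OfPair.cubic_cr] at h2
  unfold Cfsg.Agent.Hex.Defs.cr at h2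
  rw [map_one, map_one, mul_one, mul_one] at h2
  apply φ.injective
  linear_combination h2 - φ a * hφ.two

end Cfsg.Agent.HexRing.Hyp
end

-- part: HexEight/Main
section
/-!
# Structure of the grown group (types `G₂(q)`, `³D₄(q)`): the split case

`Split σ x t V y1 y2`: the grown root groups are `V k = y1 k · y2 k` with two commuting hexagonal root systems
interchanged by `t`.  `split_or_qr`: a grown system is split, or satisfies the relations over the quadratic extension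
`F[ω]`, `ω² = β + ω` without roots in `F`.
-/

set_option autoImplicit false
set_option linter.unusedSectionVars false

namespace Cfsg.Agent.HexEight.Main

open Cfsg.Agent.StdRank2.Hex Cfsg.Agent.SplitTwo Cfsg.Agent.StdRank2.Hex.HexTwo Cfsg.Agent.HexEight.Def
open Cfsg.Agent.HexEight.Lab Cfsg.Agent.HexEight.ToPos Cfsg.Agent.HexEight.Alg Cfsg.Agent.HexEight.SplitA
open Cfsg.Agent.HexEight.SplitB Cfsg.Agent.HexEight.SplitC
open Cfsg.Agent.HexRing.Def Cfsg.Agent.HexRec Cfsg.Agent.Hex.Defs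
open scoped commutatorElement

/-- the group generated by the root groups in `S` -/
def Gen {K : Type*} [Field K] (σ : K ≃+* K) {G : Type*} [Group G] (x : ZMod 12 → K → G) (S : Set (ZMod 12)) :
    Subgroup G :=
  Subgroup.closure {y : G | ∃ k ∈ S, ∃ a, Ok σ k a ∧ y = x k a}

/-- the positive roots -/
def Pl : Set (ZMod 12) := {1, 2, 3, 4, 5, 6}

/-- **The split case.** -/
structure Split {K : Type*} [Field K] (σ : K ≃+* K) {G : Type*} [Group G] (x : ZMod 12 → K → G) (t : G)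
    (V : ZMod 12 → Subgroup G) (y1 y2 : ZMod 12 → K → G) : Prop where
  hex1 : HexTwo σ y1
  hex2 : HexTwo σ y2
  comm : ∀ k l a b, Ok σ k a → Ok σ l b → Commute (y1 k a) (y2 l b)
  mul : ∀ k a, Ok σ k a → x k a = y1 k a * y2 k a
  t1 : ∀ k a, Ok σ k a → t * y1 k a * t⁻¹ = y2 k a
  t2 : ∀ k a, Ok σ k a → t * y2 k a * t⁻¹ = y1 k a
  mem1 : ∀ k a, Ok σ k a → y1 k a ∈ V k
  mem2 : ∀ k a, Ok σ k a → y2 k a ∈ V k
  surj : ∀ k, ∀ y ∈ V k, ∃ a b, Ok σ k a ∧ Ok σ k b ∧ y = y1 k a * y2 k b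
  refl1 : ∀ c k a, Ok σ k a → nn x c * y1 k a * (nn x c)⁻¹ = y1 (2 * c + 6 - k) a
  refl2 : ∀ c k a, Ok σ k a → nn x c * y2 k a * (nn x c)⁻¹ = y2 (2 * c + 6 - k) a
  tor11 : ∀ s, s ≠ 0 → ∀ k a, Ok σ k a → hh x 1 s * y1 k a * (hh x 1 s)⁻¹ = y1 k (chS σ (k - 1) s * a)
  tor12 : ∀ s, s ≠ 0 → ∀ k a, Ok σ k a → hh x 1 s * y2 k a * (hh x 1 s)⁻¹ = y2 k (chS σ (k - 1) s * a)
  tor61 : ∀ s, s ≠ 0 → σ s = s → ∀ k a, Ok σ k a → hh x 6 s * y1 k a * (hh x 6 s)⁻¹ = y1 k (chL (k - 6) s * a)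
  tor62 : ∀ s, s ≠ 0 → σ s = s → ∀ k a, Ok σ k a → hh x 6 s * y2 k a * (hh x 6 s)⁻¹ = y2 k (chL (k - 6) s * a)
  /-- `S₁ ∩ S₂ = 1` -/
  disj : ∀ u, u ∈ Gen σ y1 Pl → u ∈ Gen σ y2 Pl → u = 1

namespace Split

variable {K : Type*} [Field K] {σ : K ≃+* K} {G : Type*} [Group G] {x : ZMod 12 → K → G} {t : G}
  {V : ZMod 12 → Subgroup G} {y1 y2 : ZMod 12 → K → G} (h : Split σ x t V y1 y2)

include h

/-- the two families have the same rights -/
theorem symm : Split σ x t V y2 y1 where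
  hex1 := h.hex2
  hex2 := h.hex1
  comm k l a b ha hb := (h.comm l k b a hb ha).symm
  mul k a ha := by rw [h.mul k a ha, (h.comm k k a a ha ha).eq]
  t1 := h.t2
  t2 := h.t1
  mem1 := h.mem2
  mem2 := h.mem1
  surj k y hy := by
    obtain ⟨a, b, ha, hb, rfl⟩ := h.surj k y hy
    exact ⟨b, a, hb, ha, (h.comm k k a b ha hb).eq⟩
  refl1 := h.refl2
  refl2 := h.refl1
  tor11 := h.tor12
  tor12 := h.tor11
  tor61 := h.tor62
  tor62 := h.tor61
  disj u h1 h2 := h.disj u h2 h1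

end Split

variable {G : Type*} [Group G] {t : G} {V : ZMod 12 → Subgroup G}
  {F K : Type*} [Field F] [Field K] [Algebra F K] {φ : K ≃ₐ[F] K} {hφ : CubicPair φ} [Finite K]
  {x : ZMod 12 → K → G} (g : Gr (φ : K ≃+* K) x t V)

include g in
theorem split_of_root [Finite G] {z : ZMod 12 → K → G} (L : Lab (φ : K ≃+* K) x t V z)
    {β : F} {c : K} (hQ : QR hφ g L β c) {c0 : F} (hc : c0 * c0 + c0 = β) :
    Split (φ : K ≃+* K) x t V (fam x z (algebraMap F K c0) c) (fam x z (algebraMap F K (c0 + 1)) c) := by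
  have hc1 := hc_succ (OfPair.cubic hφ) hc
  have h0 : (φ : K ≃+* K) (algebraMap F K c0) = algebraMap F K c0 := φ.commutes c0
  have h1 : (φ : K ≃+* K) (algebraMap F K (c0 + 1)) = algebraMap F K (c0 + 1) := φ.commutes _
  have hs : algebraMap F K (c0 + 1) + 1 = algebraMap F K c0 := by
    rw [← (algebraMap F K).map_one, ← map_add, succ_succ (OfPair.cubic hφ)]
  refine
    { hex1 := hexTwo_fam g L hQ hc
      hex2 := hexTwo_fam g L hQ hc1
      comm := fun k l a b ha hb => Cm_all g L hQ hc k l a b ha hb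
      mul := fun k a ha => x_eq g L hQ hc ha
      t1 := fun k a ha => by rw [fam_t g L h0 c ha, map_add, map_one]
      t2 := fun k a ha => by rw [fam_t g L h1 c ha, hs]
      mem1 := fun k a ha => fam_mem g L h0 c ha
      mem2 := fun k a ha => fam_mem g L h1 c ha
      surj := fun k y hy => by
        obtain ⟨a, b, ha, hb, e⟩ := fam_surj g L h0 c hy
        refine ⟨a, b, ha, hb, ?_⟩
        rw [e, map_add, map_one]
      refl1 := fun c' k a ha => fam_refl g L h0 c c' ha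
      refl2 := fun c' k a ha => fam_refl g L h1 c c' ha
      tor11 := fun s hs k a ha => fam_tor1 g L h0 c hs ha
      tor12 := fun s hs k a ha => fam_tor1 g L h1 c hs ha
      tor61 := fun s hs hs' k a ha => fam_tor6 g L h0 c hs hs' ha
      tor62 := fun s hs hs' k a ha => fam_tor6 g L h1 c hs hs' ha
      disj := ?_ }
  intro u hu1 hu2
  obtain ⟨a1, a2, a3, a4, a5, a6, o2, o4, o6, rfl⟩ := exists_prod g L hQ hc hu1
  obtain ⟨b1, b2, b3, b4, b5, b6, p2, p4, p6, e⟩ := exists_prod g L hQ hc1 hu2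
  have m1 := fun (k : ZMod 12) {a : K} (ha : Ok (φ : K ≃+* K) k a) => fam_mem g L h0 c ha
  have m2 := fun (k : ZMod 12) {a : K} (ha : Ok (φ : K ≃+* K) k a) => fam_mem g L h1 c ha
  obtain ⟨q1, q2, q3, q4, q5, q6⟩ := g.nf _ (m1 1 (ok1 a1)) _ (m1 2 o2) _ (m1 3 (ok3 a3)) _ (m1 4 o4) _
    (m1 5 (ok5 a5)) _ (m1 6 o6) _ (m2 1 (ok1 b1)) _ (m2 2 p2) _ (m2 3 (ok3 b3)) _ (m2 4 p4) _ (m2 5 (ok5 b5)) _
    (m2 6 p6) (by simpa only [mul_assoc] using e)
  have key : ∀ {k : ZMod 12} {a b : K}, Ok (φ : K ≃+* K) k a → Ok (φ : K ≃+* K) k b →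
      fam x z (algebraMap F K c0) c k a = fam x z (algebraMap F K (c0 + 1)) c k b → a = 0 := by
    intro k a b ha hb e
    obtain ⟨e1, e2⟩ := Y_inj g L ((ok_dd h0 k).mul ha) ha ((ok_dd h1 k).mul hb) hb e
    subst e2
    rw [map_add, map_one, dd_succ, add_mul, one_mul] at e1
    exact left_eq_add.1 e1
  rw [key (ok1 a1) (ok1 b1) q1, key o2 p2 q2, key (ok3 a3) (ok3 b3) q3, key o4 p4 q4, key (ok5 a5) (ok5 b5) q5,
    key o6 p6 q6]
  simp only [fam_zero g L h0 c, mul_one]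

/-- **Split or quadratic field.** -/
theorem split_or_qr [Finite G] (hφ : CubicPair φ) (hδ : (∃ l : F, l ^ 2 ≠ l) ∨ ∃ a, φ a ≠ a)
    (g : Gr (φ : K ≃+* K) x t V) :
    (∃ y1 y2, Split (φ : K ≃+* K) x t V y1 y2) ∨
      ∃ (z : ZMod 12 → K → G) (L : Lab (φ : K ≃+* K) x t V z) (β : F) (c : K), QR hφ g L β c ∧
        ¬ ∃ c0 : F, c0 * c0 + c0 = β := by
  obtain ⟨z, L⟩ := exists_lab g
  have hδ' : (∃ l : F, l ^ 2 ≠ l) ∨ ∃ a b : K, (OfPair.cubic hφ).cr a b ≠ 0 := by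
    rcases hδ with h | h
    · exact Or.inl h
    · exact Or.inr (HexRing.Hyp.exists_cr hφ h)
  obtain ⟨β, c, hQ⟩ := HexRing.Main.exists_qRel (pos hφ g L) (HexRing.Hyp.exists_N _ hδ') hδ'
  by_cases hc : ∃ c0 : F, c0 * c0 + c0 = β
  · obtain ⟨c0, hc⟩ := hc
    exact Or.inl ⟨_, _, split_of_root g L hQ hc⟩
  · exact Or.inr ⟨z, L, β, c, hQ, hc⟩

end Cfsg.Agent.HexEight.Main
end

-- part: WreathFusion/HexUni
section
/-!
# Hexagonal 2-groups satisfy the hypotheses of Theorem W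

`P ≤ G` with coordinates `co : Coord C P` (Sylow 2-subgroups of `G₂(q)`, `q ≥ 4`, and `³D₄(q)`): `P` is centrally
indecomposable and `C_P(P') ≤ P'`.
-/

set_option autoImplicit false

namespace Cfsg.Agent.WreathFusion.HexUni

open Subgroup Cfsg.Agent.HexRec Cfsg.Agent.HexEss
open scoped commutatorElement

variable {F K : Type*} [Field F] [Field K] [Algebra F K] {C : Cubic F K}

/-- the facts on the cubic data which are used -/
structure Gd (C : Cubic F K) : Prop where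
  g1 : ∀ r s : K, (∀ t, C.cr t r = 0) → (∀ t, C.T t s + C.T (C.sh t) r = 0) → r = 0 ∧ s = 0
  g2 : ∀ x : K, (∀ t, C.cr x t = 0) → (∀ t, C.T x (C.sh t) + C.T (C.sh x) t = 0) → x = 0
  g3 : ∀ r s : K, (∀ t, C.T (C.sh t) r + C.T s t = 0) → (∀ t r', C.T (C.cr t r') r = 0) → r = 0 ∧ s = 0

/-- first sufficient condition: `|F| > 2` -/
theorem Gd.of_two_lt (hF : ∃ f : F, f ≠ 0 ∧ f ≠ 1) (hsh : ∀ r, (∀ t, C.T (C.sh t) r = 0) → r = 0) : Gd C := by
  have := charPF C
  obtain ⟨f, hf0, hf1⟩ := hF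
  have hff : f ^ 2 + f ≠ 0 := by
    intro h
    have h1 : f * (f + 1) = 0 := by rw [← h]; ring
    rcases mul_eq_zero.1 h1 with h2 | h2
    · exact hf0 h2
    · exact hf1 (C.eq_of_add_eq_zero h2)
  have key : ∀ a b : F, a + b = 0 → f * a + f ^ 2 * b = 0 → a = 0 ∧ b = 0 := by
    intro a b h1 h2
    have h3 : a = b := C.eq_of_add_eq_zero h1
    rw [h3] at h2
    have h4 : (f ^ 2 + f) * b = 0 := by rw [← h2]; ring
    have h5 : b = 0 := (mul_eq_zero.1 h4).resolve_left hff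
    exact ⟨h3.trans h5, h5⟩
  have k1 : ∀ r s : K, (∀ t, C.T t s + C.T (C.sh t) r = 0) → r = 0 ∧ s = 0 := by
    intro r s h
    have h1 : ∀ t, C.T t s = 0 ∧ C.T (C.sh t) r = 0 := by
      intro t
      apply key _ _ (h t)
      have := h (f • t)
      rwa [C.sh_smul, C.T_smul_left, C.T_smul_left] at this
    refine ⟨hsh r fun t => (h1 t).2, C.T_nondeg fun t => ?_⟩
    rw [C.T_comm]
    exact (h1 t).1
  refine ⟨fun r s _ h => k1 r s h, ?_, ?_⟩
  · intro x _ h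
    have h1 : ∀ t, C.T (C.sh x) t = 0 := by
      intro t
      refine (key _ _ (by rw [add_comm]; exact h t) ?_).1
      have := h (f • t)
      rw [C.sh_smul, C.T_smul_right, C.T_smul_right] at this
      rw [add_comm]
      exact this
    have h2 : C.sh x = 0 := C.T_nondeg h1
    by_contra hx
    exact C.sh_ne_zero hx h2
  · intro r s h _
    apply k1
    intro t
    rw [C.T_comm t s, add_comm]
    exact h t

/-- second sufficient condition: `a × b` is nondegenerate -/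
theorem Gd.of_cr (h : ∀ r, (∀ t, C.cr t r = 0) → r = 0) : Gd C where
  g1 r s h1 h2 := by
    have hr := h r h1
    refine ⟨hr, C.T_nondeg fun t => ?_⟩
    have := h2 t
    rwa [hr, C.T_zero_right, add_zero, C.T_comm] at this
  g2 x h1 _ := h x fun t => by rw [C.cr_comm]; exact h1 t
  g3 r s h1 h2 := by
    have hr : r = 0 := by
      apply h
      intro r'
      apply C.T_nondeg
      intro t
      rw [C.T_comm, ← C.T_cr]
      exact h2 t r'
    refine ⟨hr, C.T_nondeg fun t => ?_⟩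
    have := h1 t
    rwa [hr, C.T_zero_right, zero_add] at this

/-- `a ↦ a^#` is surjective if `K` is finite -/
theorem exists_sh [Finite K] (a : K) : ∃ b, C.sh b = a := by
  have hinj : Function.Injective C.sh := by
    intro a b hab
    by_cases hb : b = 0
    · rw [hb, C.sh_zero] at hab
      by_contra ha
      exact C.sh_ne_zero (a := a) (by rw [hb] at ha; exact ha) hab
    · have h1 : C.sh (a / b) = 1 := by
        have h2 : C.sh (a / b) * C.sh b = C.sh b := by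
          rw [← C.sh_mul, div_mul_cancel₀ _ hb, hab]
        have h3 := C.sh_ne_zero hb
        exact mul_right_cancel₀ h3 (by rw [h2, one_mul])
      have h2 : algebraMap F K (C.N (a / b)) = a / b := by rw [C.N_map, h1, mul_one]
      have h3 : (a / b) ^ 2 = 1 := by rw [← h1, ← h2, C.sh_map]
      have h4 : (a / b + 1) ^ 2 = 0 := by
        linear_combination h3 + (a / b + 1) * C.two_K
      have h5 : a / b = 1 := C.eq_of_add_eq_zeroK (pow_eq_zero_iff (two_ne_zero)|>.1 h4)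
      rw [div_eq_one_iff_eq hb] at h5
      exact h5
  exact (Finite.injective_iff_surjective.1 hinj) a

theorem Gd.of_card [Finite F] [Finite K] (hF : 2 < Nat.card F) : Gd C := by
  apply Gd.of_two_lt
  · by_contra hcon
    push Not at hcon
    have h1 : Set.univ ⊆ ({0, 1} : Set F) := by
      intro f _
      by_cases hf : f = 0
      · exact Or.inl hf
      · exact Or.inr (hcon f hf)
    have h2 := Set.ncard_le_ncard h1
    rw [Set.ncard_univ] at h2
    have h3 := Set.ncard_insert_le (0 : F) {1}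
    rw [Set.ncard_singleton] at h3
    omega
  · intro r h
    apply C.T_nondeg
    intro b
    obtain ⟨t, rfl⟩ := exists_sh (C := C) b
    rw [C.T_comm]
    exact h t

/-- `|F| = 2`, `|K| > 4` -/
theorem Gd.of_card_two [Finite F] [Finite K] (hF : Nat.card F = 2) (hK : 4 < Nat.card K) : Gd C := by
  have hone : ∀ f : F, f ≠ 0 → f = 1 := by
    intro f hf
    by_contra hf1
    have h1 : ({0, 1, f} : Set F).ncard = 3 := by
      rw [Set.ncard_eq_three]
      exact ⟨0, 1, f, zero_ne_one, hf.symm, fun h => hf1 h.symm, rfl⟩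
    have h2 := Set.ncard_le_ncard (Set.subset_univ ({0, 1, f} : Set F))
    rw [Set.ncard_univ, hF, h1] at h2
    omega
  have hsh : ∀ a : K, a ≠ 0 → C.sh a = a⁻¹ := by
    intro a ha
    have h1 := C.N_map a
    rw [hone _ (C.N_ne_zero ha), map_one] at h1
    exact (eq_inv_of_mul_eq_one_right h1.symm)
  apply Gd.of_cr
  intro r hr
  by_contra hr0
  -- every `w ≠ 0, 1` satisfies `w² + w + 1 = 0`
  have h1 : ∀ w : K, w ≠ 0 → w ≠ 1 → w ^ 2 + w + 1 = 0 := by
    intro w hw0 hw1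
    have h2 := hr (w * r)
    have h3 : w * r ≠ 0 := mul_ne_zero hw0 hr0
    have h4 : w * r + r ≠ 0 := by
      intro h
      apply hw1
      have h5 : w * r = r := C.eq_of_add_eq_zeroK h
      exact mul_right_cancel₀ hr0 (by rw [h5, one_mul])
    have h5 : w + 1 ≠ 0 := by
      intro h
      exact hw1 (C.eq_of_add_eq_zeroK h)
    unfold Cubic.cr at h2
    rw [hsh _ h3, hsh _ h4, hsh _ hr0] at h2
    have h6 : w * r + r = (w + 1) * r := by ring
    rw [h6] at h2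
    have h7 : ((w + 1) * r)⁻¹ + (w * r)⁻¹ + r⁻¹ = (w + (w + 1) + w * (w + 1)) * ((w + 1) * w * r)⁻¹ := by
      field_simp
    rw [h7] at h2
    have h8 := (mul_eq_zero.1 h2).resolve_right (inv_ne_zero (mul_ne_zero (mul_ne_zero h5 hw0) hr0))
    linear_combination h8 - w * C.two_K
  -- too many roots
  have h2 : (Set.univ : Set K) ⊆ ({0, 1} ∪ {w | w ^ 2 + w + 1 = 0} : Set K) := by
    intro w _
    by_cases hw0 : w = 0
    · exact Or.inl (Or.inl hw0)
    by_cases hw1 : w = 1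
    · exact Or.inl (Or.inr hw1)
    exact Or.inr (h1 w hw0 hw1)
  have h3 : ({w | w ^ 2 + w + 1 = 0} : Set K).ncard ≤ 2 := by
    by_cases hex : ∃ w₀ : K, w₀ ^ 2 + w₀ + 1 = 0
    · obtain ⟨w₀, hw₀⟩ := hex
      have h4 : ({w | w ^ 2 + w + 1 = 0} : Set K) ⊆ {w₀, w₀ + 1} := by
        intro w hw
        have hw' : w ^ 2 + w + 1 = 0 := hw
        have h5 : (w + w₀) * (w + w₀ + 1) = 0 := by
          linear_combination hw' + hw₀ + (w * w₀ - 1) * C.two_K
        rcases mul_eq_zero.1 h5 with h6 | h6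
        · exact Or.inl (C.eq_of_add_eq_zeroK h6)
        · right
          have h7 : w + (w₀ + 1) = 0 := by rw [← h6]; ring
          exact C.eq_of_add_eq_zeroK h7
      refine (Set.ncard_le_ncard h4).trans ?_
      refine (Set.ncard_insert_le _ _).trans ?_
      rw [Set.ncard_singleton]
    · have h4 : ({w | w ^ 2 + w + 1 = 0} : Set K) = ∅ := by
        ext w
        simp only [Set.mem_ofPred_eq, Set.mem_empty_iff_false, iff_false]
        exact fun h => hex ⟨w, h⟩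
      rw [h4, Set.ncard_empty]
      exact Nat.zero_le _
  have h4 := Set.ncard_le_ncard h2
  rw [Set.ncard_univ] at h4
  have h5 := Set.ncard_union_le ({0, 1} : Set K) {w | w ^ 2 + w + 1 = 0}
  have h6 := Set.ncard_insert_le (0 : K) {1}
  rw [Set.ncard_singleton] at h6
  omega

section Group

variable {G : Type*} [Group G] {P : Subgroup G} {co : Coord C P}

/-- an element with `a1 = a3 = a5 = a6 = a2 = 0` is central -/
theorem comm_of_center {x : G} (hx : x ∈ P) (h1 : (cx co x).a1 = 0) (h2 : (cx co x).a2 = 0)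
    (h3 : (cx co x).a3 = 0) (h5 : (cx co x).a5 = 0) (h6 : (cx co x).a6 = 0) {g : G} (hg : g ∈ P) :
    g * x = x * g := by
  rw [← cm_eq_one]
  apply eq_one_of_cx (co := co) (cm_mem hg hx) (a1_cm hg hx)
  · rw [a2_cm_F0 hg hx h1 h5 h6, h3, C.T_zero_right]
  · exact a3_cm_F0 hg hx h1 h5 h6
  · rw [a4_cm_F0 hg hx h1 h5 h6, h2, h3, C.T_zero_right, mul_zero, add_zero]
  · exact a5_cm_R hg hx h1 h6
  · exact a6_cm hg hx

theorem centIndec_aux (hG : Gd C) {A B : Subgroup G} (hA : A ≤ P) (hB : B ≤ P)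
    (hc : ∀ a ∈ A, ∀ b ∈ B, a * b = b * a) (hg : ∀ s ∈ P, ∃ a ∈ A, ∃ b ∈ B, a * b = s)
    (h0 : ∀ a ∈ A, (cx co a).a1 = 0 ∧ (cx co a).a6 = 0) : A ≤ centralizer (P : Set G) := by
  have hex : ∀ t u, ∃ b ∈ B, (cx co b).a1 = t ∧ (cx co b).a6 = u := by
    intro t u
    obtain ⟨g, hgP, hgc⟩ := exists_cx (co := co) ⟨t, 0, 0, 0, 0, u⟩
    obtain ⟨a, ha, b, hb, rfl⟩ := hg g hgP
    refine ⟨b, hb, ?_, ?_⟩
    · have := a1_mul (co := co) (hA ha) (hB hb)
      rw [hgc, (h0 a ha).1, zero_add] at this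
      exact this.symm
    · have := a6_mul (co := co) (hA ha) (hB hb)
      rw [hgc, (h0 a ha).2, zero_add] at this
      exact this.symm
  intro x hx
  obtain ⟨h1, h6⟩ := h0 x hx
  have hxP := hA hx
  have hcm : ∀ b ∈ B, cm b x = 1 := fun b hb => cm_eq_one.2 (hc x hx b hb).symm
  have h53 : (cx co x).a5 = 0 ∧ (cx co x).a3 = 0 := by
    apply hG.g1
    · intro t
      obtain ⟨b, hb, hb1, -⟩ := hex t 0
      have := a3_cm_R (co := co) (hB hb) hxP h1 h6
      rw [hcm b hb, cx_one, hb1] at this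
      exact this.symm
    · intro t
      obtain ⟨b, hb, hb1, -⟩ := hex t 0
      have := a2_cm_R (co := co) (hB hb) hxP h1 h6
      rw [hcm b hb, cx_one, hb1] at this
      exact this.symm
  have h2 : (cx co x).a2 = 0 := by
    obtain ⟨b, hb, -, hb6⟩ := hex 0 1
    have := a4_cm_F0 (co := co) (hB hb) hxP h1 h53.1 h6
    rw [hcm b hb, cx_one, hb6, h53.2, C.T_zero_right, one_mul, add_zero] at this
    exact this.symm
  rw [mem_centralizer_iff]
  intro g hgP
  exact comm_of_center hxP h1 h2 h53.2 h53.1 h6 hgP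

/-- **(W1)** -/
theorem centIndec (co : Coord C P) (hG : Gd C) : CentIndec P := by
  intro A B hA hB hc hg
  have star : ∀ x ∈ A, ∀ y ∈ B, (cx co x).a6 • (cx co y).a1 = (cx co y).a6 • (cx co x).a1 := by
    intro x hx y hy
    have h1 := a5_cm (co := co) (hA hx) (hB hy)
    rw [cm_eq_one.2 (hc x hx y hy), cx_one] at h1
    exact C.eq_of_add_eq_zeroK h1.symm
  have hdich : (∀ a ∈ A, (cx co a).a1 = 0 ∧ (cx co a).a6 = 0) ∨ ∀ b ∈ B, (cx co b).a1 = 0 ∧ (cx co b).a6 = 0 := by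
    by_contra hcon
    rw [not_or] at hcon
    obtain ⟨hcA, hcB⟩ := hcon
    push Not at hcA hcB
    obtain ⟨x₀, hx₀, hx₀'⟩ := hcA
    obtain ⟨y₀, hy₀, hy₀'⟩ := hcB
    by_cases hy : ∃ y ∈ B, (cx co y).a6 ≠ 0
    · obtain ⟨y₁, hy₁, hy₁'⟩ := hy
      have hx6 : (cx co x₀).a6 ≠ 0 := by
        intro h0
        have h1 := star x₀ hx₀ y₁ hy₁
        rw [h0, zero_smul] at h1
        have h2 : (cx co x₀).a1 = 0 := (smul_eq_zero.1 h1.symm).resolve_left hy₁'
        exact hx₀' h2 h0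
      set κ := (cx co x₀).a6⁻¹ • (cx co x₀).a1 with hκ
      have hB' : ∀ y ∈ B, (cx co y).a1 = (cx co y).a6 • κ := by
        intro y hy
        have h1 := star x₀ hx₀ y hy
        rw [hκ, smul_comm, ← h1, smul_smul, inv_mul_cancel₀ hx6, one_smul]
      have hA' : ∀ x ∈ A, (cx co x).a1 = (cx co x).a6 • κ := by
        intro x hx
        have h1 := star x hx y₁ hy₁
        rw [hB' y₁ hy₁, smul_comm] at h1
        have h2 := congrArg (fun t => (cx co y₁).a6⁻¹ • t) h1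
        simp only [smul_smul, ← mul_assoc, inv_mul_cancel₀ hy₁', one_mul, one_smul] at h2
        exact h2.symm
      obtain ⟨g, hgP, hgc⟩ := exists_cx (co := co) ⟨1, 0, 0, 0, 0, 0⟩
      obtain ⟨a, ha, b, hb, rfl⟩ := hg g hgP
      have h1 := a1_mul (co := co) (hA ha) (hB hb)
      have h6 := a6_mul (co := co) (hA ha) (hB hb)
      rw [hgc] at h1 h6
      rw [hA' a ha, hB' b hb, ← add_smul, ← h6] at h1
      simp at h1
    · push Not at hy
      have hy1 : (cx co y₀).a1 ≠ 0 := fun h => hy₀' h (hy y₀ hy₀)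
      have hx6 : ∀ x ∈ A, (cx co x).a6 = 0 := by
        intro x hx
        have h1 := star x hx y₀ hy₀
        rw [hy y₀ hy₀, zero_smul] at h1
        exact (smul_eq_zero.1 h1).resolve_right hy1
      obtain ⟨g, hgP, hgc⟩ := exists_cx (co := co) ⟨0, 0, 0, 0, 0, 1⟩
      obtain ⟨a, ha, b, hb, rfl⟩ := hg g hgP
      have h6 := a6_mul (co := co) (hA ha) (hB hb)
      rw [hgc, hx6 a ha, hy b hb] at h6
      simp at h6
  rcases hdich with h | h
  · exact Or.inl (centIndec_aux hG hA hB hc hg h)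
  · refine Or.inr (centIndec_aux hG hB hA (fun b hb a ha => (hc a ha b hb).symm) (fun s hs => ?_) h)
    obtain ⟨a, ha, b, hb, hab⟩ := hg s hs
    exact ⟨b, hb, a, ha, by rw [← hc a ha b hb]; exact hab⟩

theorem cm_mem_commutator {g h : G} (hg : g ∈ P) (hh : h ∈ P) : cm g h ∈ ⁅P, P⁆ :=
  Subgroup.commutator_mem_commutator hg hh

/-- **(W2)** -/
theorem centralizer_le (co : Coord C P) (hG : Gd C) :
    centralizer ((⁅P, P⁆ : Subgroup G) : Set G) ⊓ P ≤ ⁅P, P⁆ := by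
  intro x hx
  obtain ⟨hxC, hxP⟩ := mem_inf.1 hx
  have hc : ∀ w ∈ ⁅P, P⁆, cm x w = 1 := fun w hw => cm_eq_one.2 (mem_centralizer_iff.1 hxC w hw).symm
  have hPP : ⁅P, P⁆ ≤ P := Subgroup.commutator_le_self P
  -- `X₂ ≤ P'`
  have hX2 : ∀ p : F, ∃ w ∈ ⁅P, P⁆, cx co w = ⟨0, p, 0, 0, 0, 0⟩ := by
    intro p
    obtain ⟨g, hg, hgc⟩ := exists_cx (co := co) ⟨1, 0, 0, 0, 0, 0⟩
    obtain ⟨h, hh, hhc⟩ := exists_cx (co := co) ⟨0, 0, algebraMap F K p, 0, 0, 0⟩
    have e1 : (cx co h).a1 = 0 := by rw [hhc]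
    have e5 : (cx co h).a5 = 0 := by rw [hhc]
    have e6 : (cx co h).a6 = 0 := by rw [hhc]
    refine ⟨cm g h, cm_mem_commutator hg hh, Tup.ext (a1_cm hg hh) ?_ (a3_cm_F0 hg hh e1 e5 e6) ?_
      (a5_cm_R hg hh e1 e6) (a6_cm hg hh)⟩
    · rw [a2_cm_F0 hg hh e1 e5 e6, hgc, hhc]
      change C.T 1 (algebraMap F K p) = p
      unfold Cubic.T
      rw [one_mul, Algebra.algebraMap_eq_smul_one, map_smul, C.tr_one, smul_eq_mul, mul_one]
    · rw [a4_cm_F0 hg hh e1 e5 e6, hgc, hhc]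
      change (0 : F) * 0 + C.T 0 _ = 0
      rw [C.T_zero_left, mul_zero, add_zero]
  have hX4 : ∀ z : F, ∃ w ∈ ⁅P, P⁆, cx co w = ⟨0, 0, 0, z, 0, 0⟩ := by
    intro z
    obtain ⟨g, hg, hgc⟩ := exists_cx (co := co) ⟨0, 0, 0, 0, 0, 1⟩
    obtain ⟨h, hh, hhc⟩ := exists_cx (co := co) ⟨0, z, 0, 0, 0, 0⟩
    have e1 : (cx co h).a1 = 0 := by rw [hhc]
    have e5 : (cx co h).a5 = 0 := by rw [hhc]
    have e6 : (cx co h).a6 = 0 := by rw [hhc]
    refine ⟨cm g h, cm_mem_commutator hg hh, Tup.ext (a1_cm hg hh) ?_ (a3_cm_F0 hg hh e1 e5 e6) ?_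
      (a5_cm_R hg hh e1 e6) (a6_cm hg hh)⟩
    · rw [a2_cm_F0 hg hh e1 e5 e6, hgc, hhc]
      exact C.T_zero_right _
    · rw [a4_cm_F0 hg hh e1 e5 e6, hgc, hhc]
      change (1 : F) * z + C.T 0 _ = z
      rw [C.T_zero_left, one_mul, add_zero]
  -- `a6 x = 0`
  have h6 : (cx co x).a6 = 0 := by
    obtain ⟨w, hw, hwc⟩ := hX2 1
    have e1 : (cx co w).a1 = 0 := by rw [hwc]
    have e5 : (cx co w).a5 = 0 := by rw [hwc]
    have e6 : (cx co w).a6 = 0 := by rw [hwc]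
    have := a4_cm_F0 (co := co) hxP (hPP hw) e1 e5 e6
    rw [hc w hw, cx_one, hwc] at this
    change (0 : F) = (cx co x).a6 * 1 + C.T _ 0 at this
    rw [C.T_zero_right, mul_one, add_zero] at this
    exact this.symm
  -- the elements `[x1(t), x6(1)]`
  have hW : ∀ t : K, ∃ w ∈ ⁅P, P⁆, (cx co w).a1 = 0 ∧ (cx co w).a6 = 0 ∧ (cx co w).a5 = t ∧
      (cx co w).a3 = C.sh t := by
    intro t
    obtain ⟨g, hg, hgc⟩ := exists_cx (co := co) ⟨t, 0, 0, 0, 0, 0⟩
    obtain ⟨h, hh, hhc⟩ := exists_cx (co := co) ⟨0, 0, 0, 0, 0, 1⟩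
    have e1 : (cx co h).a1 = 0 := by rw [hhc]
    refine ⟨cm g h, cm_mem_commutator hg hh, a1_cm hg hh, a6_cm hg hh, ?_, ?_⟩
    · rw [a5_cm_Da hg hh e1, hgc, hhc]
      exact one_smul _ _
    · rw [a3_cm_Da hg hh e1, hgc, hhc]
      change (1 : F) • C.sh t + C.cr t 0 = C.sh t
      rw [C.cr_zero_right, one_smul, add_zero]
  have hV : ∀ t r : K, ∃ w ∈ ⁅P, P⁆, (cx co w).a1 = 0 ∧ (cx co w).a6 = 0 ∧ (cx co w).a5 = 0 ∧
      (cx co w).a3 = C.cr t r := by
    intro t r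
    obtain ⟨g, hg, hgc⟩ := exists_cx (co := co) ⟨t, 0, 0, 0, 0, 0⟩
    obtain ⟨h, hh, hhc⟩ := exists_cx (co := co) ⟨0, 0, 0, 0, r, 0⟩
    have e1 : (cx co h).a1 = 0 := by rw [hhc]
    have e6 : (cx co h).a6 = 0 := by rw [hhc]
    refine ⟨cm g h, cm_mem_commutator hg hh, a1_cm hg hh, a6_cm hg hh, a5_cm_R hg hh e1 e6, ?_⟩
    rw [a3_cm_R hg hh e1 e6, hgc, hhc]
  have h1 : (cx co x).a1 = 0 := by
    apply hG.g2
    · intro t
      obtain ⟨w, hw, w1, w6, w5, -⟩ := hW t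
      have := a3_cm_R (co := co) hxP (hPP hw) w1 w6
      rw [hc w hw, cx_one, w5] at this
      exact this.symm
    · intro t
      obtain ⟨w, hw, w1, w6, w5, w3⟩ := hW t
      have := a2_cm_R (co := co) hxP (hPP hw) w1 w6
      rw [hc w hw, cx_one, w5, w3] at this
      exact this.symm
  have h53 : (cx co x).a5 = 0 ∧ (cx co x).a3 = 0 := by
    apply hG.g3
    · intro t
      obtain ⟨w, hw, w1, w6, w5, w3⟩ := hW t
      have := a4_cm_R (co := co) hxP (hPP hw) w1 w6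
      rw [hc w hw, cx_one, w5, w3, h6, h1, zero_mul, C.T_zero_left, zero_add, add_zero] at this
      exact this.symm
    · intro t r
      obtain ⟨w, hw, w1, w6, w5, w3⟩ := hV t r
      have := a4_cm_R (co := co) hxP (hPP hw) w1 w6
      rw [hc w hw, cx_one, w5, w3, h6, h1, zero_mul, C.T_zero_left, zero_add, add_zero, C.T_zero_right,
        add_zero] at this
      exact this.symm
  obtain ⟨u, hu, huc⟩ := hX2 (cx co x).a2
  obtain ⟨v, hv, hvc⟩ := hX4 (cx co x).a4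
  have e : x = u * v := by
    apply cx_inj (co := co) hxP (mul_mem (hPP hu) (hPP hv))
    rw [cx_mul (hPP hu) (hPP hv), huc, hvc]
    refine Tup.ext ?_ ?_ ?_ ?_ ?_ ?_
    · rw [h1]; simp [Cubic.mul]
    · simp [Cubic.mul, C.N_zero, C.sh_zero, C.T_zero_left]
    · rw [h53.2]; simp [Cubic.mul, C.sh_zero, C.cr_zero_left]
    · simp [Cubic.mul, C.N_zero, C.sh_zero, C.T_zero_left]
    · rw [h53.1]; simp [Cubic.mul]
    · rw [h6]; simp [Cubic.mul]
  rw [e]
  exact mul_mem hu hv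

end Group

end Cfsg.Agent.WreathFusion.HexUni
end

-- part: WreathFusion/HexCoord
section
/-!
# Coordinates on the positive part of `HexTwo σ x`

`coord h : Coord (cubic σ) ↥(gen σ x (arc 1 6))`, and the inputs (W1), (W2) of Theorem W for this group.
-/

set_option autoImplicit false

namespace Cfsg.Agent.WreathFusion.HexCoord

open Subgroup Cfsg.Agent.StdRank2.Hex Cfsg.Agent.HexRec Cfsg.Agent.HexRec.FixedField Cfsg.Agent.HexRec.OfHexRel
open scoped commutatorElement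

/-- the relations are reflected by injective homomorphisms -/
theorem posRel_of_injective {F K : Type*} [Field F] [Field K] [Algebra F K] {C : Cubic F K} {S T : Type*} [Group S]
    [Group T] {y1 : K → S} {y2 : F → S} {y3 : K → S} {y4 : F → S} {y5 : K → S} {y6 : F → S} (f : S →* T)
    (hf : Function.Injective f)
    (H : PosRel C (fun t => f (y1 t)) (fun t => f (y2 t)) (fun t => f (y3 t)) (fun t => f (y4 t)) (fun t => f (y5 t))
      (fun t => f (y6 t))) : PosRel C y1 y2 y3 y4 y5 y6 where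
  add1 s t := hf (by simpa only [map_mul] using H.add1 s t)
  add2 s t := hf (by simpa only [map_mul] using H.add2 s t)
  add3 s t := hf (by simpa only [map_mul] using H.add3 s t)
  add4 s t := hf (by simpa only [map_mul] using H.add4 s t)
  add5 s t := hf (by simpa only [map_mul] using H.add5 s t)
  add6 s t := hf (by simpa only [map_mul] using H.add6 s t)
  r21 s t := hf (by simpa only [map_mul] using H.r21 s t)
  r31 s t := hf (by simpa only [map_mul] using H.r31 s t)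
  r41 s t := hf (by simpa only [map_mul] using H.r41 s t)
  r51 s t := hf (by simpa only [map_mul] using H.r51 s t)
  r61 s t := hf (by simpa only [map_mul] using H.r61 s t)
  r32 s t := hf (by simpa only [map_mul] using H.r32 s t)
  r42 s t := hf (by simpa only [map_mul] using H.r42 s t)
  r52 s t := hf (by simpa only [map_mul] using H.r52 s t)
  r62 s t := hf (by simpa only [map_mul] using H.r62 s t)
  r43 s t := hf (by simpa only [map_mul] using H.r43 s t)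
  r53 s t := hf (by simpa only [map_mul] using H.r53 s t)
  r63 s t := hf (by simpa only [map_mul] using H.r63 s t)
  r54 s t := hf (by simpa only [map_mul] using H.r54 s t)
  r64 s t := hf (by simpa only [map_mul] using H.r64 s t)
  r65 s t := hf (by simpa only [map_mul] using H.r65 s t)

variable {E : Type*} [Field E] {σ : E ≃+* E} {Γ : Type*} [Group Γ] {x : ZMod 12 → E → Γ} (h : HexTwo σ x)

/-- the fixed field of `σ` -/
abbrev FF (σ : E ≃+* E) : Type _ := ↥(Fx σ)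

/-- root elements with parameter in the fixed field -/
def yl (σ : E ≃+* E) (x : ZMod 12 → E → Γ) {k : ZMod 12} (hk : k ∈ arc 1 6) (t : FF σ) : ↥(gen σ x (arc 1 6)) :=
  ⟨x k t, x_mem_gen hk (ok_of_fix k ((mem_Fx σ).1 t.2))⟩

/-- root elements with odd index -/
def ys (σ : E ≃+* E) (x : ZMod 12 → E → Γ) {k : ZMod 12} (hk : k ∈ arc 1 6) (h1 : k.val % 2 = 1) (t : E) :
    ↥(gen σ x (arc 1 6)) := ⟨x k t, x_mem_gen hk (ok_odd h1 t)⟩

theorem mem_arc_of (k : ZMod 12) (hk : k = 1 ∨ k = 2 ∨ k = 3 ∨ k = 4 ∨ k = 5 ∨ k = 6) : k ∈ arc 1 6 := by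
  rw [mem_arc, set_pos]
  exact hk

include h

/-- the cubic pair -/
theorem cp : Hex.Defs.CubicPair (phi σ) := cubicPair σ h.two h.cube

theorem posRel : PosRel (OfPair.cubic (cp h))
    (ys σ x (mem_arc_of 1 (by simp only [_root_.true_or])) (by decide)) (yl σ x (mem_arc_of 2 (by simp only [_root_.true_or, _root_.or_true])))
    (ys σ x (mem_arc_of 3 (by simp)) (by decide)) (yl σ x (mem_arc_of 4 (by simp)))
    (ys σ x (mem_arc_of 5 (by simp)) (by decide)) (yl σ x (mem_arc_of 6 (by simp))) := by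
  refine posRel_of_injective (Subgroup.subtype _) (Subgroup.subtype_injective _) ?_
  exact posRel_of_hexRel (cp h) (x1 := x 1) (x2 := x 2) (x3 := x 3) (x4 := x 4) (x5 := x 5) (x6 := x 6)
    (by rw [phi_coe]; exact h.rel)

/-- normal form -/
theorem exists_nf {g : Γ} (hg : g ∈ gen σ x (arc 1 6)) : ∃ a1, ∃ a2, Ok σ 2 a2 ∧ ∃ a3, ∃ a4, Ok σ 4 a4 ∧ ∃ a5,
    ∃ a6, Ok σ 6 a6 ∧ g = x 1 a1 * (x 2 a2 * (x 3 a3 * (x 4 a4 * (x 5 a5 * x 6 a6)))) := by
  obtain ⟨a1, _, v1, hv1, rfl⟩ := (h.mem_gen_first (k := 1) (n := 5) (by norm_num)).1 hg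
  obtain ⟨a2, h2, v2, hv2, rfl⟩ := (h.mem_gen_first (k := 2) (n := 4) (by norm_num)).1 hv1
  obtain ⟨a3, _, v3, hv3, rfl⟩ := (h.mem_gen_first (k := 3) (n := 3) (by norm_num)).1 hv2
  obtain ⟨a4, h4, v4, hv4, rfl⟩ := (h.mem_gen_first (k := 4) (n := 2) (by norm_num)).1 hv3
  obtain ⟨a5, _, v5, hv5, rfl⟩ := (h.mem_gen_first (k := 5) (n := 1) (by norm_num)).1 hv4
  obtain ⟨a6, h6, v6, hv6, rfl⟩ := (h.mem_gen_first (k := 6) (n := 0) (by norm_num)).1 hv5
  rw [HexTwo.gen_arc_zero] at hv6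
  have hv6' : v6 = 1 := mem_bot.1 hv6
  exact ⟨a1, a2, h2, a3, a4, h4, a5, a6, h6, by rw [hv6', mul_one]⟩

theorem bij : Function.Bijective (PosRel.pm
    (ys σ x (mem_arc_of 1 (by simp only [_root_.true_or])) (by decide)) (yl σ x (mem_arc_of 2 (by simp)))
    (ys σ x (mem_arc_of 3 (by simp)) (by decide)) (yl σ x (mem_arc_of 4 (by simp)))
    (ys σ x (mem_arc_of 5 (by simp)) (by decide)) (yl σ x (mem_arc_of 6 (by simp)))) := by
  constructor
  · intro a b hab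
    have e1 : x 1 a.a1 * (x 2 a.a2 * (x 3 a.a3 * (x 4 a.a4 * (x 5 a.a5 * x 6 a.a6)))) =
        x 1 b.a1 * (x 2 b.a2 * (x 3 b.a3 * (x 4 b.a4 * (x 5 b.a5 * x 6 b.a6)))) :=
      congrArg (Subtype.val) hab
    have o2 : ∀ t : FF σ, Ok σ 2 (t : E) := fun t => ok_of_fix _ ((mem_Fx σ).1 t.2)
    have o4 : ∀ t : FF σ, Ok σ 4 (t : E) := fun t => ok_of_fix _ ((mem_Fx σ).1 t.2)
    have o6 : ∀ t : FF σ, Ok σ 6 (t : E) := fun t => ok_of_fix _ ((mem_Fx σ).1 t.2)
    have o1 : ∀ t : E, Ok σ 1 t := fun t => ok_odd (by decide) t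
    have o3 : ∀ t : E, Ok σ 3 t := fun t => ok_odd (by decide) t
    have o5 : ∀ t : E, Ok σ 5 t := fun t => ok_odd (by decide) t
    have m6 : ∀ t : FF σ, x 6 (t : E) ∈ gen σ x (arc 6 1) := fun t => x_mem_gen (by rw [mem_arc]; decide) (o6 t)
    have m5 : ∀ (s : E) (t : FF σ), x 5 s * x 6 (t : E) ∈ gen σ x (arc 5 2) := fun s t =>
      mul_mem (x_mem_gen (by rw [mem_arc]; decide) (o5 s)) (x_mem_gen (by rw [mem_arc]; decide) (o6 t))
    have m4 : ∀ (u : FF σ) (s : E) (t : FF σ), x 4 (u : E) * (x 5 s * x 6 (t : E)) ∈ gen σ x (arc 4 3) := fun u s t =>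
      mul_mem (x_mem_gen (by rw [mem_arc]; decide) (o4 u)) (mul_mem (x_mem_gen (by rw [mem_arc]; decide) (o5 s))
        (x_mem_gen (by rw [mem_arc]; decide) (o6 t)))
    have m3 : ∀ (v : E) (u : FF σ) (s : E) (t : FF σ), x 3 v * (x 4 (u : E) * (x 5 s * x 6 (t : E))) ∈
        gen σ x (arc 3 4) := fun v u s t =>
      mul_mem (x_mem_gen (by rw [mem_arc]; decide) (o3 v)) (mul_mem (x_mem_gen (by rw [mem_arc]; decide) (o4 u))
        (mul_mem (x_mem_gen (by rw [mem_arc]; decide) (o5 s)) (x_mem_gen (by rw [mem_arc]; decide) (o6 t))))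
    have m2 : ∀ (w : FF σ) (v : E) (u : FF σ) (s : E) (t : FF σ), x 2 (w : E) * (x 3 v * (x 4 (u : E) * (x 5 s *
        x 6 (t : E)))) ∈ gen σ x (arc 2 5) := fun w v u s t =>
      mul_mem (x_mem_gen (by rw [mem_arc]; decide) (o2 w)) (mul_mem (x_mem_gen (by rw [mem_arc]; decide) (o3 v))
        (mul_mem (x_mem_gen (by rw [mem_arc]; decide) (o4 u))
        (mul_mem (x_mem_gen (by rw [mem_arc]; decide) (o5 s)) (x_mem_gen (by rw [mem_arc]; decide) (o6 t)))))
    obtain ⟨q1, e2⟩ := h.uniq_first (k := 1) (n := 5) (by norm_num) (o1 _) (o1 _) (m2 _ _ _ _ _) (m2 _ _ _ _ _) e1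
    obtain ⟨q2, e3⟩ := h.uniq_first (k := 2) (n := 4) (by norm_num) (o2 _) (o2 _) (m3 _ _ _ _) (m3 _ _ _ _) e2
    obtain ⟨q3, e4⟩ := h.uniq_first (k := 3) (n := 3) (by norm_num) (o3 _) (o3 _) (m4 _ _ _) (m4 _ _ _) e3
    obtain ⟨q4, e5⟩ := h.uniq_first (k := 4) (n := 2) (by norm_num) (o4 _) (o4 _) (m5 _ _) (m5 _ _) e4
    obtain ⟨q5, e6⟩ := h.uniq_first (k := 5) (n := 1) (by norm_num) (o5 _) (o5 _) (m6 _) (m6 _) e5
    have q6 := (h.x_inj (o6 _) (o6 _)).1 e6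
    exact Tup.ext q1 (Subtype.ext q2) q3 (Subtype.ext q4) q5 (Subtype.ext q6)
  · rintro ⟨g, hg⟩
    obtain ⟨a1, a2, h2, a3, a4, h4, a5, a6, h6, e⟩ := exists_nf h hg
    refine ⟨⟨a1, ⟨a2, (mem_Fx σ).2 (h2 (by decide))⟩, a3, ⟨a4, (mem_Fx σ).2 (h4 (by decide))⟩, a5,
      ⟨a6, (mem_Fx σ).2 (h6 (by decide))⟩⟩, ?_⟩
    exact Subtype.ext e.symm

/-- **Coordinates on the positive part.** -/
noncomputable def coord : Coord (OfPair.cubic (cp h)) ↥(gen σ x (arc 1 6)) := (posRel h).coord (bij h)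

/-- The numerical conditions of Theorem W: `4 ≤ q`, or `³D₄(2)`. -/
theorem gd [Finite E] (hq : 2 < Nat.card {a : E // σ a = a} ∨ (Nat.card {a : E // σ a = a} = 2 ∧ 4 < Nat.card E)) :
    HexUni.Gd (OfPair.cubic (cp h)) := by
  have e : Nat.card (FF σ) = Nat.card {a : E // σ a = a} :=
    Nat.card_congr (Equiv.subtypeEquivRight fun _ => mem_Fx σ)
  rcases hq with hq | ⟨h1, h2⟩
  · exact HexUni.Gd.of_card (by rw [e]; exact hq)
  · exact HexUni.Gd.of_card_two (by rw [e]; exact h1) h2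

end Cfsg.Agent.WreathFusion.HexCoord
end

-- part: WreathFusion/HexPair
section
/-!
# Two commuting hexagonal systems: the data of Theorem W
-/

set_option autoImplicit false

namespace Cfsg.Agent.WreathFusion.HexPair

open Subgroup Cfsg.Agent.StdRank2.Hex
open scoped commutatorElement

variable {E : Type*} [Field E] {σ : E ≃+* E} {Γ : Type*} [Group Γ]

section One

variable {x : ZMod 12 → E → Γ} (h : HexTwo σ x)

include h

omit h in
theorem hh_mem (k : ZMod 12) {t : E} (ht : Ok σ k t) : hh x k t ∈ gen σ x Set.univ := by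
  have m : ∀ {j : ZMod 12} {a : E}, Ok σ j a → x j a ∈ gen σ x Set.univ := fun ha => x_mem_gen (Set.mem_univ _) ha
  have h6 : Ok σ (k + 6) t⁻¹ := ht.inv.congr (val_add_6 k)
  exact mul_mem (mul_mem (mul_mem (m ht) (m h6)) (m ht))
    (mul_mem (mul_mem (m (ok_one σ k)) (m (ok_one σ (k + 6)))) (m (ok_one σ k)))

/-- the group generated by all root elements is perfect -/
theorem perfect (hE : ∃ t : E, t ≠ 0 ∧ t ≠ 1) :
    gen σ x Set.univ ≤ ⁅gen σ x Set.univ, gen σ x Set.univ⁆ := by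
  obtain ⟨t, ht0, ht1⟩ := hE
  have m : ∀ {j : ZMod 12} {a : E}, Ok σ j a → x j a ∈ gen σ x Set.univ := fun ha => x_mem_gen (Set.mem_univ _) ha
  refine gen_le fun k _ a ha => ?_
  by_cases hk : k.val % 2 = 0
  · -- long
    have hk2 : (k - 2).val % 2 = 0 := by
      have : ∀ k : ZMod 12, k.val % 2 = 0 → (k - 2).val % 2 = 0 := by decide
      exact this k hk
    have hσ := ha hk
    have h1 := h.commL4 (k := k - 2) hk2 (t := 1) (u := a) (map_one σ) hσ
    rw [one_mul, sub_add_cancel, show k - 2 + 4 = k + 2 by ring] at h1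
    rw [← h1]
    exact commutator_mem_commutator (m (ok_of_fix _ (map_one σ))) (m (ok_of_fix _ hσ))
  · have hk1 : k.val % 2 = 1 := by omega
    have hne : t ^ 2 + 1 ≠ 0 := by
      intro h0
      apply ht1
      have h2 : (t - 1) ^ 2 = 0 := by
        have : (t - 1) ^ 2 = t ^ 2 + 1 - 2 * t := by ring
        rw [this, h0, h.two, zero_mul, sub_zero]
      have h3 := pow_eq_zero_iff (two_ne_zero) |>.1 h2
      exact sub_eq_zero.1 h3
    set b := (t ^ 2 + 1)⁻¹ * a with hb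
    have hok : ∀ c : E, Ok σ k c := fun c => ok_odd hk1 c
    have e1 : ⁅hh x k t, x k b⁆ = x k a := by
      rw [commutatorElement_def, h.tor k k ht0 (hok t) (hok b), sub_self, ch_zero_right, h.x_inv (hok b),
        ← h.add k _ _ (hok _) (hok _)]
      congr 1
      rw [hb]
      field_simp
    rw [← e1]
    exact commutator_mem_commutator (hh_mem k (hok t)) (m (hok b))

/-- an element of the positive part centralising all root elements is trivial -/
theorem eq_one_of_comm {g : Γ} (hg : g ∈ gen σ x (arc 1 6)) (hc : ∀ k, ∀ a, Ok σ k a → Commute g (x k a)) : g = 1 := by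
  apply h.opp_one hg
  have hnn : ∀ k, Commute g (nn x k) := fun k =>
    ((hc k 1 (ok_one σ k)).mul_right (hc (k + 6) 1 (ok_one σ _))).mul_right (hc k 1 (ok_one σ k))
  -- the product of three orthogonal pairs of reflections maps the positive part to the negative part
  have key : ∀ y ∈ gen σ x (arc 1 6), (nn x 1 * nn x 6) ^ 3 * y * ((nn x 1 * nn x 6) ^ 3)⁻¹ ∈
      gen σ x (arc (1 + 6) 6) := by
    intro y hy
    refine conj_gen (fun l hl a ha => ?_) hy
    have e := h.rot_pow 3 l (a := a) ha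
    rw [e]
    refine x_mem_gen ?_ (ha.congr ?_)
    · rw [mem_arc] at hl ⊢
      have : l + 2 * ((3 : ℕ) : ZMod 12) - (1 + 6) = l - 1 := by push_cast; ring
      rw [this]
      exact hl
    · have : ∀ l : ZMod 12, (l + 2 * ((3 : ℕ) : ZMod 12)).val % 2 = l.val % 2 := by decide
      exact this l
  have h1 := key g hg
  have h2 : Commute ((nn x 1 * nn x 6) ^ 3) g := (((hnn 1).mul_right (hnn 6)).pow_right 3).symm
  rwa [h2.eq, mul_inv_cancel_right] at h1

theorem ne_bot : gen σ x (arc 1 6) ≠ ⊥ := by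
  intro h0
  have h1 : x 1 1 ∈ gen σ x (arc 1 6) := x_mem_gen (by rw [mem_arc]; decide) (ok_one σ _)
  rw [h0, mem_bot] at h1
  exact one_ne_zero (h.inj 1 1 (ok_one σ _) h1)

end One

/-- two commuting hexagonal systems -/
structure IsPair (σ : E ≃+* E) (y1 y2 : ZMod 12 → E → Γ) : Prop where
  h1 : HexTwo σ y1
  h2 : HexTwo σ y2
  comm : ∀ k l a b, Ok σ k a → Ok σ l b → y1 k a * y2 l b = y2 l b * y1 k a

namespace IsPair

variable {y1 y2 : ZMod 12 → E → Γ} (p : IsPair σ y1 y2)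

include p

theorem symm : IsPair σ y2 y1 := ⟨p.h2, p.h1, fun k l a b ha hb => (p.comm l k b a hb ha).symm⟩

theorem le_centralizer (S T : Set (ZMod 12)) : gen σ y1 S ≤ centralizer (gen σ y2 T : Set Γ) := by
  refine gen_le fun k _ a ha => ?_
  have : gen σ y2 T ≤ centralizer ({y1 k a} : Set Γ) := by
    refine gen_le fun l _ b hb => ?_
    rw [mem_centralizer_singleton_iff]
    exact (p.comm k l a b ha hb).symm
  rw [mem_centralizer_iff]
  intro g hg
  exact mem_centralizer_singleton_iff.1 (this hg)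

/-- **The data of Theorem W for two commuting hexagonal systems.** -/
theorem pdata [Finite E]
    (hq : 2 < Nat.card {a : E // σ a = a} ∨ (Nat.card {a : E // σ a = a} = 2 ∧ 4 < Nat.card E)) :
    PData (gen σ y1 (arc 1 6) ⊔ gen σ y2 (arc 1 6)) (gen σ y1 (arc 1 6)) (gen σ y2 (arc 1 6))
      (gen σ y1 Set.univ) (gen σ y2 Set.univ) := by
  have hE : ∃ t : E, t ≠ 0 ∧ t ≠ 1 := by
    by_contra hcon
    push Not at hcon
    have h1 : Nat.card E ≤ 2 := by
      have h2 : Set.univ ⊆ ({0, 1} : Set E) := by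
        intro t _
        by_cases ht : t = 0
        · exact Or.inl ht
        · exact Or.inr (hcon t ht)
      have h3 := Set.ncard_le_ncard h2 (Set.toFinite _)
      rw [Set.ncard_univ] at h3
      exact h3.trans (Set.ncard_pair zero_ne_one).le
    have h2 : Nat.card {a : E // σ a = a} ≤ Nat.card E := Nat.card_le_card_of_injective _ Subtype.val_injective
    rcases hq with hq | ⟨_, hq⟩ <;> omega
  refine ⟨⟨⟨le_sup_left, le_sup_right, ?_, ?_, rfl⟩, ?_, ne_bot p.h1, ne_bot p.h2, ?_, ?_, ?_, ?_⟩,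
    perfect p.h1 hE, perfect p.h2 hE, gen_mono (Set.subset_univ _), gen_mono (Set.subset_univ _),
    p.le_centralizer _ _, p.symm.le_centralizer _ _⟩
  · intro a ha b hb
    exact (mem_centralizer_iff.1 (p.le_centralizer (arc 1 6) (arc 1 6) ha) b hb).symm
  · rw [eq_bot_iff]
    intro g hg
    obtain ⟨hg1, hg2⟩ := mem_inf.1 hg
    rw [mem_bot]
    refine eq_one_of_comm p.h1 hg1 fun k a ha => ?_
    have h3 := mem_centralizer_iff.1 (p.le_centralizer Set.univ (arc 1 6) (x_mem_gen (Set.mem_univ k) ha)) g hg2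
    exact h3
  · rw [p.h1.card_U, p.h2.card_U]
  · exact HexUni.centIndec (HexCoord.coord p.h1) (HexCoord.gd p.h1 hq)
  · exact HexUni.centIndec (HexCoord.coord p.h2) (HexCoord.gd p.h2 hq)
  · exact HexUni.centralizer_le (HexCoord.coord p.h1) (HexCoord.gd p.h1 hq)
  · exact HexUni.centralizer_le (HexCoord.coord p.h2) (HexCoord.gd p.h2 hq)

end IsPair

end Cfsg.Agent.WreathFusion.HexPair
end

-- part: HexEight/Glue
section
/-!
# The split case of the growth as data of Theorem W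
-/

set_option autoImplicit false
set_option linter.unusedSectionVars false

namespace Cfsg.Agent.HexEight.Glue

open Cfsg.Agent.StdRank2.Hex Cfsg.Agent.SplitTwo Cfsg.Agent.StdRank2.Hex.HexTwo Cfsg.Agent.HexEight.Def
open Cfsg.Agent.HexEight.Main Cfsg.Agent.HexGrow.Defs Cfsg.Agent.WreathFusion Cfsg.Agent.WreathFusion.HexPair
open scoped commutatorElement

section Gr

variable {E : Type*} [Field E] {σ : E ≃+* E} {G : Type*} [Group G] {x : ZMod 12 → E → G} {t : G}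
  {V : ZMod 12 → Subgroup G} (g : Gr σ x t V)

include g in
/-- root elements are in the product of the positive root groups -/
theorem mem_UU {k : ZMod 12} (hk : k ∈ (arc 1 6 : Set (ZMod 12))) {y : G} (hy : y ∈ V k) : y ∈ UU V 1 := by
  have h1 : V 1 ≤ UU V 1 := le_sup_of_le_left (le_sup_of_le_left (le_sup_of_le_left (le_sup_of_le_left le_sup_left)))
  have h2 : V (1 + 1) ≤ UU V 1 :=
    le_sup_of_le_left (le_sup_of_le_left (le_sup_of_le_left (le_sup_of_le_left le_sup_right)))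
  have h3 : V (1 + 2) ≤ UU V 1 := le_sup_of_le_left (le_sup_of_le_left (le_sup_of_le_left le_sup_right))
  have h4 : V (1 + 3) ≤ UU V 1 := le_sup_of_le_left (le_sup_of_le_left le_sup_right)
  have h5 : V (1 + 4) ≤ UU V 1 := le_sup_of_le_left le_sup_right
  have h6 : V (1 + 5) ≤ UU V 1 := le_sup_right
  rw [mem_arc] at hk
  have : k = 1 ∨ k = 1 + 1 ∨ k = 1 + 2 ∨ k = 1 + 3 ∨ k = 1 + 4 ∨ k = 1 + 5 := by
    revert hk; clear * -; revert k; decide
  rcases this with rfl | rfl | rfl | rfl | rfl | rfl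
  exacts [h1 hy, h2 hy, h3 hy, h4 hy, h5 hy, h6 hy]

end Gr

variable {K : Type*} [Field K] {σ : K ≃+* K} {G : Type*} [Group G] {x : ZMod 12 → K → G} {t : G}
  {V : ZMod 12 → Subgroup G} {y1 y2 : ZMod 12 → K → G}

theorem isPair (h : Split σ x t V y1 y2) : IsPair σ y1 y2 :=
  ⟨h.hex1, h.hex2, fun k l a b ha hb => (h.comm k l a b ha hb).eq⟩

/-- `Ŝ = S₁ S₂` -/
theorem UU_eq (g : Gr σ x t V) (h : Split σ x t V y1 y2) :
    UU V 1 = gen σ y1 (arc 1 6) ⊔ gen σ y2 (arc 1 6) := by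
  apply le_antisymm
  · have key : ∀ k ∈ (arc 1 6 : Set (ZMod 12)), V k ≤ gen σ y1 (arc 1 6) ⊔ gen σ y2 (arc 1 6) := by
      intro k hk y hy
      obtain ⟨a, b, ha, hb, rfl⟩ := h.surj k y hy
      exact Subgroup.mul_mem_sup (x_mem_gen hk ha) (x_mem_gen hk hb)
    refine sup_le (sup_le (sup_le (sup_le (sup_le ?_ ?_) ?_) ?_) ?_) ?_ <;>
    · apply key
      rw [mem_arc]
      decide
  · exact sup_le (gen_le fun k hk a ha => mem_UU g hk (h.mem1 k a ha))
      (gen_le fun k hk a ha => mem_UU g hk (h.mem2 k a ha))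

/-- **The split case: data of Theorem W.** -/
theorem pdata [Finite K] (g : Gr σ x t V) (h : Split σ x t V y1 y2)
    (hq : 2 < Nat.card {a : K // σ a = a} ∨ (Nat.card {a : K // σ a = a} = 2 ∧ 4 < Nat.card K)) :
    PData (UU V 1) (gen σ y1 (arc 1 6)) (gen σ y2 (arc 1 6)) (gen σ y1 Set.univ) (gen σ y2 Set.univ) := by
  rw [UU_eq g h]
  exact (isPair h).pdata hq

end Cfsg.Agent.HexEight.Glue
end
end

-- part: StdRank2/HexRank
section
set_option linter.all false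
open scoped Cfsg.Agent.FastGrp

/-!
# The rank one subgroups `⟨X_k, X_{k+6}⟩` of a hexagonal root system in characteristic two (S1778)

`K` is a field with an embedding `ι : K →+* E` onto the admissible parameters of the root `k` (`Par σ k ι`;
`Par.odd` : `K = E` for `k` odd, `Par.even` : the fixed field for `k` even).
* `exists_sl` : an injective homomorphism `θ : SL₂(K) → Γ` with `θ (U a) = x k (ι a)`, `θ (Dg c) = hh x k (ι c)`,
  `θ (Tm) = nn x k`, `θ (tU a) = x (k + 6) (ι a)` and range `gen {k, k + 6}`;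
* `exists_equiv_sl` : `gen {k, k + 6} ≃* SL₂(K)`;
* `rank_bruhat` : Bruhat decomposition of `gen {k, k + 6}`;
* `x_mem_commutator`, `commutator_gen_pair` : `gen {k, k + 6}` is perfect if `4 ≤ |K|`.
-/

set_option autoImplicit false

namespace Cfsg.Agent.StdRank2.Hex

open Cfsg.Agent.SplitTwo Cfsg.Agent.SuzukiRankOne.SLTwoRel
open Matrix (SpecialLinearGroup)
open scoped commutatorElement

/-- `ι` is an embedding of the field `K` onto the admissible parameters of the root `k`. -/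
structure Par {E : Type*} [Field E] (σ : E ≃+* E) (k : ZMod 12) {K : Type*} [Field K] (ι : K →+* E) : Prop where
  ok : ∀ a, Ok σ k (ι a)
  surj : ∀ b, Ok σ k b → ∃ a, ι a = b

section Par

variable {E : Type*} [Field E] {σ : E ≃+* E}

theorem Par.odd {k : ZMod 12} (hk : k.val % 2 = 1) : Par σ k (RingHom.id E) where
  ok a := ok_odd hk a
  surj b _ := ⟨b, rfl⟩

/-- The fixed field of `σ`. -/
def Fix (σ : E ≃+* E) : Subfield E where
  carrier := {a | σ a = a}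
  mul_mem' := by
    intro a b ha hb
    change σ (a * b) = a * b
    rw [map_mul, show σ a = a from ha, show σ b = b from hb]
  one_mem' := map_one σ
  add_mem' := by
    intro a b ha hb
    change σ (a + b) = a + b
    rw [map_add, show σ a = a from ha, show σ b = b from hb]
  zero_mem' := map_zero σ
  neg_mem' := by
    intro a ha
    change σ (-a) = -a
    rw [map_neg, show σ a = a from ha]
  inv_mem' := by
    intro a ha
    change σ a⁻¹ = a⁻¹
    rw [map_inv₀, show σ a = a from ha]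

theorem mem_Fix {a : E} : a ∈ Fix σ ↔ σ a = a := Iff.rfl

theorem Par.even {k : ZMod 12} (hk : k.val % 2 = 0) : Par σ k (Fix σ).subtype where
  ok a := fun _ => a.2
  surj b hb := ⟨⟨b, hb hk⟩, rfl⟩

theorem Par.congr {k l : ZMod 12} (hkl : k.val % 2 = l.val % 2) {K : Type*} [Field K] {ι : K →+* E}
    (P : Par σ k ι) : Par σ l ι where
  ok a := (P.ok a).congr hkl.symm
  surj b hb := P.surj b (hb.congr hkl)

end Par

namespace HexTwo

variable {E : Type*} [Field E] {σ : E ≃+* E} {Γ : Type*} [Group Γ] {x : ZMod 12 → E → Γ} (h : HexTwo σ x)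

include h

theorem charP_two : CharP E 2 := by
  rw [CharP.charP_iff_prime_eq_zero Nat.prime_two]
  exact_mod_cast h.two

theorem charP_of {K : Type*} [Field K] (ι : K →+* E) : CharP K 2 := by
  rw [CharP.charP_iff_prime_eq_zero Nat.prime_two]
  apply ι.injective
  rw [map_natCast, map_zero]
  exact_mod_cast h.two

section rank

variable {k : ZMod 12} {K : Type*} [Field K] {ι : K →+* E}

/-- the homomorphism from the units -/
def hhHom [Finite E] (P : Par σ k ι) : Kˣ →* Γ where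
  toFun c := hh x k (ι c)
  map_one' := by rw [Units.val_one, map_one, h.hh_one]
  map_mul' c d := by
    rw [Units.val_mul, map_mul]
    exact h.hh_mul k (by simp) (by simp) (P.ok _) (P.ok _)

theorem rel_sl [Finite E] (P : Par σ k ι) : Rel (fun a => x k (ι a)) (h.hhHom P) (nn x k) where
  add a b := by
    rw [map_add]
    exact h.add k _ _ (P.ok a) (P.ok b)
  conj c a := by
    have hc : ι (c : K) ≠ 0 := by simp
    change hh x k (ι c) * x k (ι a) * (hh x k (ι c))⁻¹ = x k (ι ((c : K) ^ 2 * a))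
    rw [h.tor k k hc (P.ok _) (P.ok a), sub_self, ch_zero_right, map_mul, map_pow]
  tt := h.nn_sq k
  tk c := by
    have hc : ι (c : K) ≠ 0 := by simp
    change nn x k * hh x k (ι c) * nn x k = (hh x k (ι c))⁻¹
    have h1 := h.conj_nn_hh k k (P.ok (c : K))
    rw [h.nn_inv, show 2 * k + 6 - k = k + 6 by ring, h.hh_opp k hc (P.ok _)] at h1
    rw [h1, h.hh_inv k hc (P.ok _)]
  te c := by
    change nn x k * x k (ι c) * nn x k = x k (ι ((c⁻¹ : Kˣ) : K)) * hh x k (ι ((c⁻¹ : Kˣ) : K)) * nn x k *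
      x k (ι ((c⁻¹ : Kˣ) : K))
    rw [h.refl' k k (P.ok _), show 2 * k + 6 - k = k + 6 by ring]
    have h1 : hh x k (ι ((c⁻¹ : Kˣ) : K)) * nn x k = nt x k (ι ((c⁻¹ : Kˣ) : K)) := h.hh_mul_nn k _
    have h2 := h.x_sq (P.ok ((c⁻¹ : Kˣ) : K))
    rw [mul_assoc (x k _), h1]
    unfold nt
    have e : (ι ((c⁻¹ : Kˣ) : K))⁻¹ = ι (c : K) := by
      rw [Units.val_inv_eq_inv_val, map_inv₀, inv_inv]
    rw [e]
    calc x (k + 6) (ι (c : K)) = 1 * x (k + 6) (ι (c : K)) * 1 := by group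
      _ = _ := by rw [← h2]; group

/-- an element of the torus is not a non-trivial root element -/
theorem x_notMem_H [Finite E] {a : E} (ha : Ok σ k a) (hm : x k a ∈ h.H) : a = 0 :=
  (h.x_eq_one ha).1 (h.H_two hm (n := 1) (by rw [pow_one, pow_two]; exact h.x_sq ha))

theorem hh_eq_one [Finite E] {t : E} (ht : t ≠ 0) (hok : Ok σ k t) (e : hh x k t = 1) : t = 1 := by
  have h1 := h.tor k k ht hok (ok_one σ k)
  rw [e, one_mul, inv_one, mul_one, sub_self, ch_zero_right, mul_one, h.x_inj (ok_one σ k)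
    (by rw [pow_two]; exact hok.mul hok), eq_comm, pow_two] at h1
  exact h.sq_eq_one h1

/-- the reflection is not in the Borel subgroup of the rank one group -/
theorem x_hh_nn_x_ne_one [Finite E] {a b t : E} (ha : Ok σ k a) (hb : Ok σ k b) (ht : t ≠ 0) (hok : Ok σ k t)
    (e : x k a * hh x k t * nn x k * x k b = 1) : False := by
  have e1 : nn x k = (hh x k t)⁻¹ * (x k a * x k b) := by
    have h1 : x k a * hh x k t * nn x k = x k b := by
      rw [← h.x_inv hb]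
      exact eq_inv_of_mul_eq_one_left e
    calc nn x k = (hh x k t)⁻¹ * (x k a)⁻¹ * (x k a * hh x k t * nn x k) := by group
      _ = _ := by rw [h1, h.x_inv ha]; group
  have hH : hh x k t ∈ h.H := h.hh_mem_H k ht hok
  have h2 : nn x k * x k 1 * (nn x k)⁻¹ ∈ gen σ x {k} := by
    rw [e1]
    have e2 : (hh x k t)⁻¹ * (x k a * x k b) * x k 1 * ((hh x k t)⁻¹ * (x k a * x k b))⁻¹ =
        (hh x k t)⁻¹ * (x k a * x k b * x k 1 * (x k a * x k b)⁻¹) * ((hh x k t)⁻¹)⁻¹ := by group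
    rw [e2]
    refine h.H_conj_gen (inv_mem hH) _ ?_
    have ma := x_mem_gen (Set.mem_singleton k) ha (x := x)
    have mb := x_mem_gen (Set.mem_singleton k) hb (x := x)
    exact mul_mem (mul_mem (mul_mem ma mb) (x_mem_gen (Set.mem_singleton k) (ok_one σ k)))
      (inv_mem (mul_mem ma mb))
  rw [h.refl k k (ok_one σ k), show 2 * k + 6 - k = k + 6 by ring, h.mem_gen_singleton] at h2
  obtain ⟨c, hc, e3⟩ := h2
  have h4 := h.root_unique (ok_one σ (k + 6)) hc one_ne_zero e3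
  have h5 : ∀ k : ZMod 12, k + 6 ≠ k := by decide
  exact h5 k h4

/-- the lower root element of `SL₂` -/
def loU {K : Type*} [Field K] [CharP K 2] (a : K) : SpecialLinearGroup (Fin 2) K := Tm K * U a * Tm K

/-- **The homomorphism `SL₂(K) → Γ`.** -/
theorem exists_sl [Finite E] [CharP K 2] (P : Par σ k ι) :
    ∃ θ : SpecialLinearGroup (Fin 2) K →* Γ, Function.Injective θ ∧ (∀ a, θ (U a) = x k (ι a)) ∧
      (∀ c : Kˣ, θ (Dg c) = hh x k (ι c)) ∧ θ (Tm K) = nn x k ∧ (∀ a, θ (loU a) = x (k + 6) (ι a)) ∧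
      θ.range = gen σ x {k, k + 6} := by
  obtain ⟨θ, h1, h2, h3⟩ := (h.rel_sl P).exists_hom
  have h4 : ∀ a, θ (loU a) = x (k + 6) (ι a) := by
    intro a
    unfold loU
    rw [map_mul, map_mul, h1, h3, h.refl' k k (P.ok a), show 2 * k + 6 - k = k + 6 by ring]
  have hk : k ∈ ({k, k + 6} : Set (ZMod 12)) := Set.mem_insert _ _
  have hk6 : k + 6 ∈ ({k, k + 6} : Set (ZMod 12)) := Set.mem_insert_of_mem _ rfl
  refine ⟨θ, ?_, h1, h2, h3, h4, le_antisymm ?_ ?_⟩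
  · rw [injective_iff_map_eq_one]
    intro A hA
    rcases exists_form A with ⟨a, c, rfl⟩ | ⟨a, c, b, rfl⟩
    · rw [map_mul, h1, h2] at hA
      have hc : ι (c : K) ≠ 0 := by simp
      have h5 : a = 0 := by
        have : x k (ι a) ∈ h.H := by
          change x k (ι a) * hh x k (ι c) = 1 at hA
          rw [eq_inv_of_mul_eq_one_left hA]
          exact inv_mem (h.hh_mem_H k hc (P.ok _))
        exact (map_eq_zero ι).1 (h.x_notMem_H (P.ok a) this)
      subst h5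
      change x k (ι 0) * hh x k (ι c) = 1 at hA
      rw [map_zero, h.x_zero, one_mul] at hA
      have h6 := h.hh_eq_one hc (P.ok _) hA
      have h7 : c = 1 := by
        apply Units.ext
        rw [Units.val_one]
        exact ι.injective (by rw [h6, map_one])
      rw [h7, map_one, rel_model.zero, one_mul]
    · rw [map_mul, map_mul, map_mul, h1, h1, h2, h3] at hA
      exact (h.x_hh_nn_x_ne_one (P.ok a) (P.ok b) (by simp) (P.ok _) hA).elim
  · rintro _ ⟨A, rfl⟩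
    have mx : ∀ a, x k (ι a) ∈ gen σ x {k, k + 6} := fun a => x_mem_gen hk (P.ok a)
    have mh : ∀ c : Kˣ, hh x k (ι c) ∈ gen σ x {k, k + 6} := fun c => hh_mem_gen hk hk6 (P.ok _)
    have mn : nn x k ∈ gen σ x {k, k + 6} := nn_mem_gen hk hk6
    rcases exists_form A with ⟨a, c, rfl⟩ | ⟨a, c, b, rfl⟩
    · rw [map_mul, h1, h2]
      exact mul_mem (mx a) (mh c)
    · rw [map_mul, map_mul, map_mul, h1, h1, h2, h3]
      exact mul_mem (mul_mem (mul_mem (mx a) (mh c)) mn) (mx b)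
  · refine gen_le fun l hl a ha => ?_
    rcases hl with rfl | hl
    · obtain ⟨b, rfl⟩ := P.surj a ha
      exact ⟨_, h1 b⟩
    · rw [Set.mem_singleton_iff] at hl
      subst hl
      obtain ⟨b, rfl⟩ := P.surj a (ha.congr (val_add_6 k).symm)
      exact ⟨_, h4 b⟩

theorem exists_equiv_sl [Finite E] [CharP K 2] (P : Par σ k ι) :
    Nonempty (SpecialLinearGroup (Fin 2) K ≃* ↥(gen σ x {k, k + 6})) := by
  obtain ⟨θ, hi, -, -, -, -, hr⟩ := h.exists_sl P
  exact ⟨(MonoidHom.ofInjective hi).trans (MulEquiv.subgroupCongr hr)⟩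

/-- Bruhat decomposition of a rank one group. -/
theorem rank_bruhat [Finite E] {g : Γ} (hg : g ∈ gen σ x {k, k + 6}) :
    (∃ a t, Ok σ k a ∧ Ok σ k t ∧ t ≠ 0 ∧ g = x k a * hh x k t) ∨
      ∃ a t b, Ok σ k a ∧ Ok σ k t ∧ Ok σ k b ∧ t ≠ 0 ∧ g = x k a * hh x k t * nn x k * x k b := by
  have key : ∀ {K : Type _} [Field K] {ι : K →+* E}, Par σ k ι → (∃ a t, Ok σ k a ∧ Ok σ k t ∧ t ≠ 0 ∧
      g = x k a * hh x k t) ∨
      ∃ a t b, Ok σ k a ∧ Ok σ k t ∧ Ok σ k b ∧ t ≠ 0 ∧ g = x k a * hh x k t * nn x k * x k b := by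
    intro K _ ι P
    have := h.charP_of ι
    obtain ⟨θ, -, h1, h2, h3, -, hr⟩ := h.exists_sl P
    rw [← hr] at hg
    obtain ⟨A, rfl⟩ := hg
    rcases exists_form A with ⟨a, c, rfl⟩ | ⟨a, c, b, rfl⟩
    · exact Or.inl ⟨ι a, ι c, P.ok _, P.ok _, by simp, by rw [map_mul, h1, h2]⟩
    · exact Or.inr ⟨ι a, ι c, ι b, P.ok _, P.ok _, P.ok _, by simp,
        by rw [map_mul, map_mul, map_mul, h1, h1, h2, h3]⟩
  rcases Nat.mod_two_eq_zero_or_one k.val with hk | hk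
  · exact key (Par.even hk)
  · exact key (Par.odd hk)

/-- root elements are commutators in the rank one group -/
theorem x_eq_comm [Finite E] {t a : E} (ht : t ≠ 0) (hok : Ok σ k t) (h1 : t ≠ 1) (ha : Ok σ k a) :
    ⁅hh x k t, x k ((t ^ 2 + 1)⁻¹ * a)⁆ = x k a := by
  have ok2 : Ok σ k (t ^ 2 + 1) := by
    rw [pow_two]
    exact (hok.mul hok).add (ok_one σ k)
  have hne : t ^ 2 + 1 ≠ 0 := by
    intro e
    apply h1
    apply h.sq_eq_one
    rw [← pow_two]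
    rw [← h.sub_eq] at e
    exact sub_eq_zero.1 e
  have okb : Ok σ k ((t ^ 2 + 1)⁻¹ * a) := ok2.inv.mul ha
  rw [commutatorElement_def, h.tor k k ht hok okb, sub_self, ch_zero_right, h.x_inv okb,
    ← h.add k _ _ (Ok.mul (by rw [pow_two]; exact hok.mul hok) okb) okb]
  congr 1
  field_simp

theorem pair_le_commutator [Finite E] {t : E} (ht : t ≠ 0) (hok : Ok σ k t) (h1 : t ≠ 1) :
    gen σ x {k, k + 6} ≤ ⁅gen σ x {k, k + 6}, gen σ x {k, k + 6}⁆ := by
  have hk : k ∈ ({k, k + 6} : Set (ZMod 12)) := Set.mem_insert _ _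
  have hk6 : k + 6 ∈ ({k, k + 6} : Set (ZMod 12)) := Set.mem_insert_of_mem _ rfl
  have hk12 : k + 6 + 6 = k := by
    have : ∀ k : ZMod 12, k + 6 + 6 = k := by decide
    exact this k
  refine gen_le fun l hl a ha => ?_
  rcases hl with rfl | hl
  · rw [← h.x_eq_comm ht hok h1 ha]
    refine Subgroup.commutator_mem_commutator (hh_mem_gen hk hk6 hok) (x_mem_gen hk ?_)
    refine Ok.mul (Ok.inv ?_) ha
    rw [pow_two]
    exact (hok.mul hok).add (ok_one σ _)
  · rw [Set.mem_singleton_iff] at hl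
    subst hl
    have hok' : Ok σ (k + 6) t := hok.congr (val_add_6 k)
    rw [← h.x_eq_comm ht hok' h1 ha]
    refine Subgroup.commutator_mem_commutator (hh_mem_gen hk6 (by rw [hk12]; exact hk) hok') (x_mem_gen hk6 ?_)
    refine Ok.mul (Ok.inv ?_) ha
    rw [pow_two]
    exact (hok'.mul hok').add (ok_one σ _)

/-- The rank one groups are perfect if there are at least four (three) admissible parameters. -/
theorem pair_perfect [Finite E] {t : E} (ht : t ≠ 0) (hok : Ok σ k t) (h1 : t ≠ 1) :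
    ⁅gen σ x {k, k + 6}, gen σ x {k, k + 6}⁆ = gen σ x {k, k + 6} :=
  le_antisymm (Subgroup.commutator_le_self _) (h.pair_le_commutator ht hok h1)

end rank

end HexTwo

end Cfsg.Agent.StdRank2.Hex
end

-- part: StdEven/Final
section
set_option linter.all false

/-!
# S1778 from its seven types

`s1778_of_types`: the literal statement of S1778 (universe `u`) from the seven core statements
`Core.{u} (fun Q _ => TypeX Q)`, one for each type, see `StdEven/Red.lean`: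

`Core P` := for all finite `H : Type u`, `L A : Subgroup H`, `t : H` with `StdL2.Setup.Conf L A t`, `Odd |Z(A)|` and
`P (A / Z(A))`: `(IsLieTypeChar 2 L ∨ IsoTits L) ∧ t ∉ L`.

Targets of the owners of the types (files `StdRank2/End/<Type>.lean`):
`theorem core : Core.{u} (fun Q _ => TypeL3 Q)`, `TypeSp4`, `TypeG2`, `TypeU4`, `TypeU5`, `TypeU52`, `Type3D4`.
-/

set_option autoImplicit false

namespace Cfsg.Agent.StdEven.Final

open Cfsg Cfsg.Agent.StdEven.Red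

universe u

theorem s1778_of_types (h1 : Core.{u} (fun Q _ => TypeL3 Q)) (h2 : Core.{u} (fun Q _ => TypeSp4 Q))
    (h3 : Core.{u} (fun Q _ => TypeG2 Q)) (h4 : Core.{u} (fun Q _ => TypeU4 Q)) (h5 : Core.{u} (fun Q _ => TypeU5 Q))
    (h6 : Core.{u} (fun Q _ => TypeU52 Q)) (h7 : Core.{u} (fun Q _ => Type3D4 Q))
    {G : Type u} [Group G] [Finite G] (hO : Cfsg.oddCore G = ⊥)
    (A : Subgroup G) (hA : Cfsg.IsStandardSubgroup A) (hnA : ¬ A.Normal) (hZ : Odd (Nat.card ↥(Subgroup.center ↥A)))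
    (hR : ∀ R : Sylow 2 ↥(Subgroup.centralizer (A : Set G)), IsCyclic ↥(R : Subgroup ↥(Subgroup.centralizer (A : Set G))))
    (t : G) (ht : orderOf t = 2) (htA : t ∈ Subgroup.centralizer (A : Set G))
    (hAX : (∃ (F : Type) (_ : Field F) (_ : Fintype F) (a : ℕ), 2 ≤ a ∧ Fintype.card F = 2 ^ a ∧
        (Nonempty (↥A ⧸ Subgroup.center ↥A ≃* Matrix.ProjectiveSpecialLinearGroup (Fin 3) F) ∨ Nonempty (↥A ⧸ Subgroup.center ↥A ≃* Cfsg.PSp 2 F) ∨
          Nonempty (↥A ⧸ Subgroup.center ↥A ≃* ↥(Cfsg.Lie.chevG2.group F)))) ∨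
      (∃ (F : Type) (_ : Field F) (_ : Fintype F) (a : ℕ), 2 ≤ a ∧ Fintype.card F = 4 ^ a ∧
        (Nonempty (↥A ⧸ Subgroup.center ↥A ≃* Cfsg.PSU 4 F (2 ^ a)) ∨ Nonempty (↥A ⧸ Subgroup.center ↥A ≃* Cfsg.PSU 5 F (2 ^ a)))) ∨
      (∃ (F : Type) (_ : Field F) (_ : Fintype F), Fintype.card F = 4 ∧ Nonempty (↥A ⧸ Subgroup.center ↥A ≃* Cfsg.PSU 5 F 2)) ∨
      (∃ (K : Type) (_ : Field K) (_ : Fintype K) (a : ℕ), 1 ≤ a ∧ Fintype.card K = 8 ^ a ∧ Nonempty (↥A ⧸ Subgroup.center ↥A ≃* ↥(Cfsg.Lie.twistedD4 K (2 ^ a))))) :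
    Nonempty (↥(Cfsg.layer G) ≃* ↥A × ↥A) ∨ ((Cfsg.IsLieTypeChar 2 ↥(Cfsg.layer G) ∨ Cfsg.Lie.IsoTits ↥(Cfsg.layer G)) ∧ ¬ (∃ e : G, e ∈ Cfsg.layer G ∧ ∀ x ∈ Cfsg.layer G, t * x * t⁻¹ = e * x * e⁻¹)) :=
  of_core (core_of_types h1 h2 h3 h4 h5 h6 h7) hO A hA hnA hZ hR t ht htA (typeHyp_of hAX)

/-- the core statement for `³D₄`, from parameter `2` and parameters `2 ^ a`, `a ≥ 2`. -/
theorem core_3D4 (h2 : Core.{u} (fun Q _ => ∃ (K : Type) (_ : Field K) (_ : Fintype K), Fintype.card K = 8 ∧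
      Nonempty (Q ≃* ↥(Cfsg.Lie.twistedD4 K 2))))
    (h4 : Core.{u} (fun Q _ => ∃ (K : Type) (_ : Field K) (_ : Fintype K) (a : ℕ), 2 ≤ a ∧ Fintype.card K = 8 ^ a ∧
      Nonempty (Q ≃* ↥(Cfsg.Lie.twistedD4 K (2 ^ a))))) : Core.{u} (fun Q _ => Type3D4 Q) := by
  intro H _ _ L A t hC hZ h
  obtain ⟨K, i1, i2, a, ha, hc, he⟩ := h
  rcases Nat.lt_or_ge a 2 with h | h
  · obtain rfl : a = 1 := by omega
    exact h2 H L A t hC hZ ⟨K, i1, i2, by simpa using hc, by simpa using he⟩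
  · exact h4 H L A t hC hZ ⟨K, i1, i2, a, h, hc, he⟩

end Cfsg.Agent.StdEven.Final
end

-- part: TriTwo/SeedFacts
section
set_option linter.all false
open scoped Cfsg.Agent.FastGrp

/-!
# S1778, type `³D₄(2)`: first consequences of `Env` and `Seed`
-/

set_option autoImplicit false
set_option linter.unusedSectionVars false

namespace Cfsg.Agent.TriTwo

open Cfsg.Agent.StdRank2.Hex Cfsg.Agent.SplitTwo
open scoped commutatorElement

section Gen

variable {G : Type*} [Group G]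

/-- conjugates commute -/
theorem conj_comm_iff {g y z : G} (h : y * z = z * y) : (g * y * g⁻¹) * (g * z * g⁻¹) = (g * z * g⁻¹) * (g * y * g⁻¹) := by
  calc (g * y * g⁻¹) * (g * z * g⁻¹) = g * (y * z) * g⁻¹ := by group
    _ = g * (z * y) * g⁻¹ := by rw [h]
    _ = _ := by group

theorem mul_comm_of {a b c : G} (h1 : a * c = c * a) (h2 : b * c = c * b) : (a * b) * c = c * (a * b) := by
  rw [mul_assoc, h2, ← mul_assoc, h1, mul_assoc]

theorem inv_comm_of {a c : G} (h1 : a * c = c * a) : a⁻¹ * c = c * a⁻¹ := by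
  rw [inv_mul_eq_iff_eq_mul, ← mul_assoc, h1, mul_inv_cancel_right]

end Gen

section Env

variable {E : Type*} [Field E] {σ : E ≃+* E} {G : Type*} [Group G] {x : ZMod 12 → E → G} {t : G} (v : Env σ x t)

include v

theorem h2 : (2 : E) = 0 := v.hex.two
theorem h3 (a : E) : σ (σ (σ a)) = a := v.hex.cube a

theorem tinv : t⁻¹ = t := inv_eq_of_mul_eq_one_left v.tt

theorem xx {k : ZMod 12} {a : E} (ha : Ok σ k a) : x k a * x k a = 1 := v.hex.x_sq ha

theorem xinv {k : ZMod 12} {a : E} (ha : Ok σ k a) : (x k a)⁻¹ = x k a := v.hex.x_inv ha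

theorem z4_ne : x 4 1 ≠ 1 := fun e => one_ne_zero (v.hex.inj 4 1 (ok_one σ 4) e)

theorem t_gens {S : Set (ZMod 12)} {y : G} (hy : y ∈ gens σ x S) : t * y = y * t :=
  gens_comm (fun k _ a ha => v.tx k a ha) hy

theorem t_nn (k : ZMod 12) : t * nn x k = nn x k * t := by
  have h1 := v.tx k 1 (ok_one σ k)
  have h2 := v.tx (k + 6) 1 (ok_one σ _)
  unfold nn
  calc t * (x k 1 * x (k + 6) 1 * x k 1) = (t * x k 1) * x (k + 6) 1 * x k 1 := by group
    _ = x k 1 * (t * x (k + 6) 1) * x k 1 := by rw [h1]; group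
    _ = x k 1 * x (k + 6) 1 * (t * x k 1) := by rw [h2]; group
    _ = x k 1 * x (k + 6) 1 * x k 1 * t := by rw [h1]; group

theorem even_val {k : ZMod 12} (hk : k.val % 2 = 0) {a : E} (ha : Ok σ k a) : x k a = 1 ∨ x k a = x k 1 := by
  rcases v.fix a (ha hk) with rfl | rfl
  · left; exact v.hex.x_zero k
  · right; rfl

/-- `Z = {1, z₄}` -/
theorem mem_Zs {y : G} : y ∈ Zs σ x ↔ y = 1 ∨ y = x 4 1 := by
  unfold Zs
  rw [gens_single v.hex]
  constructor
  · rintro ⟨a, ha, rfl⟩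
    exact even_val v (by decide) ha
  · rintro (rfl | rfl)
    · exact one_mem _
    · exact ⟨1, ok_one σ 4, rfl⟩

theorem nn_P1 : nn x 1 ∈ P1 σ x := by
  unfold nn P1
  exact mul_mem (mul_mem (mem_gens (by simp only [_root_.Set.mem_insert_iff, _root_.Set.mem_singleton_iff, _root_.true_or]) (ok_one σ _)) (mem_gens (by
    show (1 + 6 : ZMod 12) ∈ _
    have : (1 + 6 : ZMod 12) = 7 := rfl
    rw [this]
    simp only [_root_.Set.mem_insert_iff, _root_.Set.mem_singleton_iff, _root_.or_true]) (ok_one σ _))) (mem_gens (by simp only [_root_.Set.mem_insert_iff, _root_.Set.mem_singleton_iff, _root_.true_or]) (ok_one σ _))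

theorem nt_P1 (s : E) : nt x 1 s ∈ P1 σ x := by
  unfold nt P1
  have : (1 + 6 : ZMod 12) = 7 := rfl
  exact mul_mem (mul_mem (mem_gens (by simp only [_root_.Set.mem_insert_iff, _root_.Set.mem_singleton_iff, _root_.true_or]) (ok_odd (by decide) _)) (mem_gens (by rw [this]; simp only [_root_.Set.mem_insert_iff, _root_.Set.mem_singleton_iff, _root_.or_true])
    (ok_odd (by decide) _))) (mem_gens (by simp only [_root_.Set.mem_insert_iff, _root_.Set.mem_singleton_iff, _root_.true_or]) (ok_odd (by decide) _))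

theorem tau_P1 (s : E) : tau x s ∈ P1 σ x := by
  unfold tau hh
  exact mul_mem (nt_P1 v _) (nn_P1 v)

theorem Q1_le_P1 : Q1 σ x ≤ P1 σ x := by
  rw [Q1_eq, P1_eq]; exact gl_mono (by decide)

theorem Zs_le_Q1 : Zs σ x ≤ Q1 σ x := by
  rw [Q1_eq, Zs_eq]; exact gl_mono (by decide)

/-- `P₁` centralises `z₄` -/
theorem P1_z4 {p : G} (hp : p ∈ P1 σ x) : p * x 4 1 = x 4 1 * p := by
  rw [P1_eq] at hp
  refine (gl_comm (σ := σ) v.hex (g := x 4 1) (fun k hk a ha => ?_) hp).symm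
  have hadj : ∀ k ∈ ([1, 2, 3, 4, 5, 6, 7] : List (ZMod 12)), adj 4 k = true := by decide
  exact cm v.hex (hadj k hk) (ok_one σ 4) ha

theorem gl_le {L : List (ZMod 12)} {K : Subgroup G} (hK : ∀ k ∈ L, ∀ a, Ok σ k a → x k a ∈ K) : gl σ x L ≤ K :=
  gens_le (S := {j | j ∈ L}) (fun k hk a ha => hK k hk a ha)

theorem x_norm {L : List (ZMod 12)} {k : ZMod 12} (hL : stable k L = true) {a : E} (ha : Ok σ k a) :
    x k a ∈ Subgroup.normalizer (gl σ x L : Set G) := by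
  rw [Subgroup.mem_normalizer_iff]
  intro y
  refine ⟨fun hy => conj_gl v.hex hL ha hy, fun hy => ?_⟩
  have h1 := conj_gl v.hex hL ha hy
  have e : x k a * (x k a * y * (x k a)⁻¹) * (x k a)⁻¹ = y := by
    rw [xinv v ha]
    calc x k a * (x k a * y * x k a) * x k a = (x k a * x k a) * y * (x k a * x k a) := by group
      _ = y := by rw [xx v ha]; group
  rwa [e] at h1

/-- `P₁` normalises `Q₁` -/
theorem P1_Q1 {p q : G} (hp : p ∈ P1 σ x) (hq : q ∈ Q1 σ x) : p * q * p⁻¹ ∈ Q1 σ x := by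
  rw [Q1_eq] at *
  have gen : ∀ k ∈ ([1, 2, 3, 4, 5, 6, 7] : List (ZMod 12)), stable k [2, 3, 4, 5, 6] = true := by decide +kernel
  have hK : P1 σ x ≤ Subgroup.normalizer (gl σ x [2, 3, 4, 5, 6] : Set G) := by
    rw [P1_eq]
    exact gl_le v fun k hk a ha => x_norm v (gen k hk) ha
  exact (Subgroup.mem_normalizer_iff.1 (hK hp) q).1 hq

theorem P1_Q1' {p q : G} (hp : p ∈ P1 σ x) (hq : q ∈ Q1 σ x) : p⁻¹ * q * p ∈ Q1 σ x := by
  have := P1_Q1 v (inv_mem hp) hq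
  rwa [inv_inv] at this

/-- `[Q₁, Q₁] ≤ Z` -/
theorem Q1_comm {q r : G} (hq : q ∈ Q1 σ x) (hr : r ∈ Q1 σ x) : ⁅q, r⁆ ∈ Zs σ x := by
  -- fix `r`; the set of `q ∈ P₁` with `⁅q, r⁆ ∈ Z` is a subgroup
  have cenQ : ∀ q ∈ Q1 σ x, ∀ c ∈ Zs σ x, q * c = c * q := fun q hq c hc => by
    rcases (mem_Zs v).1 hc with rfl | rfl
    · simp
    · exact P1_z4 v (Q1_le_P1 v hq)
  have step : ∀ r ∈ Q1 σ x, (∀ k ∈ ([2, 3, 4, 5, 6] : List (ZMod 12)), ∀ a, Ok σ k a → ⁅x k a, r⁆ ∈ Zs σ x) →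
      ∀ q ∈ Q1 σ x, ⁅q, r⁆ ∈ Zs σ x := by
    intro r hr hgen q hq
    let K : Subgroup G :=
      { carrier := {q | q ∈ Q1 σ x ∧ ⁅q, r⁆ ∈ Zs σ x}
        mul_mem' := by
          rintro a b ⟨ha, ha'⟩ ⟨hb, hb'⟩
          refine ⟨mul_mem ha hb, ?_⟩
          have e : ⁅a * b, r⁆ = a * ⁅b, r⁆ * a⁻¹ * ⁅a, r⁆ := by
            rw [commutatorElement_def, commutatorElement_def, commutatorElement_def]; group
          rw [e, cenQ a ha _ hb', mul_inv_cancel_right]
          exact mul_mem hb' ha'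
        one_mem' := ⟨one_mem _, by simp [one_mem]⟩
        inv_mem' := by
          rintro a ⟨ha, ha'⟩
          refine ⟨inv_mem ha, ?_⟩
          have e : ⁅a⁻¹, r⁆ = a⁻¹ * (⁅a, r⁆)⁻¹ * a := by
            rw [commutatorElement_def, commutatorElement_def]; group
          rw [e, cenQ _ (inv_mem ha) _ (inv_mem ha'), inv_mul_cancel_right]
          exact inv_mem ha' }
    have hK : Q1 σ x ≤ K := by
      rw [Q1_eq]
      refine gl_le v fun k hk a ha => ⟨?_, hgen k hk a ha⟩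
      rw [Q1_eq]
      exact mem_gl hk ha
    exact (hK hq).2
  refine step r hr (fun k hk a ha => ?_) q hq
  rw [← commutatorElement_inv]
  refine inv_mem (step (x k a) (by rw [Q1_eq]; exact mem_gl hk ha) (fun j hj b hb => ?_) r hr)
  have key : ∀ k ∈ ([2, 3, 4, 5, 6] : List (ZMod 12)), ∀ j ∈ ([2, 3, 4, 5, 6] : List (ZMod 12)), k ≠ j + 6 ∧
      ∀ i ∈ betw j k, i ∈ ([4] : List (ZMod 12)) := by decide +kernel
  rw [Zs_eq]
  exact gl_mono (key k hk j hj).2 (comm_betw v.hex hb ha (key k hk j hj).1)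

end Env


section Seed

variable {E : Type*} [Field E] {σ : E ≃+* E} {G : Type*} [Group G] {x : ZMod 12 → E → G} {t a : G} (v : Env σ x t)
  (s : Seed σ x t a)

include v s

theorem ainv : a⁻¹ = a := inv_eq_of_mul_eq_one_left s.aa

theorem a_x {k : ZMod 12} (hk : k ∈ ([1, 2, 3, 4, 5, 6, 7] : List (ZMod 12))) {b : E} (hb : Ok σ k b) :
    a * x k b = x k b * a := s.aP _ (by rw [P1_eq]; exact mem_gl hk hb)

theorem a2_a2 : a2 x a * a2 x a = 1 := by
  unfold a2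
  calc nn x 6 * a * (nn x 6)⁻¹ * (nn x 6 * a * (nn x 6)⁻¹) = nn x 6 * (a * a) * (nn x 6)⁻¹ := by group
    _ = 1 := by rw [s.aa]; group

theorem a6_a6 : a6 x a * a6 x a = 1 := by
  unfold a6
  calc nn x 1 * a2 x a * (nn x 1)⁻¹ * (nn x 1 * a2 x a * (nn x 1)⁻¹) = nn x 1 * (a2 x a * a2 x a) * (nn x 1)⁻¹ := by
        group
    _ = 1 := by rw [a2_a2 v s]; group

theorem a2inv : (a2 x a)⁻¹ = a2 x a := inv_eq_of_mul_eq_one_left (a2_a2 v s)
theorem a6inv : (a6 x a)⁻¹ = a6 x a := inv_eq_of_mul_eq_one_left (a6_a6 v s)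

theorem a2_x {k : ZMod 12} (hk : k ∈ ([11, 0, 1, 2, 3, 4, 5] : List (ZMod 12))) {b : E} (hb : Ok σ k b) :
    a2 x a * x k b = x k b * a2 x a := by
  have key : ∀ k ∈ ([11, 0, 1, 2, 3, 4, 5] : List (ZMod 12)), 2 * 6 + 6 - k ∈ ([1, 2, 3, 4, 5, 6, 7] : List (ZMod 12)) ∧
      2 * 6 + 6 - (2 * 6 + 6 - k) = k := by decide
  have hb' : Ok σ (2 * 6 + 6 - k) b := hb.congr (val_refl 6 k)
  have e : x k b = nn x 6 * x (2 * 6 + 6 - k) b * (nn x 6)⁻¹ := by
    rw [v.hex.refl 6 _ hb', (key k hk).2]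
  unfold a2
  rw [e]
  exact conj_comm_iff (a_x v s (key k hk).1 hb')

theorem a6_x {k : ZMod 12} (hk : k ∈ ([3, 4, 5, 6, 7, 8, 9] : List (ZMod 12))) {b : E} (hb : Ok σ k b) :
    a6 x a * x k b = x k b * a6 x a := by
  have key : ∀ k ∈ ([3, 4, 5, 6, 7, 8, 9] : List (ZMod 12)), 2 * 1 + 6 - k ∈ ([11, 0, 1, 2, 3, 4, 5] : List (ZMod 12)) ∧
      2 * 1 + 6 - (2 * 1 + 6 - k) = k := by decide
  have hb' : Ok σ (2 * 1 + 6 - k) b := hb.congr (val_refl 1 k)
  have e : x k b = nn x 1 * x (2 * 1 + 6 - k) b * (nn x 1)⁻¹ := by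
    rw [v.hex.refl 1 _ hb', (key k hk).2]
  unfold a6
  rw [e]
  exact conj_comm_iff (a2_x v s (key k hk).1 hb')

theorem a_nn1 : a * nn x 1 = nn x 1 * a := s.aP _ (nn_P1 v)

theorem a_tau (r : E) : a * tau x r = tau x r * a := s.aP _ (tau_P1 v r)

theorem a2_tau {r : E} (hr : r ≠ 0) : a2 x a * tau x r = tau x r * a2 x a := by
  have h1 : tau x r = nn x 6 * tau x r * (nn x 6)⁻¹ := by
    rw [← tau_nn v.hex v.card v.fix hr (by decide), mul_inv_cancel_right]
  have h2 := conj_comm_iff (g := nn x 6) (a_tau v s r)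
  rwa [← h1] at h2

theorem a6_tau {r : E} (hr : r ≠ 0) : a6 x a * tau x r = tau x r * a6 x a := by
  have h0 : nn x 1 * tau x r⁻¹ * (nn x 1)⁻¹ = tau x r := by
    rw [tau_nn1 v.hex v.card v.fix (inv_ne_zero hr), inv_inv]
  rw [← h0]
  unfold a6
  exact conj_comm_iff (a2_tau v s (inv_ne_zero hr))

theorem a2_t : a2 x a * t * (a2 x a)⁻¹ = t * x 2 1 := by
  have ht := t_nn v (x := x) 6
  have e1 : nn x 6 * x 4 1 * (nn x 6)⁻¹ = x 2 1 := by
    rw [v.hex.refl 6 4 (ok_one σ 4)]; congr 1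
  have e2 : (nn x 6)⁻¹ * t * nn x 6 = t := by
    rw [mul_assoc, ht, inv_mul_cancel_left]
  unfold a2
  calc nn x 6 * a * (nn x 6)⁻¹ * t * (nn x 6 * a * (nn x 6)⁻¹)⁻¹
      = nn x 6 * (a * ((nn x 6)⁻¹ * t * nn x 6) * a⁻¹) * (nn x 6)⁻¹ := by group
    _ = nn x 6 * (t * x 4 1) * (nn x 6)⁻¹ := by rw [e2, s.at']
    _ = (nn x 6 * t) * x 4 1 * (nn x 6)⁻¹ := by group
    _ = t * (nn x 6 * x 4 1 * (nn x 6)⁻¹) := by rw [← ht]; group
    _ = _ := by rw [e1]

theorem a6_t : a6 x a * t * (a6 x a)⁻¹ = t * x 6 1 := by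
  have ht := t_nn v (x := x) 1
  have e1 : nn x 1 * x 2 1 * (nn x 1)⁻¹ = x 6 1 := by
    rw [v.hex.refl 1 2 (ok_one σ 2)]; congr 1
  have e2 : (nn x 1)⁻¹ * t * nn x 1 = t := by
    rw [mul_assoc, ht, inv_mul_cancel_left]
  unfold a6
  calc nn x 1 * a2 x a * (nn x 1)⁻¹ * t * (nn x 1 * a2 x a * (nn x 1)⁻¹)⁻¹
      = nn x 1 * (a2 x a * ((nn x 1)⁻¹ * t * nn x 1) * (a2 x a)⁻¹) * (nn x 1)⁻¹ := by group
    _ = nn x 1 * (t * x 2 1) * (nn x 1)⁻¹ := by rw [e2, a2_t v s]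
    _ = (nn x 1 * t) * x 2 1 * (nn x 1)⁻¹ := by group
    _ = t * (nn x 1 * x 2 1 * (nn x 1)⁻¹) := by rw [← ht]; group
    _ = _ := by rw [e1]

/-- `t a t = a z₄` -/
theorem t_a : t * a * t⁻¹ = a * x 4 1 := by
  have h1 := s.at'
  have h2 := P1_z4 v (p := x 4 1) (by rw [P1_eq]; exact mem_gl (by decide) (ok_one σ 4))
  have haz := a_x v s (k := 4) (by decide) (ok_one σ 4)
  have htz := v.tx 4 1 (ok_one σ 4)
  rw [ainv v s] at h1
  rw [tinv v]
  -- `a t a = t z` gives `t a = a t z`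
  have h3 : t * a = a * t * x 4 1 := by
    calc t * a = a * (a * t * a) := by rw [← mul_assoc, ← mul_assoc, s.aa, one_mul]
      _ = a * (t * x 4 1) := by rw [h1]
      _ = _ := by group
  calc t * a * t = a * t * x 4 1 * t := by rw [h3]
    _ = a * (t * x 4 1 * t) := by group
    _ = a * (x 4 1 * (t * t)) := by rw [htz]; group
    _ = _ := by rw [v.tt, mul_one]

theorem a_not_comm : a * t ≠ t * a := by
  intro e
  have := s.at'
  rw [e, mul_inv_cancel_right, left_eq_mul] at this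
  exact z4_ne v this

/-- elements of `Ẑ` -/
theorem mem_Zh {c : G} : c ∈ Zh x a ↔ c = 1 ∨ c = x 4 1 ∨ c = a ∨ c = a * x 4 1 := by
  have haz := a_x v s (k := 4) (by decide) (ok_one σ 4)
  have hzz := xx v (ok_one σ 4)
  have hzi := xinv v (ok_one σ 4)
  have hai := ainv v s
  constructor
  · intro hc
    unfold Zh at hc
    refine Subgroup.closure_induction (p := fun c _ => c = 1 ∨ c = x 4 1 ∨ c = a ∨ c = a * x 4 1) ?_ ?_ ?_ ?_ hc
    · rintro y (rfl | rfl)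
      · right; left; rfl
      · right; right; left; rfl
    · left; rfl
    · rintro y z - - (rfl | rfl | rfl | rfl) (rfl | rfl | rfl | rfl)
      · left; simp
      · right; left; simp
      · right; right; left; simp
      · right; right; right; simp
      · right; left; simp
      · left; exact hzz
      · right; right; right; rw [haz]
      · right; right; left; rw [← mul_assoc, ← haz, mul_assoc, hzz, mul_one]
      · right; right; left; simp
      · right; right; right; rfl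
      · left; exact s.aa
      · right; left; rw [← mul_assoc, s.aa, one_mul]
      · right; right; right; simp
      · right; right; left; rw [mul_assoc, hzz, mul_one]
      · right; left; rw [haz, mul_assoc, s.aa, mul_one]
      · left
        calc a * x 4 1 * (a * x 4 1) = a * (x 4 1 * a) * x 4 1 := by group
          _ = (a * a) * (x 4 1 * x 4 1) := by rw [← haz]; group
          _ = 1 := by rw [s.aa, hzz, one_mul]
    · rintro y - (rfl | rfl | rfl | rfl)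
      · left; simp
      · right; left; exact hzi
      · right; right; left; exact hai
      · right; right; right; rw [mul_inv_rev, hzi, hai, haz]
  · have hz : x 4 1 ∈ Zh x a := Subgroup.subset_closure (by simp)
    have ha : a ∈ Zh x a := Subgroup.subset_closure (by simp)
    rintro (rfl | rfl | rfl | rfl)
    · exact one_mem _
    · exact hz
    · exact ha
    · exact mul_mem ha hz

theorem Zs_le_Zh : Zs σ x ≤ Zh x a := fun y hy => by
  rw [mem_Zh v s]
  rcases (mem_Zs v).1 hy with rfl | rfl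
  · left; rfl
  · right; left; rfl

theorem a_mem_Zh : a ∈ Zh x a := (mem_Zh v s).2 (Or.inr (Or.inr (Or.inl rfl)))
theorem z_mem_Zh : x 4 1 ∈ Zh x a := (mem_Zh v s).2 (Or.inr (Or.inl rfl))

theorem Zh_sq {c : G} (hc : c ∈ Zh x a) : c * c = 1 := by
  have haz := a_x v s (k := 4) (by decide) (ok_one σ 4)
  have hzz := xx v (ok_one σ 4)
  rcases (mem_Zh v s).1 hc with rfl | rfl | rfl | rfl
  · simp
  · exact hzz
  · exact s.aa
  · calc a * x 4 1 * (a * x 4 1) = a * (x 4 1 * a) * x 4 1 := by group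
      _ = (a * a) * (x 4 1 * x 4 1) := by rw [← haz]; group
      _ = 1 := by rw [s.aa, hzz, one_mul]

/-- `P₁` centralises `Ẑ` -/
theorem P1_Zh {p c : G} (hp : p ∈ P1 σ x) (hc : c ∈ Zh x a) : p * c = c * p := by
  have h1 := P1_z4 v hp
  have h2 := s.aP p hp
  rcases (mem_Zh v s).1 hc with rfl | rfl | rfl | rfl
  · simp
  · exact h1
  · exact h2.symm
  · rw [← mul_assoc, ← h2, mul_assoc, h1, ← mul_assoc]

theorem Zh_comm {c d : G} (hc : c ∈ Zh x a) (hd : d ∈ Zh x a) : c * d = d * c := by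
  have h1 := Zh_sq v s hc
  have h2 := Zh_sq v s hd
  have h3 := Zh_sq v s (mul_mem hc hd)
  calc c * d = c * d * (c * d * (c * d)) := by rw [h3, mul_one]
    _ = c * d * c * (d * (c * d)) := by group
    _ = d * c := by
      have : c * d * c * (d * (c * d)) = (c * d) * (c * d) * (c * d) := by group
      rw [this, h3, one_mul]
      calc c * d = (d * d) * (c * d) * (c * c) := by rw [h1, h2]; group
        _ = d * ((d * c) * (d * c)) * c := by group
        _ = d * c := by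
          have h4 : (d * c) * (d * c) = 1 := Zh_sq v s (mul_mem hd hc)
          rw [h4, mul_one]

/-- elements of `Ẑ` inverted by `t` in the coset sense are in `Z` -/
theorem Zh_ct {c : G} (hc : c ∈ Zh x a) (h : c * (t * c * t⁻¹) = 1) : c = 1 ∨ c = x 4 1 := by
  have haz := a_x v s (k := 4) (by decide) (ok_one σ 4)
  have hzz := xx v (ok_one σ 4)
  have hta := t_a v s
  have htz : t * x 4 1 * t⁻¹ = x 4 1 := by rw [v.tx 4 1 (ok_one σ 4), mul_inv_cancel_right]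
  rcases (mem_Zh v s).1 hc with rfl | rfl | rfl | rfl
  · left; rfl
  · right; rfl
  · exfalso
    rw [hta, ← mul_assoc, s.aa, one_mul] at h
    exact z4_ne v h
  · exfalso
    have e : t * (a * x 4 1) * t⁻¹ = a := by
      calc t * (a * x 4 1) * t⁻¹ = (t * a * t⁻¹) * (t * x 4 1 * t⁻¹) := by group
        _ = a := by rw [hta, htz, mul_assoc, hzz, mul_one]
    rw [e, haz, mul_assoc, s.aa, mul_one] at h
    exact z4_ne v h

end Seed

end Cfsg.Agent.TriTwo
end
end
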