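import Mathlib
import Cfsg.Agent.TriTwo.Grow1e_m3
import Cfsg.Agent.HexModel.Main_m3
import Cfsg.Prelude.Def_LieTwisted
import Cfsg.Agent.StdEven.Red_m3
import Cfsg.Agent.TriTwo.PFacts_m3
import Cfsg.Agent.WreathFusion.Kill
import Cfsg.Agent.FastGrp
import Cfsg.Agent.Prune
set_option linter.all false

section
prune_inst 0x7ffcfefbaff8bfffdfff7e7fffffdffdfdfdfffffffffbcbfff8ebefbfff6f0efde5fbad9febdaff1fe362be30f87bd3fdfffeffef6bdc7ffffd5df45ffbff8ffdf7bd8971fe8cbe0fbc0fff03f07fce7f3fffffffffffffffffffffffffffbeffffffffffff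

-- part: TriTwo/SecThreeB
section
prune_inst 0x10104100540002000018000000002000000000000003000071410400010e1001a045060140400e0141100c7028000020001000090238000000208a0040050020842240001200010427000f809002000000000000000000000000000000041000000000000
set_option linter.all false
open scoped Cfsg.Agent.FastGrp

/-!
# S1778, type `³D₄(2)`: section 3, the group `N₁`
-/

set_option autoImplicit false
set_option linter.unusedSectionVars false

namespace Cfsg.Agent.TriTwo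

open Cfsg.Agent.StdRank2.Hex Cfsg.Agent.SplitTwo
open scoped commutatorElement

section Two

variable {E : Type*} [Field E] {σ : E ≃+* E} {G : Type*} [Group G] {x : ZMod 12 → E → G} {t a : G} (v : Env σ x t)
  (s : Seed σ x t a)

include v s

theorem mem_QZ {y : G} (hy : y ∈ Q1 σ x ⊔ Zh x a) : ∃ q ∈ Q1 σ x, ∃ c ∈ Zh x a, y = q * c :=
  mem_sup_norm (fun q hq c hc => by rw [P1_Zh v s (Q1_le_P1 v hq) hc, mul_inv_cancel_right]; exact hc) hy

theorem Q_le_QZ : Q1 σ x ≤ Q1 σ x ⊔ Zh x a := le_sup_left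
theorem Z_le_QZ : Zh x a ≤ Q1 σ x ⊔ Zh x a := le_sup_right

theorem mem_N1_of {n : G} (h1 : ∀ c ∈ Zh x a, n * c = c * n) (h2 : ∀ q ∈ Q1 σ x, n * q * n⁻¹ * q⁻¹ ∈ Zh x a)
    (h4 : n * t * n⁻¹ * t⁻¹ ∈ Q1 σ x ⊔ Zh x a) : n ∈ N1 σ x t a := by
  have h1' : ∀ c ∈ Zh x a, n⁻¹ * c = c * n⁻¹ := fun c hc => inv_comm_of (h1 c hc)
  have h3 : ∀ q ∈ Q1 σ x, n⁻¹ * q * n * q⁻¹ ∈ Zh x a := fun q hq => by
    have hc := h2 q hq
    set c := n * q * n⁻¹ * q⁻¹ with hcd
    have e : n⁻¹ * q * n * q⁻¹ = c⁻¹ := by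
      have e1 : q = n⁻¹ * (c * q) * n := by rw [hcd]; group
      have e2 : n⁻¹ * (c * q) * n = c * (n⁻¹ * q * n) := by
        calc n⁻¹ * (c * q) * n = (n⁻¹ * c) * q * n := by group
          _ = c * (n⁻¹ * q * n) := by rw [h1' c hc]; group
      rw [e2] at e1
      calc n⁻¹ * q * n * q⁻¹ = c⁻¹ * (c * (n⁻¹ * q * n)) * q⁻¹ := by group
        _ = c⁻¹ := by rw [← e1]; group
    rw [e]; exact inv_mem hc
  refine ⟨h1, h2, h3, h4, ?_⟩
  set y := n * t * n⁻¹ * t⁻¹ with hy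
  have e : n⁻¹ * t * n * t⁻¹ = (n⁻¹ * y * n)⁻¹ := by rw [hy]; group
  rw [e]
  obtain ⟨q, hq, c, hc, hyq⟩ := mem_QZ v s h4
  refine inv_mem ?_
  rw [hyq]
  have e2 : n⁻¹ * (q * c) * n = (n⁻¹ * q * n * q⁻¹) * q * c := by
    calc n⁻¹ * (q * c) * n = (n⁻¹ * q * n) * (n⁻¹ * c * n) := by group
      _ = (n⁻¹ * q * n) * c := by rw [h1' c hc, inv_mul_cancel_right]
      _ = _ := by group
  rw [e2]
  exact mul_mem (mul_mem (Z_le_QZ v s (h3 q hq)) (Q_le_QZ v s hq)) (Z_le_QZ v s hc)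

/-- closure of the commutator condition -/
theorem comm_closed {n : G} (hn : ∀ c ∈ Zh x a, n * c = c * n) {L : List (ZMod 12)}
    (hL : ∀ k ∈ L, k ∈ ([1, 2, 3, 4, 5, 6, 7] : List (ZMod 12)))
    (h : ∀ k ∈ L, ∀ b, Ok σ k b → n * x k b * n⁻¹ * (x k b)⁻¹ ∈ Zh x a) {q : G} (hq : q ∈ gl σ x L) :
    n * q * n⁻¹ * q⁻¹ ∈ Zh x a := by
  let K : Subgroup G :=
    { carrier := {q | q ∈ P1 σ x ∧ n * q * n⁻¹ * q⁻¹ ∈ Zh x a}
      mul_mem' := by
        rintro p q ⟨hp, hp'⟩ ⟨hq, hq'⟩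
        refine ⟨mul_mem hp hq, ?_⟩
        have e : n * (p * q) * n⁻¹ * (p * q)⁻¹ = (n * p * n⁻¹ * p⁻¹) * (p * (n * q * n⁻¹ * q⁻¹) * p⁻¹) := by group
        rw [e, P1_Zh v s hp hq', mul_inv_cancel_right]
        exact mul_mem hp' hq'
      one_mem' := ⟨one_mem _, by simp [one_mem]⟩
      inv_mem' := by
        rintro p ⟨hp, hp'⟩
        refine ⟨inv_mem hp, ?_⟩
        have e : n * p⁻¹ * n⁻¹ * p⁻¹⁻¹ = p⁻¹ * (p * n * p⁻¹ * n⁻¹) * p := by group
        have e1 : p * n * p⁻¹ * n⁻¹ = (n * p * n⁻¹ * p⁻¹)⁻¹ := by group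
        rw [e, e1, P1_Zh v s (inv_mem hp) (inv_mem hp'), inv_mul_cancel_right]
        exact inv_mem hp' }
  have hK : gl σ x L ≤ K := gl_le v fun k hk b hb => ⟨by rw [P1_eq]; exact mem_gl (hL k hk) hb, h k hk b hb⟩
  exact (hK hq).2

theorem N1_Q {n : G} (hn : n ∈ N1 σ x t a) {q : G} (hq : q ∈ Q1 σ x) : n * q * n⁻¹ * q⁻¹ ∈ Zh x a := hn.2.1 q hq

theorem t_Zh {c : G} (hc : c ∈ Zh x a) : t * c * t⁻¹ ∈ Zh x a := by
  have hta := t_a v s
  have htz : t * x 4 1 * t⁻¹ = x 4 1 := by rw [v.tx 4 1 (ok_one σ 4), mul_inv_cancel_right]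
  have ha := a_mem_Zh v s
  have hz := z_mem_Zh v s
  rcases (mem_Zh v s).1 hc with rfl | rfl | rfl | rfl
  · simp [one_mem]
  · rw [htz]; exact hz
  · rw [hta]; exact mul_mem ha hz
  · have e : t * (a * x 4 1) * t⁻¹ = (t * a * t⁻¹) * (t * x 4 1 * t⁻¹) := by group
    rw [e, hta, htz]
    exact mul_mem (mul_mem ha hz) hz

theorem P_N1 {p n : G} (hp : p ∈ P1 σ x) (hn : n ∈ N1 σ x t a) : p * n * p⁻¹ ∈ N1 σ x t a := by
  refine mem_N1_of v s (fun c hc => ?_) (fun q hq => ?_) ?_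
  · exact mul_comm_of (mul_comm_of (P1_Zh v s hp hc) (hn.1 c hc)) (P1_Zh v s (inv_mem hp) hc)
  · have h := hn.2.1 _ (P1_Q1' v hp hq)
    have e : p * n * p⁻¹ * q * (p * n * p⁻¹)⁻¹ * q⁻¹ =
        p * (n * (p⁻¹ * q * p) * n⁻¹ * (p⁻¹ * q * p)⁻¹) * p⁻¹ := by group
    rw [e, P1_Zh v s hp h, mul_inv_cancel_right]
    exact h
  · have hpt : p⁻¹ * t = t * p⁻¹ := by
      have := t_gens v (S := {1, 2, 3, 4, 5, 6, 7}) (inv_mem hp)
      exact this.symm
    have e : p * n * p⁻¹ * t * (p * n * p⁻¹)⁻¹ * t⁻¹ = p * (n * t * n⁻¹ * t⁻¹) * p⁻¹ := by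
      have hpt' : t * p⁻¹ * t⁻¹ = p⁻¹ := by rw [← hpt, mul_inv_cancel_right]
      calc p * n * p⁻¹ * t * (p * n * p⁻¹)⁻¹ * t⁻¹ = p * n * (p⁻¹ * t) * p * n⁻¹ * p⁻¹ * t⁻¹ := by group
        _ = p * n * (t * p⁻¹) * p * n⁻¹ * p⁻¹ * t⁻¹ := by rw [hpt]
        _ = p * (n * t * n⁻¹ * t⁻¹) * (t * p⁻¹ * t⁻¹) := by group
        _ = _ := by rw [hpt']
    rw [e]
    obtain ⟨q, hq, c, hc, hy⟩ := mem_QZ v s hn.2.2.2.1
    rw [hy]
    have e2 : p * (q * c) * p⁻¹ = (p * q * p⁻¹) * (p * c * p⁻¹) := by group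
    rw [e2, P1_Zh v s hp hc, mul_inv_cancel_right]
    exact mul_mem (Q_le_QZ v s (P1_Q1 v hp hq)) (Z_le_QZ v s hc)

theorem tQ {q : G} (hq : q ∈ Q1 σ x) : t * q = q * t := t_gens v hq

theorem t_N1 {n : G} (hn : n ∈ N1 σ x t a) : t * n * t⁻¹ ∈ N1 σ x t a := by
  have hti := tinv v
  refine mem_N1_of v s (fun c hc => ?_) (fun q hq => ?_) ?_
  · have h1 := hn.1 _ (t_Zh v s hc)
    rw [hti] at h1 ⊢
    calc t * n * t * c = t * n * (t * c * t) * t := by
          have : t * c = (t * c * t) * t := by rw [mul_assoc (t * c), v.tt, mul_one]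
          calc t * n * t * c = t * n * (t * c) := by group
            _ = t * n * ((t * c * t) * t) := by rw [← this]
            _ = _ := by group
      _ = t * (n * (t * c * t)) * t := by group
      _ = t * (t * c * t * n) * t := by rw [h1]
      _ = (t * t) * c * (t * n * t) := by group
      _ = c * (t * n * t) := by rw [v.tt, one_mul]
  · have h := hn.2.1 q hq
    have htq : t⁻¹ * q * t = q := by rw [mul_assoc, ← tQ v s hq, inv_mul_cancel_left]
    have e : t * n * t⁻¹ * q * (t * n * t⁻¹)⁻¹ * q⁻¹ = t * (n * q * n⁻¹ * q⁻¹) * t⁻¹ := by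
      have htq' : t * q⁻¹ * t⁻¹ = q⁻¹ := by rw [tQ v s (inv_mem hq), mul_inv_cancel_right]
      calc t * n * t⁻¹ * q * (t * n * t⁻¹)⁻¹ * q⁻¹ = t * n * (t⁻¹ * q * t) * n⁻¹ * t⁻¹ * q⁻¹ := by group
        _ = t * (n * q * n⁻¹) * t⁻¹ * q⁻¹ := by rw [htq]; group
        _ = t * (n * q * n⁻¹) * t⁻¹ * (t * q⁻¹ * t⁻¹) := by rw [htq']
        _ = _ := by group
    rw [e]
    exact t_Zh v s h
  · have e : t * n * t⁻¹ * t * (t * n * t⁻¹)⁻¹ * t⁻¹ = t * (n * t * n⁻¹ * t⁻¹) * t⁻¹ := by group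
    rw [e]
    obtain ⟨q, hq, c, hc, hy⟩ := mem_QZ v s hn.2.2.2.1
    rw [hy]
    have e2 : t * (q * c) * t⁻¹ = (t * q * t⁻¹) * (t * c * t⁻¹) := by group
    rw [e2, tQ v s hq, mul_inv_cancel_right]
    exact mul_mem (Q_le_QZ v s hq) (Z_le_QZ v s (t_Zh v s hc))

theorem Q_le : Q1 σ x ≤ N1 σ x t a := fun q hq =>
  mem_N1_of v s (fun c hc => P1_Zh v s (Q1_le_P1 v hq) hc)
    (fun r hr => Zs_le_Zh v s (by rw [← commutatorElement_def]; exact Q1_comm v hq hr))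
    (by
      have : q * t * q⁻¹ * t⁻¹ = 1 := by rw [← tQ v s hq]; group
      rw [this]; exact one_mem _)

theorem Z_le : Zh x a ≤ N1 σ x t a := fun c hc =>
  mem_N1_of v s (fun d hd => Zh_comm v s hc hd)
    (fun r hr => by
      have : c * r * c⁻¹ * r⁻¹ = 1 := by rw [← P1_Zh v s (Q1_le_P1 v hr) hc]; group
      rw [this]; exact one_mem _)
    (by
      have e : c * t * c⁻¹ * t⁻¹ = c * (t * c⁻¹ * t⁻¹) := by group
      rw [e]
      exact Z_le_QZ v s (mul_mem hc (t_Zh v s (inv_mem hc))))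

theorem a2_N1 : a2 x a ∈ N1 σ x t a := by
  have hZ : ∀ c ∈ Zh x a, a2 x a * c = c * a2 x a := fun c hc => by
    have h4 : a2 x a * x 4 1 = x 4 1 * a2 x a := a2_x v s (by decide) (ok_one σ 4)
    rcases (mem_Zh v s).1 hc with rfl | rfl | rfl | rfl
    · simp
    · exact h4
    · exact s.kap.symm
    · rw [← mul_assoc, ← s.kap, mul_assoc, h4, ← mul_assoc]
  refine mem_N1_of v s hZ (fun q hq => ?_) ?_
  · rw [Q1_eq] at hq
    refine comm_closed v s hZ (by decide) (fun k hk b hb => ?_) hq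
    have key : ∀ k ∈ ([2, 3, 4, 5, 6] : List (ZMod 12)), k ∈ ([11, 0, 1, 2, 3, 4, 5] : List (ZMod 12)) ∨ k = 6 := by
      decide
    rcases key k hk with hk' | rfl
    · have : a2 x a * x k b * (a2 x a)⁻¹ * (x k b)⁻¹ = 1 := by rw [a2_x v s hk' hb]; group
      rw [this]; exact one_mem _
    · rcases even_val v (by decide) hb with e | e
      · rw [e]; simp [one_mem]
      · rw [e, a2_x6 v s]; exact a_mem_Zh v s
  · have e : a2 x a * t * (a2 x a)⁻¹ * t⁻¹ = x 2 1 := by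
      rw [a2_t v s, v.tx 2 1 (ok_one σ 2), mul_inv_cancel_right]
    rw [e]
    exact Q_le_QZ v s (by rw [Q1_eq]; exact mem_gl (by decide) (ok_one σ 2))

theorem a6_N1 : a6 x a ∈ N1 σ x t a := P_N1 v s (nn_P1 v) (a2_N1 v s)

/-- elements of `N₁` commuting with `t` are in `Q₁` -/
theorem N1_Ct {n : G} (hn : n ∈ N1 σ x t a) (ht : n * t = t * n) : n ∈ Q1 σ x := by
  have fix : ∀ c ∈ Zh x a, c * t = t * c → c ∈ Zs σ x := fun c hc h => by
    rw [mem_Zs v]
    refine Zh_ct v s hc ?_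
    rw [← h, mul_inv_cancel_right]
    exact Zh_sq v s hc
  have val : ∀ k, ∀ b, k ∈ ([2, 3, 4, 5, 6] : List (ZMod 12)) → Ok σ k b → n * x k b * n⁻¹ * (x k b)⁻¹ ∈ Zs σ x := by
    intro k b hk hb
    refine fix _ (hn.2.1 _ (by rw [Q1_eq]; exact mem_gl hk hb)) ?_
    have h1 : x k b * t = t * x k b := (v.tx k b hb).symm
    exact mul_comm_of (mul_comm_of (mul_comm_of ht h1) (inv_comm_of ht)) (inv_comm_of h1)
  obtain ⟨d3, hd3⟩ := exists_char v (k := 3) (Or.inl rfl) (g := n) (fun b => val 3 b (by decide) (ok_odd (by decide) b))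
  obtain ⟨d5, hd5⟩ := exists_char v (k := 5) (Or.inr rfl) (g := n) (fun b => val 5 b (by decide) (ok_odd (by decide) b))
  obtain ⟨e2, he2, hd2⟩ : ∃ e, Ok σ 6 e ∧ n * x 2 1 * n⁻¹ * (x 2 1)⁻¹ = x 4 e := by
    rcases (mem_Zs v).1 (val 2 1 (by decide) (ok_one σ 2)) with h | h
    · exact ⟨0, ok_zero σ _, by rw [h, v.hex.x_zero]⟩
    · exact ⟨1, ok_one σ _, h⟩
  obtain ⟨e6, he6, hd6⟩ : ∃ e, Ok σ 2 e ∧ n * x 6 1 * n⁻¹ * (x 6 1)⁻¹ = x 4 e := by
    rcases (mem_Zs v).1 (val 6 1 (by decide) (ok_one σ 6)) with h | h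
    · exact ⟨0, ok_zero σ _, by rw [h, v.hex.x_zero]⟩
    · exact ⟨1, ok_one σ _, h⟩
  -- the element of `Q₁` with the same action
  set q := x 5 d3 * x 3 d5 * x 6 e2 * x 2 e6 with hq
  have o3 := fun b : E => ok_odd (σ := σ) (k := 3) (by decide) b
  have o5 := fun b : E => ok_odd (σ := σ) (k := 5) (by decide) b
  have q_mem : q ∈ Q1 σ x := by
    rw [Q1_eq]
    exact mul_mem (mul_mem (mul_mem (mem_gl (by decide) (o5 _)) (mem_gl (by decide) (o3 _))) (mem_gl (by decide) he2))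
      (mem_gl (by decide) he6)
  have z4c : ∀ {k : ZMod 12} {b c : E}, k ∈ ([2, 3, 4, 5, 6] : List (ZMod 12)) → Ok σ k b → Ok σ 4 c →
      x k b * x 4 c = x 4 c * x k b := fun {k b c} hk hb hc => by
    have hadj : ∀ k ∈ ([2, 3, 4, 5, 6] : List (ZMod 12)), adj k 4 = true := by decide
    exact cm v.hex (hadj k hk) hb hc
  -- commutator of a product with central values
  have prod : ∀ g₁ g₂ y c₁ c₂ : G, g₁ * y * g₁⁻¹ * y⁻¹ = c₁ → g₂ * y * g₂⁻¹ * y⁻¹ = c₂ → g₁ * c₂ = c₂ * g₁ →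
      (g₁ * g₂) * y * (g₁ * g₂)⁻¹ * y⁻¹ = c₂ * c₁ := by
    intro g₁ g₂ y c₁ c₂ h1 h2 h3
    have e : (g₁ * g₂) * y * (g₁ * g₂)⁻¹ * y⁻¹ = g₁ * (g₂ * y * g₂⁻¹ * y⁻¹) * g₁⁻¹ * (g₁ * y * g₁⁻¹ * y⁻¹) := by group
    rw [e, h1, h2, h3, mul_inv_cancel_right]
  have triv : ∀ k l : ZMod 12, adj k l = true → ∀ b c, Ok σ k b → Ok σ l c → x k b * x l c * (x k b)⁻¹ * (x l c)⁻¹ = 1 := by
    intro k l hadj b c hb hc
    rw [cm v.hex hadj hb hc]; group
  have qy : ∀ k b, k ∈ ([2, 3, 4, 5, 6] : List (ZMod 12)) → Ok σ k b → q * x k b * q⁻¹ * (x k b)⁻¹ =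
      n * x k b * n⁻¹ * (x k b)⁻¹ := by
    intro k b hk hb
    have hk5 : k = 2 ∨ k = 3 ∨ k = 4 ∨ k = 5 ∨ k = 6 := by
      have : ∀ k ∈ ([2, 3, 4, 5, 6] : List (ZMod 12)), k = 2 ∨ k = 3 ∨ k = 4 ∨ k = 5 ∨ k = 6 := by decide
      exact this k hk
    rcases hk5 with rfl | rfl | rfl | rfl | rfl
    · -- k = 2
      rcases even_val v (by decide) hb with e | e
      · rw [e]; group
      rw [e, hd2]
      have h6 : x 6 e2 * x 2 1 * (x 6 e2)⁻¹ * (x 2 1)⁻¹ = x 4 e2 := by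
        have h := v.hex.commL4 (k := 2) (by decide) (t := 1) (u := e2) (map_one σ) (he2 (by decide))
        rw [one_mul, show (2 : ZMod 12) + 4 = 6 from rfl, show (2 : ZMod 12) + 2 = 4 from rfl] at h
        rw [← commutatorElement_def, ← commutatorElement_inv, h, xinv v (he2.congr (by decide))]
      have p1 := prod _ _ _ _ _ (triv 5 2 (by decide) d3 1 (o5 _) (ok_one σ 2)) (triv 3 2 (by decide) d5 1 (o3 _) (ok_one σ 2))
        (by simp)
      have p2 := prod _ _ _ _ _ p1 h6 (mul_comm_of (z4c (by decide) (o5 _) (he2.congr (by decide)))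
        (z4c (by decide) (o3 _) (he2.congr (by decide))))
      have p3 := prod _ _ _ _ _ p2 (triv 2 2 (by decide) e6 1 he6 (ok_one σ 2)) (by simp)
      rw [hq, p3]; group
    · -- k = 3
      rw [hd3]
      have h5 : x 5 d3 * x 3 b * (x 5 d3)⁻¹ * (x 3 b)⁻¹ = x 4 (tr σ (d3 * b)) := by
        rw [← commutatorElement_def, c53 v]
      have p1 := prod _ _ _ _ _ h5 (triv 3 3 (by decide) d5 b (o3 _) (o3 _)) (by simp)
      have p2 := prod _ _ _ _ _ p1 (triv 6 3 (by decide) e2 b he2 (o3 _)) (by simp)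
      have p3 := prod _ _ _ _ _ p2 (triv 2 3 (by decide) e6 b he6 (o3 _)) (by simp)
      rw [hq, p3]; group
    · -- k = 4
      have h1 : q * x 4 b * q⁻¹ * (x 4 b)⁻¹ = 1 := by
        rcases even_val v (by decide) hb with e | e
        · rw [e]; group
        · rw [e, P1_z4 v (Q1_le_P1 v q_mem)]; group
      have h2 : n * x 4 b * n⁻¹ * (x 4 b)⁻¹ = 1 := by
        rcases even_val v (by decide) hb with e | e
        · rw [e]; group
        · rw [e, hn.1 _ (z_mem_Zh v s)]; group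
      rw [h1, h2]
    · -- k = 5
      rw [hd5]
      have h3 : x 3 d5 * x 5 b * (x 3 d5)⁻¹ * (x 5 b)⁻¹ = x 4 (tr σ (d5 * b)) := by
        rw [← commutatorElement_def, c35 v]
      have p1 := prod _ _ _ _ _ (triv 5 5 (by decide) d3 b (o5 _) (o5 _)) h3 (z4c (by decide) (o5 _) (ok_tr v 4 _))
      have p2 := prod _ _ _ _ _ p1 (triv 6 5 (by decide) e2 b he2 (o5 _)) (by simp)
      have p3 := prod _ _ _ _ _ p2 (triv 2 5 (by decide) e6 b he6 (o5 _)) (by simp)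
      rw [hq, p3]; group
    · -- k = 6
      rcases even_val v (by decide) hb with e | e
      · rw [e]; group
      rw [e, hd6]
      have h2 : x 2 e6 * x 6 1 * (x 2 e6)⁻¹ * (x 6 1)⁻¹ = x 4 e6 := by
        have h := v.hex.commL4 (k := 2) (by decide) (t := e6) (u := 1) (he6 (by decide)) (map_one σ)
        rw [mul_one, show (2 : ZMod 12) + 4 = 6 from rfl, show (2 : ZMod 12) + 2 = 4 from rfl] at h
        rw [← commutatorElement_def, h]
      have p1 := prod _ _ _ _ _ (triv 5 6 (by decide) d3 1 (o5 _) (ok_one σ 6)) (triv 3 6 (by decide) d5 1 (o3 _) (ok_one σ 6))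
        (by simp)
      have p2 := prod _ _ _ _ _ p1 (triv 6 6 (by decide) e2 1 he2 (ok_one σ 6)) (by simp)
      have p3 := prod _ _ _ _ _ p2 h2 (mul_comm_of (mul_comm_of (z4c (by decide) (o5 _) (he6.congr (by decide)))
        (z4c (by decide) (o3 _) (he6.congr (by decide)))) (z4c (by decide) he2 (he6.congr (by decide))))
      rw [hq, p3]; group
  -- `m = q⁻¹ n` centralises `Q₁` and `t`
  have hm : ∀ r ∈ Q1 σ x, (q⁻¹ * n) * r = r * (q⁻¹ * n) := by
    intro r hr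
    rw [Q1_eq] at hr
    refine gl_comm v.hex (fun k hk b hb => ?_) hr
    have e := qy k b hk hb
    have e' : q * x k b * q⁻¹ = n * x k b * n⁻¹ := mul_right_cancel e
    calc q⁻¹ * n * x k b = q⁻¹ * (n * x k b * n⁻¹) * n := by group
      _ = q⁻¹ * (q * x k b * q⁻¹) * n := by rw [e']
      _ = x k b * (q⁻¹ * n) := by group
  have hmt : (q⁻¹ * n) * t = t * (q⁻¹ * n) := mul_comm_of (inv_comm_of (tQ v s q_mem).symm) ht
  rcases v.c1 _ hmt hm with h | h
  · have e : n = q * (q⁻¹ * n) := by group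
    rw [e]
    exact mul_mem q_mem (Zs_le_Q1 v h)
  · exfalso
    have e : t = (t * (q⁻¹ * n)) * (n⁻¹ * q) := by group
    have c1 : (t * (q⁻¹ * n)) * a = a * (t * (q⁻¹ * n)) := (s.aP _ (Q1_le_P1 v (Zs_le_Q1 v h))).symm
    have c2 : n⁻¹ * a = a * n⁻¹ := inv_comm_of (hn.1 a (a_mem_Zh v s))
    have c3 : q * a = a * q := (s.aP _ (Q1_le_P1 v q_mem)).symm
    have c4 : t * a = a * t := by
      have := mul_comm_of c1 (mul_comm_of c2 c3)
      rwa [← e] at this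
    exact a_not_comm v s c4.symm

/-- the kernel of `n ↦ ⁅n, t⁆` -/
theorem N1_ker {n : G} (hn : n ∈ N1 σ x t a) (h : ⁅n, t⁆ ∈ Zh x a) : n ∈ Q1 σ x ⊔ Zh x a := by
  rw [commutatorElement_def] at h
  set c := n * t * n⁻¹ * t⁻¹ with hc
  have h1 : c * (t * c * t⁻¹) = 1 := by
    rw [hc]
    calc n * t * n⁻¹ * t⁻¹ * (t * (n * t * n⁻¹ * t⁻¹) * t⁻¹) = n * (t * t) * n⁻¹ * t⁻¹ * t⁻¹ := by group
      _ = 1 := by rw [v.tt, tinv v, mul_one, mul_inv_cancel, one_mul, v.tt]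
  rcases Zh_ct v s h h1 with e | e
  · refine Q_le_QZ v s (N1_Ct v s hn ?_)
    rw [hc] at e
    have e' : n * t * n⁻¹ = t := mul_inv_eq_one.1 e
    exact mul_inv_eq_iff_eq_mul.1 e'
  · -- `a n` commutes with `t`
    have e1 : n * t * n⁻¹ = x 4 1 * t := by
      rw [← e, hc]; group
    have hz := z_mem_Zh v s
    have haz := a_x v s (k := 4) (by decide) (ok_one σ 4)
    have hat := s.at'
    have e2 : (a * n) * t * (a * n)⁻¹ = t := by
      calc (a * n) * t * (a * n)⁻¹ = a * (n * t * n⁻¹) * a⁻¹ := by group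
        _ = (a * x 4 1) * t * a⁻¹ := by rw [e1]; group
        _ = x 4 1 * (a * t * a⁻¹) := by rw [haz]; group
        _ = (x 4 1 * t) * x 4 1 := by rw [hat]; group
        _ = t * (x 4 1 * x 4 1) := by rw [← v.tx 4 1 (ok_one σ 4)]; group
        _ = t := by rw [xx v (ok_one σ 4), mul_one]
    have h3 := N1_Ct v s (mul_mem (Z_le v s (a_mem_Zh v s)) hn) (mul_inv_eq_iff_eq_mul.1 e2)
    have e3 : n = a⁻¹ * (a * n) := by group
    rw [e3]
    exact mul_mem (Z_le_QZ v s (inv_mem (a_mem_Zh v s))) (Q_le_QZ v s h3)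

end Two

end Cfsg.Agent.TriTwo
end

-- part: TriTwo/SecThreeC
section
prune_inst 0x100000500002000018000000002000000000000003000031410400010a1020a045260100400c0148100c502800002000100000023800000020880000050000042240001300010426000ec09000000000000000000000000000000000041000000000000
set_option linter.all false
open scoped Cfsg.Agent.FastGrp

/-!
# S1778, type `³D₄(2)`: section 3, `N₁ / Ẑ` is elementary abelian, the complement `E`
-/

set_option autoImplicit false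
set_option linter.unusedSectionVars false

namespace Cfsg.Agent.TriTwo

open Cfsg.Agent.StdRank2.Hex Cfsg.Agent.SplitTwo
open scoped commutatorElement

section Abs

variable {G : Type*} [Group G]

/-- the set of `y` centralising `C` with `⁅y, g⁆ ∈ C` -/
theorem closure_comm_aux {S : Set G} {C : Subgroup G} (hC : ∀ g ∈ S, ∀ c ∈ C, g * c = c * g) {y' : G}
    (h : ∀ g ∈ S, ⁅g, y'⁆ ∈ C) {y : G} (hy : y ∈ Subgroup.closure S) : (∀ c ∈ C, y * c = c * y) ∧ ⁅y, y'⁆ ∈ C := by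
  let K : Subgroup G :=
    { carrier := {y | (∀ c ∈ C, y * c = c * y) ∧ ⁅y, y'⁆ ∈ C}
      mul_mem' := by
        rintro g k ⟨hg, hg'⟩ ⟨hk, hk'⟩
        refine ⟨fun c hc => mul_comm_of (hg c hc) (hk c hc), ?_⟩
        have e : ⁅g * k, y'⁆ = g * ⁅k, y'⁆ * g⁻¹ * ⁅g, y'⁆ := by
          rw [commutatorElement_def, commutatorElement_def, commutatorElement_def]; group
        rw [e, hg _ hk', mul_inv_cancel_right]
        exact mul_mem hk' hg'
      one_mem' := ⟨fun c _ => by simp, by simp [one_mem]⟩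
      inv_mem' := by
        rintro g ⟨hg, hg'⟩
        refine ⟨fun c hc => inv_comm_of (hg c hc), ?_⟩
        have e : ⁅g⁻¹, y'⁆ = g⁻¹ * (⁅g, y'⁆)⁻¹ * g := by
          rw [commutatorElement_def, commutatorElement_def]; group
        rw [e, inv_comm_of (hg _ (inv_mem hg')), inv_mul_cancel_right]
        exact inv_mem hg' }
  have hK : Subgroup.closure S ≤ K := by
    rw [Subgroup.closure_le]
    exact fun g hg => ⟨hC g hg, h g hg⟩
  exact hK hy

theorem closure_comm {S : Set G} {C : Subgroup G} (hC : ∀ g ∈ S, ∀ c ∈ C, g * c = c * g)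
    (h : ∀ g ∈ S, ∀ g' ∈ S, ⁅g, g'⁆ ∈ C) {y y' : G} (hy : y ∈ Subgroup.closure S) (hy' : y' ∈ Subgroup.closure S) :
    ⁅y, y'⁆ ∈ C := by
  refine (closure_comm_aux hC (fun g hg => ?_) hy).2
  rw [← commutatorElement_inv]
  exact inv_mem (closure_comm_aux hC (fun g' hg' => h g' hg' g hg) hy').2

theorem closure_sq {S : Set G} {C : Subgroup G} (hC : ∀ g ∈ S, ∀ c ∈ C, g * c = c * g)
    (h : ∀ g ∈ S, ∀ g' ∈ S, ⁅g, g'⁆ ∈ C) (hs : ∀ g ∈ S, g * g ∈ C) {y : G} (hy : y ∈ Subgroup.closure S) :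
    y * y ∈ C := by
  have cent : ∀ y ∈ Subgroup.closure S, ∀ c ∈ C, y * c = c * y := fun y hy =>
    (closure_comm_aux (y' := 1) hC (fun g _ => by simp [one_mem]) hy).1
  let K : Subgroup G :=
    { carrier := {y | y ∈ Subgroup.closure S ∧ y * y ∈ C}
      mul_mem' := by
        rintro g k ⟨hg, hg'⟩ ⟨hk, hk'⟩
        refine ⟨mul_mem hg hk, ?_⟩
        have e : g * k * (g * k) = (g * g) * ⁅g⁻¹, k⁆ * (k * k) := by
          rw [commutatorElement_def]; group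
        rw [e]
        exact mul_mem (mul_mem hg' (closure_comm hC h (inv_mem hg) hk)) hk'
      one_mem' := ⟨one_mem _, by simp [one_mem]⟩
      inv_mem' := by
        rintro g ⟨hg, hg'⟩
        refine ⟨inv_mem hg, ?_⟩
        have e : g⁻¹ * g⁻¹ = (g * g)⁻¹ := by group
        rw [e]; exact inv_mem hg' }
  have hK : Subgroup.closure S ≤ K := by
    rw [Subgroup.closure_le]
    exact fun g hg => ⟨Subgroup.subset_closure hg, hs g hg⟩
  exact (hK hy).2

end Abs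

section Three

variable {E : Type*} [Field E] {σ : E ≃+* E} {G : Type*} [Group G] {x : ZMod 12 → E → G} {t a : G} (v : Env σ x t)
  (s : Seed σ x t a)

include v in
theorem Q1_sq {q : G} (hq : q ∈ Q1 σ x) : q * q ∈ Zs σ x := by
  have hq' := hq
  unfold Q1 gens at hq
  refine closure_sq (C := Zs σ x) (S := {y : G | ∃ k ∈ ({2, 3, 4, 5, 6} : Set (ZMod 12)), ∃ a, Ok σ k a ∧ y = x k a})
    (fun g hg c hc => ?_) (fun g hg g' hg' => ?_) (fun g hg => ?_) hq
  · have hgQ : g ∈ Q1 σ x := Subgroup.subset_closure hg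
    rcases (mem_Zs v).1 hc with rfl | rfl
    · simp
    · exact P1_z4 v (Q1_le_P1 v hgQ)
  · exact Q1_comm v (Subgroup.subset_closure hg) (Subgroup.subset_closure hg')
  · obtain ⟨k, -, b, hb, rfl⟩ := hg
    rw [xx v hb]; exact one_mem _

include v in
theorem disj_opps {L M : List (ZMod 12)} (hLM : (opps L M || opps (L.map fun i => 6 - i) (M.map fun i => 6 - i)) = true)
    {y : G} (hy : y ∈ gl σ x L) (hy' : y ∈ gl σ x M) : y = 1 := by
  rw [Bool.or_eq_true] at hLM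
  rcases hLM with hLM | hLM
  · exact disj_of_opps v.hex hLM hy hy'
  · have e6 : (2 * 6 + 6 : ZMod 12) = 6 := by decide
    have h1 : nn x 6 * y * (nn x 6)⁻¹ ∈ gl σ x (L.map fun i => 6 - i) :=
      gl_nn v.hex 6 (fun j hj => by rw [e6]; exact List.mem_map.2 ⟨j, hj, rfl⟩) hy
    have h2 : nn x 6 * y * (nn x 6)⁻¹ ∈ gl σ x (M.map fun i => 6 - i) :=
      gl_nn v.hex 6 (fun j hj => by rw [e6]; exact List.mem_map.2 ⟨j, hj, rfl⟩) hy'
    have := disj_of_opps v.hex hLM h1 h2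
    rwa [mul_inv_eq_one, mul_eq_left] at this

include v in
/-- uniqueness of the first factor -/
theorem uniq_gl {L : List (ZMod 12)} {k : ZMod 12} (hopp : (opps [k] L || opps ([k].map fun i => 6 - i) (L.map fun i => 6 - i)) = true) {b b' : E} (hb : Ok σ k b) (hb' : Ok σ k b')
    {y y' : G} (hy : y ∈ gl σ x L) (hy' : y' ∈ gl σ x L) (e : x k b * y = x k b' * y') : b = b' ∧ y = y' := by
  have h1 : x k (b' + b) = y' * y⁻¹ := by
    rw [v.hex.add k b' b hb' hb]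
    have e2 : x k b' * (x k b * y) = (x k b' * x k b') * y' := by rw [e]; group
    rw [xx v hb', one_mul] at e2
    rw [← e2]; group
  have h2 : x k (b' + b) = 1 := by
    refine disj_opps v hopp (mem_gl (by simp) (hb'.add hb)) ?_
    rw [h1]; exact mul_mem hy' (inv_mem hy)
  have h3 : b' + b = 0 := v.hex.inj k _ (hb'.add hb) h2
  have h4 : b' = b := by
    have := eq_neg_of_add_eq_zero_left h3
    rwa [negEq v.hex.two] at this
  refine ⟨h4.symm, ?_⟩
  rw [h4] at e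
  exact mul_left_cancel e

include v in
/-- `C_{Q₁}(H) = ⟨z₂, z₄, z₆⟩` -/
theorem Q1_fix {q : G} (hq : q ∈ Q1 σ x) {r : E} (hr : r ≠ 0) (hr1 : r ≠ 1) (h : tau x r * q = q * tau x r) :
    ∃ i j k, Ok σ 2 i ∧ Ok σ 4 j ∧ Ok σ 6 k ∧ q = x 2 i * x 4 j * x 6 k := by
  rw [Q1_eq] at hq
  obtain ⟨i, hi, y1, hy1, rfl⟩ := split_gl v.hex (by decide) hq
  obtain ⟨b, hb, y2, hy2, rfl⟩ := split_gl v.hex (by decide) hy1
  obtain ⟨j, hj, y3, hy3, rfl⟩ := split_gl v.hex (by decide) hy2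
  obtain ⟨d, hd, y4, hy4, rfl⟩ := split_gl v.hex (by decide) hy3
  obtain ⟨k, hk, y5, hy5, rfl⟩ := split_gl v.hex (by decide) hy4
  rw [gl_nil v.hex hy5, mul_one] at *
  have act := fun (k : ZMod 12) (b : E) (hb : Ok σ k b) => tau_act v.hex v.card v.fix hr k hb
  have ev : ∀ (k : ZMod 12) (b : E), k.val % 2 = 0 → Ok σ k b → tau x r * x k b * (tau x r)⁻¹ = x k b := fun k b hk hb => by
    rw [tau_even v.hex v.card v.fix hr hk hb, mul_inv_cancel_right]
  have e : tau x r * (x 2 i * (x 3 b * (x 4 j * (x 5 d * x 6 k)))) * (tau x r)⁻¹ =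
      x 2 i * (x 3 (r⁻¹ * b) * (x 4 j * (x 5 (r * d) * x 6 k))) := by
    have e1 : tau x r * (x 2 i * (x 3 b * (x 4 j * (x 5 d * x 6 k)))) * (tau x r)⁻¹ =
      (tau x r * x 2 i * (tau x r)⁻¹) * ((tau x r * x 3 b * (tau x r)⁻¹) * ((tau x r * x 4 j * (tau x r)⁻¹) *
        ((tau x r * x 5 d * (tau x r)⁻¹) * (tau x r * x 6 k * (tau x r)⁻¹)))) := by group
    rw [e1, ev 2 i (by decide) hi, ev 4 j (by decide) hj, ev 6 k (by decide) hk, act 3 b hb, act 5 d hd]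
    have w3 : wt (3 : ZMod 12) r = r⁻¹ := by
      unfold wt; rw [if_neg (by decide), if_neg (by decide)]
    have w5 : wt (5 : ZMod 12) r = r := by
      unfold wt; rw [if_neg (by decide), if_pos (by decide)]
    rw [w3, w5]
  rw [h, mul_inv_cancel_right] at e
  have e2 := mul_left_cancel e
  have o3 := fun b : E => ok_odd (σ := σ) (k := 3) (by decide) b
  have o5 := fun b : E => ok_odd (σ := σ) (k := 5) (by decide) b
  have m6 : ∀ L : List (ZMod 12), 6 ∈ L → x 6 k ∈ gl σ x L := fun L hL => mem_gl hL hk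
  have u1 := uniq_gl v (L := [4, 5, 6]) (by decide) (o3 _) (o3 _)
    (mul_mem (mem_gl (by decide) hj) (mul_mem (mem_gl (by decide) (o5 d)) (m6 _ (by decide))))
    (mul_mem (mem_gl (by decide) hj) (mul_mem (mem_gl (by decide) (o5 (r * d))) (m6 _ (by decide)))) e2
  have e3 := mul_left_cancel u1.2
  have u2 := uniq_gl v (L := [6]) (by decide) (o5 _) (o5 _) (m6 _ (by decide)) (m6 _ (by decide)) e3
  have hb0 : b = 0 := by
    by_contra hne
    have h1 := u1.1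
    have : r⁻¹ = 1 := by
      have h2 : r⁻¹ * b = 1 * b := by rw [one_mul]; exact h1.symm
      exact mul_right_cancel₀ hne h2
    exact hr1 (inv_eq_one.1 this)
  have hd0 : d = 0 := by
    by_contra hne
    have h1 := u2.1
    have h2 : r * d = 1 * d := by rw [one_mul]; exact h1.symm
    exact hr1 (mul_right_cancel₀ hne h2)
  refine ⟨i, j, k, hi, hj, hk, ?_⟩
  rw [hb0, hd0, v.hex.x_zero, v.hex.x_zero]
  group

include v s

/-- `Nu n q`: `⁅n, t⁆ ≡ q` modulo `Ẑ` -/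
def Nu (x : ZMod 12 → E → G) (t a n q : G) : Prop := n * t * n⁻¹ * t⁻¹ * q⁻¹ ∈ Zh x a

theorem N1_conjQ {n : G} (hn : n ∈ N1 σ x t a) {q : G} (hq : q ∈ Q1 σ x) : ∃ c ∈ Zh x a, n * q * n⁻¹ = c * q :=
  ⟨_, hn.2.1 q hq, by group⟩

theorem nu_iff {n q : G} : Nu x t a n q ↔ ∃ c ∈ Zh x a, n * t * n⁻¹ = c * q * t := by
  unfold Nu
  constructor
  · intro h
    exact ⟨_, h, by group⟩
  · rintro ⟨c, hc, e⟩
    rw [e]
    have : c * q * t * t⁻¹ * q⁻¹ = c := by group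
    rwa [this]

theorem nu_exists {n : G} (hn : n ∈ N1 σ x t a) : ∃ q ∈ Q1 σ x, Nu x t a n q := by
  obtain ⟨q, hq, c, hc, e⟩ := mem_QZ v s hn.2.2.2.1
  refine ⟨q, hq, (nu_iff v s).2 ⟨c, hc, ?_⟩⟩
  have : n * t * n⁻¹ = (n * t * n⁻¹ * t⁻¹) * t := by group
  rw [this, e, P1_Zh v s (Q1_le_P1 v hq) hc]

theorem nu_mul {n m q r : G} (hn : n ∈ N1 σ x t a) (hm : m ∈ N1 σ x t a) (hq : q ∈ Q1 σ x) (hr : r ∈ Q1 σ x)
    (h1 : Nu x t a n q) (h2 : Nu x t a m r) : Nu x t a (n * m) (q * r) := by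
  obtain ⟨c, hc, e1⟩ := (nu_iff v s).1 h1
  obtain ⟨d, hd, e2⟩ := (nu_iff v s).1 h2
  obtain ⟨f, hf, e3⟩ := N1_conjQ v s hn hr
  have hqr := Zs_le_Zh v s (Q1_comm v hr hq)
  set g := ⁅r, q⁆ with hg
  have e4 : r * q = g * (q * r) := by rw [hg, commutatorElement_def]; group
  have nd : n * d = d * n := hn.1 d hd
  have rc : r * c = c * r := P1_Zh v s (Q1_le_P1 v hr) hc
  refine (nu_iff v s).2 ⟨d * f * c * g, mul_mem (mul_mem (mul_mem hd hf) hc) hqr, ?_⟩
  calc n * m * t * (n * m)⁻¹ = n * (m * t * m⁻¹) * n⁻¹ := by group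
    _ = (n * d) * r * t * n⁻¹ := by rw [e2]; group
    _ = d * (n * r * n⁻¹) * (n * t * n⁻¹) := by rw [nd]; group
    _ = d * f * (r * c) * q * t := by rw [e3, e1]; group
    _ = d * f * c * (r * q) * t := by rw [rc]; group
    _ = d * f * c * g * (q * r) * t := by rw [e4]; group

theorem nu_inv {n q : G} (hn : n ∈ N1 σ x t a) (hq : q ∈ Q1 σ x) (h1 : Nu x t a n q) : Nu x t a n⁻¹ q⁻¹ := by
  obtain ⟨c, hc, e1⟩ := (nu_iff v s).1 h1
  obtain ⟨f, hf, e3⟩ := N1_conjQ v s (inv_mem hn) hq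
  have nc : n⁻¹ * c = c * n⁻¹ := inv_comm_of (hn.1 c hc)
  have hcf : ∀ y ∈ Q1 σ x, ∀ z ∈ Zh x a, y * z = z * y := fun y hy z hz => P1_Zh v s (Q1_le_P1 v hy) hz
  refine (nu_iff v s).2 ⟨(c * f)⁻¹, inv_mem (mul_mem hc hf), ?_⟩
  rw [inv_inv] at e3 ⊢
  have e4 : t = (n⁻¹ * (c * q) * n) * (n⁻¹ * t * n) := by
    calc t = n⁻¹ * (n * t * n⁻¹) * n := by group
      _ = n⁻¹ * (c * q * t) * n := by rw [e1]
      _ = _ := by group
  have e5 : n⁻¹ * (c * q) * n = c * f * q := by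
    calc n⁻¹ * (c * q) * n = (n⁻¹ * c) * q * n := by group
      _ = c * (n⁻¹ * q * n) := by rw [nc]; group
      _ = _ := by rw [e3]; group
  rw [e5] at e4
  calc n⁻¹ * t * n = (c * f * q)⁻¹ * (c * f * q * (n⁻¹ * t * n)) := by group
    _ = (c * f * q)⁻¹ * t := by rw [← e4]
    _ = (q⁻¹ * (c * f)⁻¹) * t := by group
    _ = _ := by rw [hcf _ (inv_mem hq) _ (inv_mem (mul_mem hc hf))]

theorem nu_one : Nu x t a 1 1 := by unfold Nu; simp [one_mem]

theorem nu_Q {n : G} (hn : n ∈ N1 σ x t a) {q : G} (h : Nu x t a n q) (hq : q ∈ Zh x a) : n ∈ Q1 σ x ⊔ Zh x a := by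
  refine N1_ker v s hn ?_
  rw [commutatorElement_def]
  have e : n * t * n⁻¹ * t⁻¹ = (n * t * n⁻¹ * t⁻¹ * q⁻¹) * q := by group
  rw [e]; exact mul_mem h hq

theorem nu_conj {p n q : G} (hp : p ∈ P1 σ x) (h : Nu x t a n q) : Nu x t a (p * n * p⁻¹) (p * q * p⁻¹) := by
  obtain ⟨c, hc, e1⟩ := (nu_iff v s).1 h
  have hpt : t * p = p * t := t_gens v (S := {1, 2, 3, 4, 5, 6, 7}) hp
  have hpt' : p⁻¹ * t = t * p⁻¹ := inv_comm_of hpt.symm
  refine (nu_iff v s).2 ⟨c, hc, ?_⟩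
  calc p * n * p⁻¹ * t * (p * n * p⁻¹)⁻¹ = p * n * (p⁻¹ * t) * p * n⁻¹ * p⁻¹ := by group
    _ = p * (n * t * n⁻¹) * p⁻¹ := by rw [hpt']; group
    _ = (p * c) * q * t * p⁻¹ := by rw [e1]; group
    _ = c * (p * q * (t * p⁻¹)) := by rw [P1_Zh v s hp hc]; group
    _ = _ := by rw [← hpt']; group

/-- `[N₁, N₁] ≤ Q₁ Ẑ` -/
theorem N1_comm_QZ {n m : G} (hn : n ∈ N1 σ x t a) (hm : m ∈ N1 σ x t a) : ⁅n, m⁆ ∈ Q1 σ x ⊔ Zh x a := by
  obtain ⟨q, hq, h1⟩ := nu_exists v s hn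
  obtain ⟨r, hr, h2⟩ := nu_exists v s hm
  have h3 := nu_mul v s hn hm hq hr h1 h2
  have h4 := nu_mul v s (inv_mem hn) (inv_mem hm) (inv_mem hq) (inv_mem hr) (nu_inv v s hn hq h1) (nu_inv v s hm hr h2)
  have h5 := nu_mul v s (mul_mem hn hm) (mul_mem (inv_mem hn) (inv_mem hm)) (mul_mem hq hr)
    (mul_mem (inv_mem hq) (inv_mem hr)) h3 h4
  have e1 : n * m * (n⁻¹ * m⁻¹) = ⁅n, m⁆ := by rw [commutatorElement_def]; group
  have e2 : q * r * (q⁻¹ * r⁻¹) = ⁅q, r⁆ := by rw [commutatorElement_def]; group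
  rw [e1, e2] at h5
  refine nu_Q v s ?_ h5 (Zs_le_Zh v s (Q1_comm v hq hr))
  rw [← e1]
  exact mul_mem (mul_mem hn hm) (mul_mem (inv_mem hn) (inv_mem hm))

/-- `[a₂, a₆] ∈ Ẑ` -/
theorem comm_a2_a6 : ⁅a2 x a, a6 x a⁆ ∈ Zh x a := by
  obtain ⟨η, h0, h1, -, -, -⟩ := exists_eta v.hex.two v.card v.fix v.hex.cube
  have hu := N1_comm_QZ v s (a2_N1 v s) (a6_N1 v s)
  set u := ⁅a2 x a, a6 x a⁆ with hud
  have h22 := a2_a2 v s
  have h66 := a6_a6 v s
  have i2 := a2inv v s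
  have i6 := a6inv v s
  have hu1 : u = a2 x a * a6 x a * a2 x a * a6 x a := by
    rw [hud, commutatorElement_def, i2, i6]
  obtain ⟨q, hq, c, hc, e⟩ := mem_QZ v s hu
  have hqc : q * c = c * q := P1_Zh v s (Q1_le_P1 v hq) hc
  have hcc := Zh_sq v s hc
  -- `u` commutes with the torus
  have hut : tau x η * u = u * tau x η := by
    have e2 := a2_tau v s h0
    have e6 := a6_tau v s h0
    rw [hu1]
    exact (mul_comm_of (mul_comm_of (mul_comm_of e2 e6) e2) e6).symm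
  have hqt : tau x η * q = q * tau x η := by
    have hct : c * tau x η = tau x η * c := (P1_Zh v s (tau_P1 v η) hc).symm
    have e1 : q = u * c⁻¹ := by rw [e]; group
    rw [e1]
    exact (mul_comm_of hut.symm (inv_comm_of hct)).symm
  obtain ⟨i, j, k, hi, hj, hk, hqe⟩ := Q1_fix v hq h0 h1 hqt
  -- `u² ∈ Z`
  have huu : u * u ∈ Zs σ x := by
    have : u * u = q * q := by
      calc u * u = (q * c) * (q * c) := by rw [e]
        _ = (c * q) * (q * c) := by rw [hqc]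
        _ = (c * q) * (c * q) := by rw [← hqc]
        _ = (q * c) * (c * q) := by rw [hqc]
        _ = q * (c * c) * q := by group
        _ = q * q := by rw [hcc, mul_one]
    rw [this]
    exact Q1_sq v hq
  have haZ : a ∉ Zs σ x := by
    intro h
    refine a_not_comm v s ?_
    exact (t_gens v h).symm
  have inv2 : a2 x a * u * a2 x a = u⁻¹ := by
    rw [eq_comm, inv_eq_iff_mul_eq_one, hu1]
    calc a2 x a * a6 x a * a2 x a * a6 x a * (a2 x a * (a2 x a * a6 x a * a2 x a * a6 x a) * a2 x a)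
        = a2 x a * a6 x a * a2 x a * a6 x a * ((a2 x a * a2 x a) * a6 x a * a2 x a * a6 x a * a2 x a) := by group
      _ = a2 x a * a6 x a * a2 x a * (a6 x a * a6 x a) * a2 x a * a6 x a * a2 x a := by rw [h22]; group
      _ = a2 x a * a6 x a * (a2 x a * a2 x a) * a6 x a * a2 x a := by rw [h66]; group
      _ = a2 x a * (a6 x a * a6 x a) * a2 x a := by rw [h22]; group
      _ = 1 := by rw [h66, mul_one, h22]
  have inv6 : a6 x a * u * a6 x a = u⁻¹ := by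
    rw [eq_comm, inv_eq_iff_mul_eq_one, hu1]
    calc a2 x a * a6 x a * a2 x a * a6 x a * (a6 x a * (a2 x a * a6 x a * a2 x a * a6 x a) * a6 x a)
        = a2 x a * a6 x a * a2 x a * (a6 x a * a6 x a) * (a2 x a * a6 x a * a2 x a * (a6 x a * a6 x a)) := by group
      _ = a2 x a * a6 x a * (a2 x a * a2 x a) * a6 x a * a2 x a := by rw [h66]; group
      _ = a2 x a * (a6 x a * a6 x a) * a2 x a := by rw [h22]; group
      _ = 1 := by rw [h66, mul_one, h22]
  have a2Z : ∀ y ∈ Zh x a, a2 x a * y = y * a2 x a := fun y hy => (a2_N1 v s).1 y hy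
  have a6Z : ∀ y ∈ Zh x a, a6 x a * y = y * a6 x a := fun y hy => (a6_N1 v s).1 y hy
  -- no `z₆`
  have hk0 : x 6 k = 1 := by
    rcases even_val v (by decide) hk with h | h
    · exact h
    · exfalso
      have c2 : a2 x a * x 2 i = x 2 i * a2 x a := a2_x v s (by decide) hi
      have c4 : a2 x a * x 4 j = x 4 j * a2 x a := a2_x v s (by decide) hj
      have c6 : a2 x a * x 6 1 = a * x 6 1 * a2 x a := by
        have := a2_x6 v s
        rw [← mul_inv_eq_iff_eq_mul, ← mul_inv_eq_iff_eq_mul]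
        exact this
      have aq := s.aP
      have m2 : x 2 i * x 4 j ∈ P1 σ x := by
        rw [P1_eq]; exact mul_mem (mem_gl (by decide) hi) (mem_gl (by decide) hj)
      have e1 : a2 x a * u * a2 x a = a * u := by
        rw [e, hqe, h]
        calc a2 x a * (x 2 i * x 4 j * x 6 1 * c) * a2 x a
            = (a2 x a * x 2 i) * x 4 j * x 6 1 * c * a2 x a := by group
          _ = x 2 i * (a2 x a * x 4 j) * x 6 1 * c * a2 x a := by rw [c2]; group
          _ = x 2 i * x 4 j * (a2 x a * x 6 1) * c * a2 x a := by rw [c4]; group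
          _ = ((x 2 i * x 4 j) * a) * x 6 1 * (a2 x a * c) * a2 x a := by rw [c6]; group
          _ = a * (x 2 i * x 4 j) * x 6 1 * c * (a2 x a * a2 x a) := by rw [← s.aP _ m2, a2Z c hc]; group
          _ = _ := by rw [h22]; group
      rw [inv2] at e1
      -- `u² = a`
      have e2 : a = (u * u)⁻¹ := by
        have : a = a * u * u⁻¹ := by group
        rw [this, ← e1]; group
      exact haZ (by rw [e2]; exact inv_mem huu)
  -- no `z₂`
  have hi0 : x 2 i = 1 := by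
    rcases even_val v (by decide) hi with h | h
    · exact h
    · exfalso
      have c4 : a6 x a * x 4 j = x 4 j * a6 x a := a6_x v s (by decide) hj
      have c2 : a6 x a * x 2 1 = a * x 2 1 * a6 x a := by
        have := a6_x2 v s
        rw [← mul_inv_eq_iff_eq_mul, ← mul_inv_eq_iff_eq_mul]
        exact this
      have e1 : a6 x a * u * a6 x a = a * u := by
        rw [e, hqe, h, hk0]
        calc a6 x a * (x 2 1 * x 4 j * 1 * c) * a6 x a
            = (a6 x a * x 2 1) * x 4 j * c * a6 x a := by group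
          _ = a * x 2 1 * (a6 x a * x 4 j) * c * a6 x a := by rw [c2]; group
          _ = a * x 2 1 * x 4 j * (a6 x a * c) * a6 x a := by rw [c4]; group
          _ = a * x 2 1 * x 4 j * c * (a6 x a * a6 x a) := by rw [a6Z c hc]; group
          _ = _ := by rw [h66]; group
      rw [inv6] at e1
      have e2 : a = (u * u)⁻¹ := by
        have : a = a * u * u⁻¹ := by group
        rw [this, ← e1]; group
      exact haZ (by rw [e2]; exact inv_mem huu)
  rw [e, hqe, hk0, hi0, one_mul, mul_one]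
  refine mul_mem ?_ hc
  refine Zs_le_Zh v s ?_
  rw [Zs_eq]
  exact mem_gl (by simp) hj

end Three

end Cfsg.Agent.TriTwo
end

-- part: TriTwo/SecThreeD
section
set_option linter.all false
open scoped Cfsg.Agent.FastGrp

/-!
# S1778, type `³D₄(2)`: section 3, the complement `E`, end
-/

set_option autoImplicit false
set_option linter.unusedSectionVars false

namespace Cfsg.Agent.TriTwo

open Cfsg.Agent.StdRank2.Hex Cfsg.Agent.SplitTwo
open scoped commutatorElement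

section Four

variable {E : Type*} [Field E] {σ : E ≃+* E} {G : Type*} [Group G] {x : ZMod 12 → E → G} {t a : G} (v : Env σ x t)
  (s : Seed σ x t a)

/-- the conjugates by `x₁(b)` -/
def sh (x : ZMod 12 → E → G) (y : G) (b : E) : G := x 1 b * y * x 1 b

include v

theorem x1P (b : E) : x 1 b ∈ P1 σ x := by
  rw [P1_eq]; exact mem_gl (by decide) (ok_odd (by decide) _)

theorem x1i (b : E) : (x 1 b)⁻¹ = x 1 b := xinv v (ok_odd (by decide) b)

theorem x1x1 (b : E) : x 1 b * x 1 b = 1 := xx v (ok_odd (by decide) b)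

theorem sh_eq (y : G) (b : E) : sh x y b = x 1 b * y * (x 1 b)⁻¹ := by rw [sh, x1i v]

theorem sh_zero (y : G) : sh x y 0 = y := by
  unfold sh; rw [v.hex.x_zero, one_mul, mul_one]

theorem sh_sh (y : G) (b c : E) : x 1 b * sh x y c * x 1 b = sh x y (b + c) := by
  unfold sh
  have h1 := v.hex.add 1 b c (ok_odd (by decide) b) (ok_odd (by decide) c)
  have h2 := v.hex.add 1 c b (ok_odd (by decide) c) (ok_odd (by decide) b)
  rw [add_comm c b] at h2
  calc x 1 b * (x 1 c * y * x 1 c) * x 1 b = (x 1 b * x 1 c) * y * (x 1 c * x 1 b) := by group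
    _ = _ := by rw [← h1, ← h2]

theorem hh_comm {y : G} (hy : ∀ r, r ≠ 0 → y * tau x r = tau x r * y) {u : E} (hu : u ≠ 0) :
    y * hh x 1 u = hh x 1 u * y := by
  have h := hy (u ^ 2) (pow_ne_zero _ hu)
  unfold tau at h
  rwa [← pow_mul, pow_eight v.card] at h

/-- `n₁` maps `y^{x₁(d)}` to `y^{x₁(d⁻¹)}` -/
theorem sh_nn1 {y y' : G} (h1 : nn x 1 * y * (nn x 1)⁻¹ = y') (h2 : nn x 1 * y' * (nn x 1)⁻¹ = y)
    (hy' : ∀ b, y' * x 1 b = x 1 b * y') (hy : ∀ r, r ≠ 0 → y * tau x r = tau x r * y) {d : E} (hd : d ≠ 0) :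
    nn x 1 * sh x y d * (nn x 1)⁻¹ = sh x y d⁻¹ := by
  have hd' := inv_ne_zero hd
  have e7 : nn x 1 * x 1 d * (nn x 1)⁻¹ = x 7 d := by
    rw [v.hex.refl 1 1 (ok_odd (by decide) d)]; congr 1
  have o1 : x 1 d⁻¹ * x 1 d⁻¹ = 1 := x1x1 v _
  have ent : nt x 1 d⁻¹ = x 1 d⁻¹ * x 7 d * x 1 d⁻¹ := by
    unfold nt
    rw [inv_inv, show (1 : ZMod 12) + 6 = 7 from rfl]
  have e7' : x 7 d = x 1 d⁻¹ * nt x 1 d⁻¹ * x 1 d⁻¹ := by
    rw [ent]
    calc x 7 d = (x 1 d⁻¹ * x 1 d⁻¹) * x 7 d * (x 1 d⁻¹ * x 1 d⁻¹) := by rw [o1]; group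
      _ = _ := by group
  have enn : nt x 1 d⁻¹ * y' * nt x 1 d⁻¹ = y := by
    have i1 := v.hex.nt_inv (k := 1) (t := d⁻¹) (ok_odd (by decide) _)
    calc nt x 1 d⁻¹ * y' * nt x 1 d⁻¹ = nt x 1 d⁻¹ * y' * (nt x 1 d⁻¹)⁻¹ := by rw [i1]
      _ = hh x 1 d⁻¹ * (nn x 1 * y' * (nn x 1)⁻¹) * (hh x 1 d⁻¹)⁻¹ := by rw [← v.hex.hh_mul_nn 1 d⁻¹]; group
      _ = y := by rw [h2, ← hh_comm v hy hd', mul_inv_cancel_right]
  calc nn x 1 * sh x y d * (nn x 1)⁻¹
      = (nn x 1 * x 1 d * (nn x 1)⁻¹) * (nn x 1 * y * (nn x 1)⁻¹) * (nn x 1 * x 1 d * (nn x 1)⁻¹) := by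
        unfold sh; group
    _ = x 7 d * y' * x 7 d := by rw [e7, h1]
    _ = x 1 d⁻¹ * nt x 1 d⁻¹ * (x 1 d⁻¹ * y') * x 1 d⁻¹ * nt x 1 d⁻¹ * x 1 d⁻¹ := by rw [e7']; group
    _ = x 1 d⁻¹ * nt x 1 d⁻¹ * y' * (x 1 d⁻¹ * x 1 d⁻¹) * nt x 1 d⁻¹ * x 1 d⁻¹ := by rw [← hy']; group
    _ = x 1 d⁻¹ * (nt x 1 d⁻¹ * y' * nt x 1 d⁻¹) * x 1 d⁻¹ := by rw [o1]; group
    _ = _ := by rw [enn]; rfl

theorem x6_nn1 : nn x 1 * x 6 1 * (nn x 1)⁻¹ = x 2 1 := by rw [v.hex.refl 1 6 (ok_one σ 6)]; congr 1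
theorem x2_nn1 : nn x 1 * x 2 1 * (nn x 1)⁻¹ = x 6 1 := by rw [v.hex.refl 1 2 (ok_one σ 2)]; congr 1

theorem w_nn1 {d : E} (hd : d ≠ 0) : nn x 1 * sh x (x 6 1) d * (nn x 1)⁻¹ = sh x (x 6 1) d⁻¹ :=
  sh_nn1 v (x6_nn1 v) (x2_nn1 v) (fun b => cm v.hex (by decide) (ok_one σ 2) (ok_odd (by decide) b))
    (fun r hr => (tau_even v.hex v.card v.fix hr (by decide) (ok_one σ 6)).symm) hd

omit v in
theorem sh_comm {y z : G} (b : E) : ⁅x 1 b * y * (x 1 b)⁻¹, x 1 b * z * (x 1 b)⁻¹⁆ = x 1 b * ⁅y, z⁆ * (x 1 b)⁻¹ :=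
  HexTwo.conj_comm _ _ _

include s

theorem a6_nn1 : nn x 1 * a6 x a * (nn x 1)⁻¹ = a2 x a := by
  unfold a6
  rw [v.hex.nn_inv]
  have := v.hex.nn_sq 1
  calc nn x 1 * (nn x 1 * a2 x a * nn x 1) * nn x 1 = (nn x 1 * nn x 1) * a2 x a * (nn x 1 * nn x 1) := by group
    _ = _ := by rw [this]; group

theorem A_nn1 {d : E} (hd : d ≠ 0) : nn x 1 * sh x (a6 x a) d * (nn x 1)⁻¹ = sh x (a6 x a) d⁻¹ :=
  sh_nn1 v (a6_nn1 v s) rfl (fun b => a2_x v s (by decide) (ok_odd (by decide) b)) (fun r hr => a6_tau v s hr) hd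

theorem a2_x1 (b : E) : x 1 b * a2 x a * (x 1 b)⁻¹ = a2 x a := by
  rw [← a2_x v s (by decide) (ok_odd (by decide) b), mul_inv_cancel_right]

theorem fixZ {p c : G} (hp : p ∈ P1 σ x) (hc : c ∈ Zh x a) : p * c * p⁻¹ = c := by
  rw [P1_Zh v s hp hc, mul_inv_cancel_right]

theorem fixZ' {p c : G} (hp : p ∈ P1 σ x) (hc : p * c * p⁻¹ ∈ Zh x a) : c ∈ Zh x a := by
  have h := fixZ v s (inv_mem hp) hc
  have e : p⁻¹ * (p * c * p⁻¹) * p⁻¹⁻¹ = c := by group
  rw [e] at h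
  rw [h]; exact hc

theorem A_mem (b : E) : sh x (a6 x a) b ∈ N1 σ x t a := by
  rw [sh_eq v]
  exact P_N1 v s (x1P v b) (a6_N1 v s)

theorem A_mem_Ec (b : E) : sh x (a6 x a) b ∈ Ec x a :=
  (le_sup_right : _ ≤ Ec x a) (Subgroup.subset_closure ⟨b, rfl⟩)

theorem Zh_le_Ec : Zh x a ≤ Ec x a := le_sup_left

theorem Ec_le : Ec x a ≤ N1 σ x t a := by
  unfold Ec
  refine sup_le (Z_le v s) ?_
  rw [Subgroup.closure_le]
  rintro _ ⟨b, rfl⟩
  exact A_mem v s b

theorem A_sq (b : E) : sh x (a6 x a) b * sh x (a6 x a) b = 1 := by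
  rw [sh_eq v]
  calc x 1 b * a6 x a * (x 1 b)⁻¹ * (x 1 b * a6 x a * (x 1 b)⁻¹) = x 1 b * (a6 x a * a6 x a) * (x 1 b)⁻¹ := by group
    _ = 1 := by rw [a6_a6 v s]; group

theorem A_inv (b : E) : (sh x (a6 x a) b)⁻¹ = sh x (a6 x a) b := inv_eq_of_mul_eq_one_left (A_sq v s b)

/-- `⁅a₂, A(b)⁆ ∈ Ẑ` -/
theorem comm_a2_A (b : E) : ⁅a2 x a, sh x (a6 x a) b⁆ ∈ Zh x a := by
  have h := comm_a2_a6 v s
  rw [sh_eq v, ← a2_x1 v s b, sh_comm, fixZ v s (x1P v b) h]
  exact h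

theorem comm_a6_A (b : E) : ⁅a6 x a, sh x (a6 x a) b⁆ ∈ Zh x a := by
  by_cases hb : b = 0
  · rw [hb, sh_zero v, commutatorElement_self]; exact one_mem _
  · refine fixZ' v s (nn_P1 v) ?_
    rw [← HexTwo.conj_comm, a6_nn1 v s, A_nn1 v s hb]
    exact comm_a2_A v s _

theorem comm_A_A (b c : E) : ⁅sh x (a6 x a) b, sh x (a6 x a) c⁆ ∈ Zh x a := by
  refine fixZ' v s (x1P v b) ?_
  rw [← HexTwo.conj_comm]
  have e1 : x 1 b * sh x (a6 x a) b * (x 1 b)⁻¹ = a6 x a := by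
    rw [x1i v, sh_sh v, addSelf v.hex.two, sh_zero v]
  have e2 : x 1 b * sh x (a6 x a) c * (x 1 b)⁻¹ = sh x (a6 x a) (b + c) := by
    rw [x1i v, sh_sh v]
  rw [e1, e2]
  exact comm_a6_A v s _

/-! ### The pairing -/

theorem A_x2 (b : E) : ⁅sh x (a6 x a) b, x 2 1⁆ = a := by
  have e : x 2 1 = x 1 b * x 2 1 * (x 1 b)⁻¹ := by
    rw [cm v.hex (k := 1) (l := 2) (by decide) (ok_odd (by decide) b) (ok_one σ 2), mul_inv_cancel_right]
  rw [sh_eq v]
  conv_lhs => rw [e]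
  rw [sh_comm, commutatorElement_def, a6_x2 v s]
  exact fixZ v s (x1P v b) (a_mem_Zh v s)

theorem A_w_self (b : E) : ⁅sh x (a6 x a) b, sh x (x 6 1) b⁆ = 1 := by
  rw [sh_eq v, sh_eq v, sh_comm, commutatorElement_def, a6_x v s (by decide) (ok_one σ 6)]
  group

theorem a2_w (d : E) : ⁅a2 x a, sh x (x 6 1) d⁆ = a := by
  rw [sh_eq v, ← a2_x1 v s d, sh_comm, commutatorElement_def, a2_x6 v s]
  exact fixZ v s (x1P v d) (a_mem_Zh v s)

theorem a6_w {d : E} (hd : d ≠ 0) : ⁅a6 x a, sh x (x 6 1) d⁆ = a := by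
  have h : nn x 1 * ⁅a6 x a, sh x (x 6 1) d⁆ * (nn x 1)⁻¹ = a := by
    rw [← HexTwo.conj_comm, a6_nn1 v s, w_nn1 v hd, a2_w v s]
  have h2 := fixZ v s (inv_mem (nn_P1 v)) (a_mem_Zh v s)
  calc ⁅a6 x a, sh x (x 6 1) d⁆ = (nn x 1)⁻¹ * (nn x 1 * ⁅a6 x a, sh x (x 6 1) d⁆ * (nn x 1)⁻¹) * (nn x 1)⁻¹⁻¹ := by
        group
    _ = a := by rw [h, h2]

theorem A_w_ne {b c : E} (hbc : b ≠ c) : ⁅sh x (a6 x a) b, sh x (x 6 1) c⁆ = a := by
  have hd : b + c ≠ 0 := fun e => hbc (by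
    have := eq_neg_of_add_eq_zero_left e
    rwa [negEq v.hex.two] at this)
  have h : x 1 b * ⁅sh x (a6 x a) b, sh x (x 6 1) c⁆ * (x 1 b)⁻¹ = a := by
    rw [← HexTwo.conj_comm]
    have e1 : x 1 b * sh x (a6 x a) b * (x 1 b)⁻¹ = a6 x a := by
      rw [x1i v, sh_sh v, addSelf v.hex.two, sh_zero v]
    have e2 : x 1 b * sh x (x 6 1) c * (x 1 b)⁻¹ = sh x (x 6 1) (b + c) := by
      rw [x1i v, sh_sh v]
    rw [e1, e2, a6_w v s hd]
  have h2 := fixZ v s (inv_mem (x1P v b)) (a_mem_Zh v s)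
  calc ⁅sh x (a6 x a) b, sh x (x 6 1) c⁆ = (x 1 b)⁻¹ * (x 1 b * ⁅sh x (a6 x a) b, sh x (x 6 1) c⁆ * (x 1 b)⁻¹) *
        (x 1 b)⁻¹⁻¹ := by group
    _ = a := by rw [h, h2]

end Four

end Cfsg.Agent.TriTwo

private theorem dce_d32b7a83cf84 : _root_.True := by
  try have : _root_.True := by simp only [_root_.Cfsg.Agent.TriTwo.sh.eq_1]
  exact _root_.True.intro
end

-- part: TriTwo/SecThreeE
section
prune_inst 0x1000410054000000001800000000200020000000000000002041040008080000a04500010010040140000cd068000000001000000228000000200800000000000021000010100c00300006000000000000000000000000000000000000000000000000000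
set_option linter.all false
open scoped Cfsg.Agent.FastGrp

/-!
# S1778, type `³D₄(2)`: section 3, assembly of `QOne`
-/

set_option autoImplicit false
set_option linter.unusedSectionVars false

namespace Cfsg.Agent.TriTwo

open Cfsg.Agent.StdRank2.Hex Cfsg.Agent.SplitTwo
open scoped commutatorElement

section Five

variable {E : Type*} [Field E] {σ : E ≃+* E} {G : Type*} [Group G] {x : ZMod 12 → E → G} {t a : G} (v : Env σ x t)
  (s : Seed σ x t a)

include v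

/-- `w(b) = x₂(1) x₃(b⁻¹) x₄(1) x₅(b) x₆(1)` -/
theorem w_eq {b : E} (hb : b ≠ 0) : sh x (x 6 1) b = x 2 1 * x 3 b⁻¹ * x 4 1 * x 5 b * x 6 1 := by
  have h := v.hex.commS5 (k := 1) (by decide) b (t := 1) (map_one σ)
  rw [nrm_one' v.fix v.hex.cube hb, shp_eq v.fix v.hex.cube b, one_mul, one_mul, one_pow, one_mul, one_mul,
    show (1 : ZMod 12) + 5 = 6 from rfl, show (1 : ZMod 12) + 1 = 2 from rfl, show (1 : ZMod 12) + 2 = 3 from rfl,
    show (1 : ZMod 12) + 3 = 4 from rfl, show (1 : ZMod 12) + 4 = 5 from rfl] at h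
  rw [sh_eq v, ← h, commutatorElement_def]
  group

include s

theorem nu_A (b : E) : Nu x t a (sh x (a6 x a) b) (sh x (x 6 1) b) := by
  rw [sh_eq v, sh_eq v]
  refine nu_conj v s (x1P v b) ((nu_iff v s).2 ⟨1, one_mem _, ?_⟩)
  rw [a6_t v s, one_mul, v.tx 6 1 (ok_one σ 6)]

/-- `⁅E, t⁆ = Q₁` mod `Ẑ` -/
theorem E_onto {q : G} (hq : q ∈ Q1 σ x) : ∃ e ∈ Ec x a, Nu x t a e q := by
  let K : Subgroup G :=
    { carrier := {q | q ∈ Q1 σ x ∧ ∃ e ∈ Ec x a, Nu x t a e q}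
      mul_mem' := by
        rintro q r ⟨hq, e, he, h1⟩ ⟨hr, f, hf, h2⟩
        exact ⟨mul_mem hq hr, e * f, mul_mem he hf, nu_mul v s (Ec_le v s he) (Ec_le v s hf) hq hr h1 h2⟩
      one_mem' := ⟨one_mem _, 1, one_mem _, nu_one v s⟩
      inv_mem' := by
        rintro q ⟨hq, e, he, h1⟩
        exact ⟨inv_mem hq, e⁻¹, inv_mem he, nu_inv v s (Ec_le v s he) hq h1⟩ }
  have kZ : x 4 1 ∈ K := by
    refine ⟨by rw [Q1_eq]; exact mem_gl (by decide) (ok_one σ 4), 1, one_mem _, ?_⟩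
    unfold Nu
    have e : 1 * t * (1 : G)⁻¹ * t⁻¹ * (x 4 1)⁻¹ = (x 4 1)⁻¹ := by group
    rw [e]; exact inv_mem (z_mem_Zh v s)
  have kw : ∀ b : E, sh x (x 6 1) b ∈ K := fun b =>
    ⟨by
      rw [sh_eq v]
      exact P1_Q1 v (x1P v b) (by rw [Q1_eq]; exact mem_gl (by decide) (ok_one σ 6)),
      _, A_mem_Ec v s b, nu_A v s b⟩
  have k6 : x 6 1 ∈ K := by
    have := kw 0
    rwa [sh_zero v] at this
  have o3 := fun b : E => ok_odd (σ := σ) (k := 3) (by decide) b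
  have o5 := fun b : E => ok_odd (σ := σ) (k := 5) (by decide) b
  -- `M i d e`
  have M1 : ∀ b : E, b ≠ 0 → x 2 1 * (x 3 b⁻¹ * x 5 b) ∈ K := by
    intro b hb
    have h := kw b
    rw [w_eq v hb] at h
    have h1 := mul_mem h (inv_mem k6)
    have h34 : x 3 b⁻¹ * x 4 1 = x 4 1 * x 3 b⁻¹ := cm v.hex (by decide) (o3 _) (ok_one σ 4)
    have h24 : x 2 1 * x 4 1 = x 4 1 * x 2 1 := x2_x4 v
    have e : x 2 1 * x 3 b⁻¹ * x 4 1 * x 5 b * x 6 1 * (x 6 1)⁻¹ = x 4 1 * (x 2 1 * (x 3 b⁻¹ * x 5 b)) := by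
      calc x 2 1 * x 3 b⁻¹ * x 4 1 * x 5 b * x 6 1 * (x 6 1)⁻¹ = x 2 1 * (x 3 b⁻¹ * x 4 1) * x 5 b := by group
        _ = (x 2 1 * x 4 1) * x 3 b⁻¹ * x 5 b := by rw [h34]; group
        _ = _ := by rw [h24]; group
    rw [e] at h1
    exact (Subgroup.mul_mem_cancel_left K kZ).1 h1
  have ktr : ∀ c : E, x 4 (tr σ c) ∈ K := fun c => by
    rcases even_val v (by decide) (ok_tr v 4 c) with h | h
    · rw [h]; exact one_mem _
    · rw [h]; exact kZ
  -- addition of pairs in `x₃ x₅`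
  have padd : ∀ d e d' e' : E, ∃ z ∈ K, (x 3 d * x 5 e) * (x 3 d' * x 5 e') = z * (x 3 (d + d') * x 5 (e + e')) := by
    intro d e d' e'
    refine ⟨x 4 (tr σ (e * d')), ktr _, ?_⟩
    have h1 := v.hex.add 3 d d' (o3 _) (o3 _)
    have h2 := v.hex.add 5 e e' (o5 _) (o5 _)
    have h3 : x 5 e * x 3 d' = x 4 (tr σ (e * d')) * x 3 d' * x 5 e := by
      have := c53 v e d'
      rw [commutatorElement_def] at this
      rw [← this]; group
    have h4 : x 3 d * x 4 (tr σ (e * d')) = x 4 (tr σ (e * d')) * x 3 d := cm v.hex (by decide) (o3 _) (ok_tr v 4 _)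
    rw [h1, h2]
    calc x 3 d * x 5 e * (x 3 d' * x 5 e') = x 3 d * (x 5 e * x 3 d') * x 5 e' := by group
      _ = (x 3 d * x 4 (tr σ (e * d'))) * x 3 d' * x 5 e * x 5 e' := by rw [h3]; group
      _ = _ := by rw [h4]; group
  have x22 : x 2 1 * x 2 1 = 1 := xx v (ok_one σ 2)
  have c2 : ∀ d e : E, (x 3 d * x 5 e) * x 2 1 = x 2 1 * (x 3 d * x 5 e) := fun d e =>
    mul_comm_of (cm v.hex (by decide) (o3 _) (ok_one σ 2)) (cm v.hex (by decide) (o5 _) (ok_one σ 2))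
  have M11 : ∀ d e d' e' : E, x 2 1 * (x 3 d * x 5 e) ∈ K → x 2 1 * (x 3 d' * x 5 e') ∈ K →
      x 3 (d + d') * x 5 (e + e') ∈ K := by
    intro d e d' e' h h'
    obtain ⟨z, hz, hp⟩ := padd d e d' e'
    have h1 := mul_mem h h'
    have e1 : x 2 1 * (x 3 d * x 5 e) * (x 2 1 * (x 3 d' * x 5 e')) = z * (x 3 (d + d') * x 5 (e + e')) := by
      calc x 2 1 * (x 3 d * x 5 e) * (x 2 1 * (x 3 d' * x 5 e'))
          = x 2 1 * ((x 3 d * x 5 e) * x 2 1) * (x 3 d' * x 5 e') := by group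
        _ = (x 2 1 * x 2 1) * ((x 3 d * x 5 e) * (x 3 d' * x 5 e')) := by rw [c2]; group
        _ = _ := by rw [x22, one_mul, hp]
    rw [e1] at h1
    exact (Subgroup.mul_mem_cancel_left K hz).1 h1
  have M01 : ∀ d e d' e' : E, (x 3 d * x 5 e) ∈ K → x 2 1 * (x 3 d' * x 5 e') ∈ K →
      x 2 1 * (x 3 (d + d') * x 5 (e + e')) ∈ K := by
    intro d e d' e' h h'
    obtain ⟨z, hz, hp⟩ := padd d e d' e'
    have h1 := mul_mem h h'
    have hz' : ∃ z' ∈ K, x 2 1 * z = z' * x 2 1 := ⟨z, hz, by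
      have hz2 : z = (x 3 d * x 5 e) * (x 3 d' * x 5 e') * (x 3 (d + d') * x 5 (e + e'))⁻¹ := by rw [hp]; group
      rw [hz2]
      exact (mul_comm_of (mul_comm_of (c2 _ _) (c2 _ _)) (inv_comm_of (c2 _ _))).symm⟩
    obtain ⟨z', hz', hzz⟩ := hz'
    have e1 : (x 3 d * x 5 e) * (x 2 1 * (x 3 d' * x 5 e')) = z' * (x 2 1 * (x 3 (d + d') * x 5 (e + e'))) := by
      calc (x 3 d * x 5 e) * (x 2 1 * (x 3 d' * x 5 e'))
          = ((x 3 d * x 5 e) * x 2 1) * (x 3 d' * x 5 e') := by group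
        _ = x 2 1 * ((x 3 d * x 5 e) * (x 3 d' * x 5 e')) := by rw [c2]; group
        _ = (x 2 1 * z) * (x 3 (d + d') * x 5 (e + e')) := by rw [hp]; group
        _ = _ := by rw [hzz]; group
    rw [e1] at h1
    exact (Subgroup.mul_mem_cancel_left K hz').1 h1
  have M00 : ∀ d e d' e' : E, (x 3 d * x 5 e) ∈ K → (x 3 d' * x 5 e') ∈ K →
      (x 3 (d + d') * x 5 (e + e')) ∈ K := by
    intro d e d' e' h h'
    obtain ⟨z, hz, hp⟩ := padd d e d' e'
    have h1 := mul_mem h h'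
    rw [hp] at h1
    exact (Subgroup.mul_mem_cancel_left K hz).1 h1
  obtain ⟨η, h0, h1, -, -, hη⟩ := exists_eta v.hex.two v.card v.fix v.hex.cube
  have aS : ∀ y : E, y + y = 0 := addSelf v.hex.two
  have h10 : (1 + η : E) ≠ 0 := fun e => h1 (by
    have := eq_neg_of_add_eq_zero_right e
    rwa [negEq v.hex.two] at this)
  -- `x₂(1) x₃(d)`, `d ≠ 0`
  have N1 : ∀ d : E, d ≠ 0 → x 2 1 * (x 3 d * x 5 0) ∈ K := by
    intro d hd
    have hdi := inv_ne_zero hd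
    set r : E := η * d⁻¹ with hr
    have hr0 : r ≠ 0 := mul_ne_zero h0 hdi
    have m1 := M1 r hr0
    have m2 := M1 (r * η) (mul_ne_zero hr0 h0)
    have m3 := M1 (r * (1 + η)) (mul_ne_zero hr0 h10)
    have m4 := M01 _ _ _ _ (M11 _ _ _ _ m1 m2) m3
    have e5 : r + r * η + r * (1 + η) = 0 := by linear_combination (r + r * η) * v.hex.two
    have e3 : r⁻¹ + (r * η)⁻¹ + (r * (1 + η))⁻¹ = d := by
      rw [hr]
      field_simp
      linear_combination (-1 : E) * hη + η * v.hex.two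
    rw [e5, e3] at m4
    exact m4
  have N0 : ∀ d : E, x 3 d * x 5 0 ∈ K := by
    intro d
    by_cases hd : d = 0
    · rw [hd, v.hex.x_zero, v.hex.x_zero, one_mul]; exact one_mem _
    · have m := M11 _ _ _ _ (N1 (d * η) (mul_ne_zero hd h0)) (N1 (d * (1 + η)) (mul_ne_zero hd h10))
      have e3 : d * η + d * (1 + η) = d := by linear_combination d * η * v.hex.two
      rw [e3, add_zero] at m
      exact m
  have k3 : ∀ d : E, x 3 d ∈ K := fun d => by
    have := N0 d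
    rwa [v.hex.x_zero, mul_one] at this
  have k2 : x 2 1 ∈ K := by
    have := N1 1 one_ne_zero
    rw [v.hex.x_zero, mul_one] at this
    exact (Subgroup.mul_mem_cancel_right K (k3 1)).1 this
  have k5 : ∀ b : E, x 5 b ∈ K := fun b => by
    by_cases hb : b = 0
    · rw [hb, v.hex.x_zero]; exact one_mem _
    · have m := M1 b hb
      have m2 := (Subgroup.mul_mem_cancel_left K k2).1 m
      exact (Subgroup.mul_mem_cancel_left K (k3 _)).1 m2
  have hK : Q1 σ x ≤ K := by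
    rw [Q1_eq]
    refine gl_le v fun k hk b hb => ?_
    have hk5 : k = 2 ∨ k = 3 ∨ k = 4 ∨ k = 5 ∨ k = 6 := by
      have : ∀ k ∈ ([2, 3, 4, 5, 6] : List (ZMod 12)), k = 2 ∨ k = 3 ∨ k = 4 ∨ k = 5 ∨ k = 6 := by decide
      exact this k hk
    rcases hk5 with rfl | rfl | rfl | rfl | rfl
    · rcases even_val v (by decide) hb with h | h <;> rw [h]
      · exact one_mem _
      · exact k2
    · exact k3 b
    · rcases even_val v (by decide) hb with h | h <;> rw [h]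
      · exact one_mem _
      · exact kZ
    · exact k5 b
    · rcases even_val v (by decide) hb with h | h <;> rw [h]
      · exact one_mem _
      · exact k6
  exact (hK hq).2

/-! ### `N₁ = Q₁ Ẑ E` -/

/-- generators of `N₁` -/
def gN (σ : E ≃+* E) (x : ZMod 12 → E → G) (a : G) : Set G :=
  {y | y ∈ Q1 σ x ∨ y ∈ Zh x a ∨ ∃ b : E, y = sh x (a6 x a) b}

theorem N1_le {n : G} (hn : n ∈ N1 σ x t a) : n ∈ Subgroup.closure (gN σ x a) := by
  have hQ : Q1 σ x ≤ Subgroup.closure (gN σ x a) := fun q hq => Subgroup.subset_closure (Or.inl hq)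
  have hZ : Zh x a ≤ Subgroup.closure (gN σ x a) := fun q hq => Subgroup.subset_closure (Or.inr (Or.inl hq))
  have hE : Ec x a ≤ Subgroup.closure (gN σ x a) := by
    unfold Ec
    refine sup_le hZ ?_
    rw [Subgroup.closure_le]
    rintro _ ⟨b, rfl⟩
    exact Subgroup.subset_closure (Or.inr (Or.inr ⟨b, rfl⟩))
  obtain ⟨q, hq, h1⟩ := nu_exists v s hn
  obtain ⟨e, he, h2⟩ := E_onto v s hq
  have heN := Ec_le v s he
  have h3 := nu_mul v s hn (inv_mem heN) hq (inv_mem hq) h1 (nu_inv v s heN hq h2)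
  rw [mul_inv_cancel] at h3
  have h4 := nu_Q v s (mul_mem hn (inv_mem heN)) h3 (one_mem _)
  have h5 : n * e⁻¹ ∈ Subgroup.closure (gN σ x a) := (sup_le hQ hZ) h4
  exact (Subgroup.mul_mem_cancel_right _ (inv_mem (hE he))).1 h5

theorem gN_N1 {g : G} (hg : g ∈ gN σ x a) : g ∈ N1 σ x t a := by
  rcases hg with h | h | ⟨b, rfl⟩
  · exact Q_le v s h
  · exact Z_le v s h
  · exact A_mem v s b

theorem gN_comm {g g' : G} (hg : g ∈ gN σ x a) (hg' : g' ∈ gN σ x a) : ⁅g, g'⁆ ∈ Zh x a := by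
  have inv : ∀ y z : G, ⁅y, z⁆ ∈ Zh x a → ⁅z, y⁆ ∈ Zh x a := fun y z h => by
    rw [← commutatorElement_inv]; exact inv_mem h
  have zc : ∀ c ∈ Zh x a, ∀ y ∈ N1 σ x t a, ⁅y, c⁆ ∈ Zh x a := fun c hc y hy => by
    rw [commutatorElement_def, hy.1 c hc]
    have : c * y * y⁻¹ * c⁻¹ = 1 := by group
    rw [this]; exact one_mem _
  have h1 := gN_N1 v s hg
  have h1' := gN_N1 v s hg'
  rcases hg with h | h | ⟨b, rfl⟩
  · rcases hg' with h' | h' | ⟨b', rfl⟩
    · exact Zs_le_Zh v s (Q1_comm v h h')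
    · exact zc _ h' _ h1
    · refine inv _ _ ?_
      rw [commutatorElement_def]
      exact N1_Q v s h1' h
  · exact inv _ _ (zc _ h _ h1')
  · rcases hg' with h' | h' | ⟨b', rfl⟩
    · rw [commutatorElement_def]
      exact N1_Q v s h1 h'
    · exact zc _ h' _ h1
    · exact comm_A_A v s b b'

theorem N1_comm {n m : G} (hn : n ∈ N1 σ x t a) (hm : m ∈ N1 σ x t a) : ⁅n, m⁆ ∈ Zh x a :=
  closure_comm (C := Zh x a) (S := gN σ x a) (fun _ hg c hc => (gN_N1 v s hg).1 c hc)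
    (fun _ hg _ hg' => gN_comm v s hg hg') (N1_le v s hn) (N1_le v s hm)

theorem N1_sq {n : G} (hn : n ∈ N1 σ x t a) : n * n ∈ Zh x a := by
  refine closure_sq (C := Zh x a) (S := gN σ x a) (fun _ hg c hc => (gN_N1 v s hg).1 c hc)
    (fun _ hg _ hg' => gN_comm v s hg hg') (fun g hg => ?_) (N1_le v s hn)
  rcases hg with h | h | ⟨b, rfl⟩
  · exact Zs_le_Zh v s (Q1_sq v h)
  · exact mul_mem h h
  · rw [A_sq v s]; exact one_mem _

/-! ### `E ∩ Q₁ Ẑ = Ẑ` -/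

/-- bilinearity -/
theorem comm_mul_left' {n m y : G} (hn : n ∈ N1 σ x t a) (hm : m ∈ N1 σ x t a) (hy : y ∈ N1 σ x t a) :
    ⁅n * m, y⁆ = ⁅n, y⁆ * ⁅m, y⁆ := by
  have e : ⁅n * m, y⁆ = n * ⁅m, y⁆ * n⁻¹ * ⁅n, y⁆ := by
    rw [commutatorElement_def, commutatorElement_def, commutatorElement_def]; group
  have h := N1_comm v s hm hy
  rw [e, hn.1 _ h, mul_inv_cancel_right]
  exact Zh_comm v s h (N1_comm v s hn hy)

theorem w_mem (b : E) : sh x (x 6 1) b ∈ Q1 σ x := by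
  rw [sh_eq v]
  exact P1_Q1 v (x1P v b) (by rw [Q1_eq]; exact mem_gl (by decide) (ok_one σ 6))

/-- the part of `E` over a finite set -/
def EcS (x : ZMod 12 → E → G) (a : G) (S : Finset E) : Subgroup G :=
  Zh x a ⊔ Subgroup.closure {y | ∃ b ∈ S, y = sh x (a6 x a) b}

theorem EcS_le (S : Finset E) : EcS x a S ≤ Ec x a := by
  unfold EcS
  refine sup_le (Zh_le_Ec v s) ?_
  rw [Subgroup.closure_le]
  rintro _ ⟨b, -, rfl⟩
  exact A_mem_Ec v s b

/-- `ψ_b = 1` on the others -/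
theorem EcS_psi (S : Finset E) {b : E} (hb : b ∉ S) {e : G} (he : e ∈ EcS x a S) :
    ⁅e, sh x (x 6 1) b⁆ * ⁅e, x 2 1⁆ = 1 := by
  have hw := Q_le v s (w_mem v s b)
  have h2 : x 2 1 ∈ N1 σ x t a := Q_le v s (by rw [Q1_eq]; exact mem_gl (by decide) (ok_one σ 2))
  let K : Subgroup G :=
    { carrier := {e | e ∈ N1 σ x t a ∧ ⁅e, sh x (x 6 1) b⁆ = ⁅e, x 2 1⁆}
      mul_mem' := by
        rintro n m ⟨hn, hn'⟩ ⟨hm, hm'⟩
        refine ⟨mul_mem hn hm, ?_⟩
        rw [comm_mul_left' v s hn hm hw, comm_mul_left' v s hn hm h2, hn', hm']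
      one_mem' := ⟨one_mem _, by rw [commutatorElement_one_left, commutatorElement_one_left]⟩
      inv_mem' := by
        rintro n ⟨hn, hn'⟩
        refine ⟨inv_mem hn, ?_⟩
        have e1 : ∀ y ∈ N1 σ x t a, ⁅n⁻¹, y⁆ = (⁅n, y⁆)⁻¹ := fun y hy => by
          have := comm_mul_left' v s (inv_mem hn) hn hy
          rw [inv_mul_cancel, commutatorElement_one_left] at this
          exact eq_inv_of_mul_eq_one_left this.symm
        rw [e1 _ hw, e1 _ h2, hn'] }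
  have hK : EcS x a S ≤ K := by
    unfold EcS
    refine sup_le (fun c hc => ⟨Z_le v s hc, ?_⟩) ?_
    · have cc : ∀ y ∈ N1 σ x t a, ⁅c, y⁆ = 1 := fun y hy => by
        rw [commutatorElement_def, ← hy.1 c hc]; group
      rw [cc _ hw, cc _ h2]
    · rw [Subgroup.closure_le]
      rintro _ ⟨c, hc, rfl⟩
      refine ⟨A_mem v s c, ?_⟩
      rw [A_x2 v s, A_w_ne v s (fun e => hb (by rw [← e]; exact hc))]
  rw [(hK he).2]
  exact Zh_sq v s (N1_comm v s (hK he).1 h2)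

theorem EcS_step [DecidableEq E] (S : Finset E) (b : E) {e : G} (he : e ∈ EcS x a (insert b S)) :
    e ∈ EcS x a S ∨ sh x (a6 x a) b * e ∈ EcS x a S := by
  have hZ : Zh x a ≤ EcS x a S := le_sup_left
  have hA := A_mem v s b
  have hAA := A_sq v s b
  have hAi := A_inv v s b
  have nrm : ∀ y ∈ EcS x a S, sh x (a6 x a) b * y * sh x (a6 x a) b ∈ EcS x a S := by
    intro y hy
    have h := N1_comm v s hA (Ec_le v s (EcS_le v s S hy))
    have e1 : sh x (a6 x a) b * y * sh x (a6 x a) b = ⁅sh x (a6 x a) b, y⁆ * y := by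
      rw [commutatorElement_def, hAi]; group
    rw [e1]
    exact mul_mem (hZ h) hy
  let K : Subgroup G :=
    { carrier := {e | e ∈ EcS x a S ∨ sh x (a6 x a) b * e ∈ EcS x a S}
      mul_mem' := by
        rintro n m (hn | hn) (hm | hm)
        · left; exact mul_mem hn hm
        · right
          have e1 : sh x (a6 x a) b * (n * m) = (sh x (a6 x a) b * n * sh x (a6 x a) b) * (sh x (a6 x a) b * m) := by
            calc sh x (a6 x a) b * (n * m) = sh x (a6 x a) b * n * 1 * m := by group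
              _ = _ := by rw [← hAA]; group
          rw [e1]
          exact mul_mem (nrm n hn) hm
        · right
          rw [← mul_assoc]
          exact mul_mem hn hm
        · left
          have e1 : n * m = (sh x (a6 x a) b * (sh x (a6 x a) b * n) * sh x (a6 x a) b) * (sh x (a6 x a) b * m) := by
            calc n * m = 1 * n * 1 * m := by group
              _ = _ := by rw [← hAA]; group
          rw [e1]
          exact mul_mem (nrm _ hn) hm
      one_mem' := Or.inl (one_mem _)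
      inv_mem' := by
        rintro n (hn | hn)
        · left; exact inv_mem hn
        · right
          have e1 : sh x (a6 x a) b * n⁻¹ = sh x (a6 x a) b * (sh x (a6 x a) b * n)⁻¹ * sh x (a6 x a) b := by
            rw [mul_inv_rev, hAi]
            calc sh x (a6 x a) b * n⁻¹ = sh x (a6 x a) b * n⁻¹ * 1 := by group
              _ = _ := by rw [← hAA]; group
          rw [e1]
          exact nrm _ (inv_mem hn) }
  have hK : EcS x a (insert b S) ≤ K := by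
    unfold EcS
    refine sup_le (fun c hc => Or.inl (hZ hc)) ?_
    rw [Subgroup.closure_le]
    rintro _ ⟨c, hc, rfl⟩
    rcases Finset.mem_insert.1 hc with rfl | hc
    · right; rw [hAA]; exact one_mem _
    · left
      exact (le_sup_right : _ ≤ EcS x a S) (Subgroup.subset_closure ⟨c, hc, rfl⟩)
  exact hK he

theorem a_not_Zs : a ∉ Zs σ x := fun h => a_not_comm v s (t_gens v h).symm

theorem EcS_inj [DecidableEq E] (S : Finset E) : ∀ e ∈ EcS x a S,
    (∀ b, ⁅e, sh x (x 6 1) b⁆ * ⁅e, x 2 1⁆ ∈ Zs σ x) → e ∈ Zh x a := by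
  induction S using Finset.induction_on with
  | empty =>
    intro e he _
    unfold EcS at he
    have : {y : G | ∃ b ∈ (∅ : Finset E), y = sh x (a6 x a) b} = ∅ := by
      ext y; simp
    rw [this, Subgroup.closure_empty, sup_bot_eq] at he
    exact he
  | insert b S hb ih =>
    intro e he h
    rcases EcS_step v s S b he with h1 | h1
    · exact ih e h1 h
    · exfalso
      have hw := Q_le v s (w_mem v s b)
      have h2 : x 2 1 ∈ N1 σ x t a := Q_le v s (by rw [Q1_eq]; exact mem_gl (by decide) (ok_one σ 2))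
      have heN := Ec_le v s (EcS_le v s _ he)
      have hp := EcS_psi v s S hb h1
      rw [comm_mul_left' v s (A_mem v s b) heN hw, comm_mul_left' v s (A_mem v s b) heN h2, A_x2 v s,
        A_w_self v s, one_mul] at hp
      have hc := N1_comm v s heN hw
      have e1 : ⁅e, sh x (x 6 1) b⁆ * ⁅e, x 2 1⁆ = a := by
        have e2 : ⁅e, sh x (x 6 1) b⁆ * a = a * ⁅e, sh x (x 6 1) b⁆ := Zh_comm v s hc (a_mem_Zh v s)
        have e3 : a * (⁅e, sh x (x 6 1) b⁆ * ⁅e, x 2 1⁆) = 1 := by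
          rw [← hp]
          calc a * (⁅e, sh x (x 6 1) b⁆ * ⁅e, x 2 1⁆) = (a * ⁅e, sh x (x 6 1) b⁆) * ⁅e, x 2 1⁆ := by group
            _ = _ := by rw [← e2]; group
        have e4 := eq_inv_of_mul_eq_one_right e3
        rw [e4, ainv v s]
      have := h b
      rw [e1] at this
      exact a_not_Zs v s this

theorem Ec_inj {e : G} (he : e ∈ Ec x a) (h : e ∈ Q1 σ x ⊔ Zh x a) : e ∈ Zh x a := by
  classical
  have := finE v.card
  have := Fintype.ofFinite E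
  refine EcS_inj v s Finset.univ e ?_ (fun b => ?_)
  · have : Ec x a ≤ EcS x a Finset.univ := by
      unfold Ec EcS
      refine sup_le le_sup_left ?_
      refine le_trans (Subgroup.closure_mono ?_) le_sup_right
      rintro _ ⟨b, rfl⟩
      exact ⟨b, Finset.mem_univ b, rfl⟩
    exact this he
  · obtain ⟨q, hq, c, hc, rfl⟩ := mem_QZ v s h
    have red : ∀ r ∈ Q1 σ x, ⁅q * c, r⁆ ∈ Zs σ x := fun r hr => by
      have hrN := Q_le v s hr
      rw [comm_mul_left' v s (Q_le v s hq) (Z_le v s hc) hrN]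
      have : ⁅c, r⁆ = 1 := by rw [commutatorElement_def, ← hrN.1 c hc]; group
      rw [this, mul_one]
      exact Q1_comm v hq hr
    exact mul_mem (red _ (w_mem v s b)) (red _ (by rw [Q1_eq]; exact mem_gl (by decide) (ok_one σ 2)))

/-! ### Actions -/

theorem U1_Ec (b : E) {e : G} (he : e ∈ Ec x a) : x 1 b * e * x 1 b ∈ Ec x a := by
  have hK : Ec x a ≤ (Ec x a).comap (MulAut.conj (x 1 b)).toMonoidHom := by
    unfold Ec
    refine sup_le (fun c hc => ?_) ?_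
    · show x 1 b * c * (x 1 b)⁻¹ ∈ Ec x a
      rw [fixZ v s (x1P v b) hc]
      exact Zh_le_Ec v s hc
    · rw [Subgroup.closure_le]
      rintro _ ⟨c, rfl⟩
      show x 1 b * (x 1 c * a6 x a * x 1 c) * (x 1 b)⁻¹ ∈ Ec x a
      rw [x1i v]
      have := sh_sh v (a6 x a) b c
      unfold sh at this
      rw [this]
      exact A_mem_Ec v s (b + c)
  have h := hK he
  have h' : x 1 b * e * (x 1 b)⁻¹ ∈ Ec x a := h
  rwa [x1i v] at h'

theorem H_Ec {r : E} (hr : r ≠ 0) {e : G} (he : e ∈ Ec x a) : tau x r * e * (tau x r)⁻¹ ∈ Ec x a := by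
  have hK : Ec x a ≤ (Ec x a).comap (MulAut.conj (tau x r)).toMonoidHom := by
    unfold Ec
    refine sup_le (fun c hc => ?_) ?_
    · show tau x r * c * (tau x r)⁻¹ ∈ Ec x a
      rw [fixZ v s (tau_P1 v r) hc]
      exact Zh_le_Ec v s hc
    · rw [Subgroup.closure_le]
      rintro _ ⟨c, rfl⟩
      show tau x r * (x 1 c * a6 x a * x 1 c) * (tau x r)⁻¹ ∈ Ec x a
      have h1 := tau_act v.hex v.card v.fix hr 1 (a := c) (ok_odd (by decide) c)
      have w1 : wt (1 : ZMod 12) r = r := by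
        unfold wt; rw [if_neg (by decide), if_pos (by decide)]
      rw [w1] at h1
      have h6 : tau x r * a6 x a * (tau x r)⁻¹ = a6 x a := by
        rw [← a6_tau v s hr, mul_inv_cancel_right]
      have e1 : tau x r * (x 1 c * a6 x a * x 1 c) * (tau x r)⁻¹ = (tau x r * x 1 c * (tau x r)⁻¹) *
          (tau x r * a6 x a * (tau x r)⁻¹) * (tau x r * x 1 c * (tau x r)⁻¹) := by group
      rw [e1, h1, h6]
      exact A_mem_Ec v s (r * c)
  exact hK he

/-- Output of section 3. -/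
theorem qone : QOne σ x t a where
  P_N1 _ hp _ hn := P_N1 v s hp hn
  t_N1 _ hn := t_N1 v s hn
  Q_le := Q_le v s
  Z_le := Z_le v s
  a2_mem := a2_N1 v s
  a6_mem := a6_N1 v s
  ker _ hn h := N1_ker v s hn h
  comm _ hn _ hm := N1_comm v s hn hm
  sq _ hn := N1_sq v s hn
  E_le := Ec_le v s
  E_onto q hq := by
    obtain ⟨e, he, h⟩ := E_onto v s hq
    exact ⟨e, he, by rw [commutatorElement_def]; exact h⟩
  E_inj e he h := Ec_inj v s he (N1_ker v s (Ec_le v s he) h)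
  U1_E b _ he := U1_Ec v s b he
  H_E _ hr _ he := H_Ec v s hr he

end Five

end Cfsg.Agent.TriTwo
end

-- part: TriTwo/Kappa_mg
section

end

-- part: TriTwo/CoreTwo
section
prune_inst 0x20000000000000020000000000000030000410000000000000000000600000000000000000000000000000000000010000000000000000100208022000002000104260009800000000000000000000000000000000000000000000000000
set_option linter.all false
open scoped Cfsg.Agent.FastGrp

-- part: TriTwo/Rec
section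
/-!
# S1778, type `³D₄(2)`: the consequence of S1770 (`r = 1`) used in the start
-/

set_option autoImplicit false

namespace Cfsg.Agent.TriTwo.Rec

open Cfsg Subgroup Cfsg.Agent.StdEven.Syl Cfsg.Agent.StdL2.Setup Cfsg.Agent.StdRank2.Hex
open Cfsg.Agent.StdRank2.Hex.HexTwo (AA)

universe u

/-- The part (2) of S1770. -/
def Rec1770 : Prop :=
  ∀ (G : Type u) [Group G] [Finite G] [IsSimpleGroup G] (S : Sylow 2 G) (r : ℕ)
    (K : Type) [Field K] [Fintype K], 1 ≤ r → Fintype.card K = 8 ^ r →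
      ∀ P : Sylow 2 ↥(Cfsg.Lie.twistedD4 K (2 ^ r)),
        Nonempty (↥(S : Subgroup G) ≃* ↥(P : Subgroup ↥(Cfsg.Lie.twistedD4 K (2 ^ r)))) →
          Nonempty (G ≃* ↥(Cfsg.Lie.twistedD4 K (2 ^ r)))

/-- Sylow subgroups of isomorphic groups. -/
theorem nonempty_sylow {p : ℕ} [Fact p.Prime] {G D : Type*} [Group G] [Group D] [Finite G] [Finite D] (f : G ≃* D)
    (S : Sylow p G) (P : Sylow p D) : Nonempty (↥(S : Subgroup G) ≃* ↥(P : Subgroup D)) := by
  let S' : Sylow p D := S.mapSurjective (f := f.toMonoidHom) f.surjective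
  exact ⟨((S : Subgroup G).equivMapOfInjective f.toMonoidHom f.injective).trans (Sylow.equiv S' P)⟩

variable {E : Type*} [Field E] {σ : E ≃+* E} {G : Type u} [Group G] [Finite G] {x : ZMod 12 → E → G} {L A : Subgroup G}
  {t : G}

theorem rec_card (h1770 : Rec1770.{u}) (C : Conf L A t) (h : HexTwo σ x) (hA : A = AA σ x) (hc : Nat.card E = 8)
    (hf : ∀ a, σ a = a → a = 0 ∨ a = 1) {K : Type} [Field K] [Fintype K] (hK : Fintype.card K = 8)
    (e : ↥A ⧸ center ↥A ≃* ↥(Cfsg.Lie.twistedD4 K 2)) (hS : IsSyl (Us σ x) L) : Nat.card L ≤ Nat.card A := by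
  subst hA
  have : Fact (Nat.Prime 2) := ⟨Nat.prime_two⟩
  have hbot : center ↥(AA σ x) = ⊥ := by
    rw [eq_bot_iff]
    intro a ha
    rw [mem_bot]
    exact Subtype.ext (Bridge.center_AA h hc hf a.2 fun b hb =>
      (congrArg Subtype.val (mem_center_iff.mp ha ⟨b, hb⟩)).symm)
  let f : ↥(AA σ x) ≃* ↥(Cfsg.Lie.twistedD4 K 2) :=
    (QuotientGroup.quotientBot.symm.trans (QuotientGroup.quotientMulEquivOfEq hbot.symm)).trans e
  have hfin : Finite ↥(Cfsg.Lie.twistedD4 K 2) := Finite.of_equiv _ f.toEquiv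
  obtain ⟨P⟩ : Nonempty (Sylow 2 ↥(Cfsg.Lie.twistedD4 K 2)) := inferInstance
  obtain ⟨g⟩ := nonempty_sylow f (AFacts.isSyl_Us h hc hf).toSylow P
  have hsimple := C.simple
  have e1 : ↥((hS.toSylow : Sylow 2 ↥L) : Subgroup ↥L) ≃* ↥(Us σ x) := subgroupOfEquivOfLe hS.le
  have e2 : ↥((AFacts.isSyl_Us h hc hf).toSylow : Subgroup ↥(AA σ x)) ≃* ↥(Us σ x) :=
    subgroupOfEquivOfLe AFacts.Us_AA
  obtain ⟨k⟩ := h1770 ↥L hS.toSylow 1 K le_rfl (by rw [hK]; norm_num) P ⟨(e1.trans e2.symm).trans g⟩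
  have k' : ↥L ≃* ↥(AA σ x) := k.trans f.symm
  exact (Nat.card_congr k'.toEquiv).le

end Cfsg.Agent.TriTwo.Rec
end

-- part: TriTwo/Grow2
section
/-!
# S1778, type `³D₄(2)`, piece [E2]: the commutators of short root groups at `120` degrees

`Grow2.shortFour : Env σ x t → Lev σ x t V → ShortFour V` (in `Grow2Main.lean`); here: the abstract argument and
`Ĵ = V₂V₃V₄`.
-/

set_option autoImplicit false
set_option linter.unusedSectionVars false

namespace Cfsg.Agent.TriTwo.Grow2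

open Cfsg.Agent.StdRank2.Hex Cfsg.Agent.SplitTwo
open Cfsg.Agent.TriTwo
open scoped commutatorElement

/-! ### The abstract argument -/

section Abs

variable {Q : Type*} [Group Q] {t g : Q} {D Om V1 V5 U1 U5 : Subgroup Q}

/-- `y ↦ y t y⁻¹ t⁻¹` is a homomorphism of `D` into the central subgroup `Om` with kernel contained in `Om`: then
`⁅V₁, V₅⁆ ≤ U₅`. -/
theorem comm_mem (hOmD : Om ≤ D) (hOm : ∀ y ∈ D, ∀ o ∈ Om, y * o = o * y)
    (hφ : ∀ y ∈ D, y * t * y⁻¹ * t⁻¹ ∈ Om)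
    (hker : ∀ y ∈ D, y * t = t * y → y ∈ Om)
    (hV1 : V1 ≤ D) (hV5 : V5 ≤ D) (hU5 : U5 ≤ Om)
    (onto5 : ∀ u ∈ U5, ∃ v ∈ V5, v * t * v⁻¹ * t⁻¹ = u)
    (img1 : ∀ v ∈ V1, v * t * v⁻¹ * t⁻¹ ∈ U1)
    (ab5 : ∀ v ∈ V5, ∀ v' ∈ V5, v * v' = v' * v)
    (gt : g * t = t * g) (gD : ∀ y ∈ D, g * y * g⁻¹ ∈ D)
    (g5 : ∀ v ∈ V5, g * v = v * g)
    (gU1 : ∀ u ∈ U1, g * u * g⁻¹ * u⁻¹ ∈ U5)
    (fix : ∀ o ∈ Om, g * o = o * g → o ∈ U5) {v w : Q} (hv : v ∈ V1) (hw : w ∈ V5) : ⁅v, w⁆ ∈ U5 := by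
  have hvD := hV1 hv
  have hwD := hV5 hw
  have cj : ∀ y ∈ D, ∀ o ∈ Om, y * o * y⁻¹ = o := fun y hy o ho => by rw [hOm y hy o ho, mul_inv_cancel_right]
  -- `φ (y z) = φ z φ y`
  have mulφ : ∀ y ∈ D, ∀ z ∈ D, y * z * t * (y * z)⁻¹ * t⁻¹ = (z * t * z⁻¹ * t⁻¹) * (y * t * y⁻¹ * t⁻¹) := by
    intro y hy z hz
    have e : y * z * t * (y * z)⁻¹ * t⁻¹ = y * (z * t * z⁻¹ * t⁻¹) * y⁻¹ * (y * t * y⁻¹ * t⁻¹) := by group
    rw [e, cj y hy _ (hφ z hz)]
  -- commutators of `D` are in `Om`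
  have comm : ∀ y ∈ D, ∀ z ∈ D, ⁅y, z⁆ ∈ Om := by
    intro y hy z hz
    have e1 := mulφ y hy z hz
    have e2 := mulφ z hz y hy
    have e3 : y * z * t * (y * z)⁻¹ = z * y * t * (z * y)⁻¹ := by
      have : y * z * t * (y * z)⁻¹ * t⁻¹ = z * y * t * (z * y)⁻¹ * t⁻¹ := by
        rw [e1, e2]
        exact (hOm _ (hOmD (hφ z hz)) _ (hφ y hy))
      exact mul_right_cancel this
    have e4 : (z * y)⁻¹ * (y * z) * t = t * ((z * y)⁻¹ * (y * z)) := by
      calc (z * y)⁻¹ * (y * z) * t = (z * y)⁻¹ * (y * z * t * (y * z)⁻¹) * (y * z) := by group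
        _ = (z * y)⁻¹ * (z * y * t * (z * y)⁻¹) * (y * z) := by rw [e3]
        _ = _ := by group
    have hm := hker _ (mul_mem (inv_mem (mul_mem hz hy)) (mul_mem hy hz)) e4
    have e5 : ⁅y, z⁆ = (z * y) * ((z * y)⁻¹ * (y * z)) * (z * y)⁻¹ := by
      rw [commutatorElement_def]; group
    rw [e5, cj _ (mul_mem hz hy) _ hm]
    exact hm
  -- `δ = g v g⁻¹ v⁻¹`
  set δ := g * v * g⁻¹ * v⁻¹ with hδ
  have hδD : δ ∈ D := mul_mem (gD v hvD) (inv_mem hvD)
  have hgt : g⁻¹ * t * g = t := by rw [mul_assoc, ← gt, inv_mul_cancel_left]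
  have hu := img1 v hv
  set u := v * t * v⁻¹ * t⁻¹ with hu'
  have huO : u ∈ Om := hφ v hvD
  have e6 : δ * t * δ⁻¹ * t⁻¹ = g * u * g⁻¹ * u⁻¹ := by
    have e7 := mulφ δ hδD v hvD
    have e8 : δ * v = g * v * g⁻¹ := by rw [hδ]; group
    have e9 : g * v * g⁻¹ * t * (g * v * g⁻¹)⁻¹ * t⁻¹ = g * u * g⁻¹ := by
      calc g * v * g⁻¹ * t * (g * v * g⁻¹)⁻¹ * t⁻¹ = g * v * (g⁻¹ * t * g) * v⁻¹ * g⁻¹ * t⁻¹ := by group
        _ = g * v * t * v⁻¹ * (g⁻¹ * t⁻¹) := by rw [hgt]; group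
        _ = g * v * t * v⁻¹ * (t⁻¹ * g⁻¹) := by
          have : g⁻¹ * t⁻¹ = t⁻¹ * g⁻¹ := by rw [← mul_inv_rev, ← mul_inv_rev, gt]
          rw [this]
        _ = g * u * g⁻¹ := by rw [hu']; group
    rw [e8, e9] at e7
    -- `g u g⁻¹ = u (φ δ)`
    have e10 : δ * t * δ⁻¹ * t⁻¹ = u⁻¹ * (g * u * g⁻¹) := by rw [e7, inv_mul_cancel_left]
    have hgu : g * u * g⁻¹ * u⁻¹ ∈ Om := hU5 (gU1 u hu)
    have e11 := cj _ (inv_mem (hOmD huO)) _ hgu
    rw [e10]
    calc u⁻¹ * (g * u * g⁻¹) = u⁻¹ * (g * u * g⁻¹ * u⁻¹) * u⁻¹⁻¹ := by group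
      _ = _ := e11
  obtain ⟨v5, hv5, e12⟩ := onto5 _ (gU1 u hu)
  rw [← e6] at e12
  have e13 : v5 * t * v5⁻¹ = δ * t * δ⁻¹ := mul_right_cancel e12
  have e14 : v5⁻¹ * δ * t = t * (v5⁻¹ * δ) := by
    calc v5⁻¹ * δ * t = v5⁻¹ * (δ * t * δ⁻¹) * δ := by group
      _ = v5⁻¹ * (v5 * t * v5⁻¹) * δ := by rw [e13]
      _ = _ := by group
  have ho : v5⁻¹ * δ ∈ Om := hker _ (mul_mem (inv_mem (hV5 hv5)) hδD) e14
  -- `δ` commutes with `w`
  have e15 : δ * w = w * δ := by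
    calc δ * w = v5 * ((v5⁻¹ * δ) * w) := by group
      _ = v5 * (w * (v5⁻¹ * δ)) := by rw [← hOm w hwD _ ho]
      _ = (v5 * w) * (v5⁻¹ * δ) := by group
      _ = (w * v5) * (v5⁻¹ * δ) := by rw [ab5 v5 hv5 w hw]
      _ = _ := by group
  have hκ := comm v hvD w hwD
  refine fix _ hκ ?_
  have e16 : g * ⁅v, w⁆ * g⁻¹ = ⁅v, w⁆ := by
    have e17 : g * ⁅v, w⁆ * g⁻¹ = ⁅g * v * g⁻¹, g * w * g⁻¹⁆ := by
      rw [commutatorElement_def, commutatorElement_def]; group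
    have e18 : g * w * g⁻¹ = w := by rw [g5 w hw, mul_inv_cancel_right]
    have e19 : g * v * g⁻¹ = δ * v := by rw [hδ]; group
    rw [e17, e18, e19]
    calc ⁅δ * v, w⁆ = δ * ⁅v, w⁆ * (w * δ⁻¹ * w⁻¹) := by rw [commutatorElement_def, commutatorElement_def]; group
      _ = δ * ⁅v, w⁆ * δ⁻¹ := by
        have : w * δ⁻¹ * w⁻¹ = δ⁻¹ := by
          have e20 : w * δ⁻¹ = δ⁻¹ * w := by
            rw [eq_inv_mul_iff_mul_eq, ← mul_assoc, e15, mul_inv_cancel_right]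
          rw [e20, mul_inv_cancel_right]
        rw [this]
      _ = ⁅v, w⁆ := cj δ hδD _ hκ
  calc g * ⁅v, w⁆ = g * ⁅v, w⁆ * g⁻¹ * g := by group
    _ = _ := by rw [e16]

end Abs

/-- the same modulo a subgroup `J` which is normalised by everything -/
theorem comm_mem_mod {G : Type*} [Group G] {t g : G} {D Om V1 V5 U1 U5 J : Subgroup G}
    (hJD : J ≤ D) (hOmD : Om ≤ D) (hOm : ∀ y ∈ D, ∀ o ∈ Om, (y * o)⁻¹ * (o * y) ∈ J)
    (nD : ∀ y ∈ D, ∀ j ∈ J, y * j * y⁻¹ ∈ J) (nt : ∀ j ∈ J, t * j * t⁻¹ ∈ J) (nt' : ∀ j ∈ J, t⁻¹ * j * t ∈ J)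
    (ng : ∀ j ∈ J, g * j * g⁻¹ ∈ J) (ng' : ∀ j ∈ J, g⁻¹ * j * g ∈ J)
    (hφ : ∀ y ∈ D, y * t * y⁻¹ * t⁻¹ ∈ Om)
    (hker : ∀ y ∈ D, (y * t)⁻¹ * (t * y) ∈ J → ∃ o ∈ Om, o⁻¹ * y ∈ J)
    (hV1 : V1 ≤ D) (hV5 : V5 ≤ D) (hU1 : U1 ≤ Om) (hU5 : U5 ≤ Om)
    (onto5 : ∀ u ∈ U5, ∃ v ∈ V5, v * t * v⁻¹ * t⁻¹ = u)
    (img1 : ∀ v ∈ V1, v * t * v⁻¹ * t⁻¹ ∈ U1)
    (ab5 : ∀ v ∈ V5, ∀ v' ∈ V5, v * v' = v' * v)
    (gt : g * t = t * g) (gD : ∀ y ∈ D, g * y * g⁻¹ ∈ D)
    (g5 : ∀ v ∈ V5, g * v = v * g)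
    (gU1 : ∀ u ∈ U1, ∃ u' ∈ U5, (g * u * g⁻¹ * u⁻¹)⁻¹ * u' ∈ J)
    (fix : ∀ o ∈ Om, (g * o)⁻¹ * (o * g) ∈ J → ∃ u ∈ U5, o⁻¹ * u ∈ J) {v w : G} (hv : v ∈ V1) (hw : w ∈ V5) :
    ∃ u ∈ U5, ⁅v, w⁆⁻¹ * u ∈ J := by
  classical
  set N := Subgroup.normalizer (J : Set G) with hN
  have memN : ∀ y : G, (∀ j ∈ J, y * j * y⁻¹ ∈ J) → (∀ j ∈ J, y⁻¹ * j * y ∈ J) → y ∈ N := by
    intro y h1 h2
    rw [hN, Subgroup.mem_normalizer_iff]
    refine fun j => ⟨h1 j, fun hj => ?_⟩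
    have := h2 _ hj
    have e : y⁻¹ * (y * j * y⁻¹) * y = j := by group
    rwa [e] at this
  have DN : D ≤ N := fun y hy => memN y (nD y hy) (fun j hj => by
    have := nD y⁻¹ (inv_mem hy) j hj
    rwa [inv_inv] at this)
  have tN : t ∈ N := memN t nt nt'
  have gN : g ∈ N := memN g ng ng'
  haveI : (J.subgroupOf N).Normal := by
    refine ⟨fun j hj y => ?_⟩
    rw [Subgroup.mem_subgroupOf] at hj ⊢
    exact (Subgroup.mem_normalizer_iff.1 y.2 j).1 hj
  let π := QuotientGroup.mk' (J.subgroupOf N)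
  let im : Subgroup G → Subgroup (N ⧸ J.subgroupOf N) := fun A => (A.subgroupOf N).map π
  have eqπ : ∀ a b : N, π a = π b ↔ (a : G)⁻¹ * b ∈ J := by
    intro a b
    show (QuotientGroup.mk a : N ⧸ J.subgroupOf N) = QuotientGroup.mk b ↔ _
    rw [QuotientGroup.eq, Subgroup.mem_subgroupOf]
    rfl
  have memim : ∀ {A : Subgroup G} (a : N), (a : G) ∈ A → π a ∈ im A := fun a ha =>
    Subgroup.mem_map_of_mem π (Subgroup.mem_subgroupOf.2 ha)
  have eim : ∀ {A : Subgroup G} {z : N ⧸ J.subgroupOf N}, z ∈ im A → ∃ a : N, (a : G) ∈ A ∧ π a = z := by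
    intro A z hz
    obtain ⟨a, ha, rfl⟩ := Subgroup.mem_map.1 hz
    exact ⟨a, Subgroup.mem_subgroupOf.1 ha, rfl⟩
  have OmN : Om ≤ N := hOmD.trans DN
  have key := comm_mem (Q := N ⧸ J.subgroupOf N) (t := π ⟨t, tN⟩) (g := π ⟨g, gN⟩) (D := im D) (Om := im Om)
    (V1 := im V1) (V5 := im V5) (U1 := im U1) (U5 := im U5)
    (by
      intro z hz
      obtain ⟨a, ha, rfl⟩ := eim hz
      exact memim a (hOmD ha))
    (by
      intro y hy o ho
      obtain ⟨a, ha, rfl⟩ := eim hy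
      obtain ⟨b, hb, rfl⟩ := eim ho
      rw [← map_mul, ← map_mul, eqπ]
      exact hOm a ha b hb)
    (by
      intro y hy
      obtain ⟨a, ha, rfl⟩ := eim hy
      rw [← map_inv, ← map_inv, ← map_mul, ← map_mul, ← map_mul]
      exact memim _ (hφ a ha))
    (by
      intro y hy e
      obtain ⟨a, ha, rfl⟩ := eim hy
      rw [← map_mul, ← map_mul, eqπ] at e
      obtain ⟨o, ho, hoj⟩ := hker a ha e
      have : π a = π ⟨o, OmN ho⟩ := ((eqπ _ _).2 hoj).symm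
      rw [this]
      exact memim _ ho)
    (by
      intro z hz
      obtain ⟨a, ha, rfl⟩ := eim hz
      exact memim a (hV1 ha))
    (by
      intro z hz
      obtain ⟨a, ha, rfl⟩ := eim hz
      exact memim a (hV5 ha))
    (by
      intro z hz
      obtain ⟨a, ha, rfl⟩ := eim hz
      exact memim a (hU5 ha))
    (by
      intro z hz
      obtain ⟨a, ha, rfl⟩ := eim hz
      obtain ⟨b, hb, e⟩ := onto5 a ha
      refine ⟨π ⟨b, DN (hV5 hb)⟩, memim _ hb, ?_⟩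
      rw [← map_inv, ← map_inv, ← map_mul, ← map_mul, ← map_mul]
      congr 1
      exact Subtype.ext e)
    (by
      intro z hz
      obtain ⟨a, ha, rfl⟩ := eim hz
      rw [← map_inv, ← map_inv, ← map_mul, ← map_mul, ← map_mul]
      exact memim _ (img1 a ha))
    (by
      intro y hy z hz
      obtain ⟨a, ha, rfl⟩ := eim hy
      obtain ⟨b, hb, rfl⟩ := eim hz
      rw [← map_mul, ← map_mul]
      congr 1
      exact Subtype.ext (ab5 a ha b hb))
    (by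
      rw [← map_mul, ← map_mul]
      congr 1
      exact Subtype.ext gt)
    (by
      intro y hy
      obtain ⟨a, ha, rfl⟩ := eim hy
      rw [← map_inv, ← map_mul, ← map_mul]
      exact memim _ (gD a ha))
    (by
      intro y hy
      obtain ⟨a, ha, rfl⟩ := eim hy
      rw [← map_mul, ← map_mul]
      congr 1
      exact Subtype.ext (g5 a ha))
    (by
      intro y hy
      obtain ⟨a, ha, rfl⟩ := eim hy
      rw [← map_inv, ← map_inv, ← map_mul, ← map_mul, ← map_mul]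
      obtain ⟨u', hu', hj⟩ := gU1 a ha
      have : π (⟨g, gN⟩ * a * ⟨g, gN⟩⁻¹ * a⁻¹) = π ⟨u', OmN (hU5 hu')⟩ := (eqπ _ _).2 hj
      rw [this]
      exact memim _ hu')
    (by
      intro y hy e
      obtain ⟨a, ha, rfl⟩ := eim hy
      rw [← map_mul, ← map_mul, eqπ] at e
      obtain ⟨u, hu, hj⟩ := fix a ha e
      have : π a = π ⟨u, OmN (hU5 hu)⟩ := (eqπ _ _).2 hj
      rw [this]
      exact memim _ hu)
    (memim ⟨v, DN (hV1 hv)⟩ hv) (memim ⟨w, DN (hV5 hw)⟩ hw)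
  rw [commutatorElement_def, ← map_inv, ← map_inv, ← map_mul, ← map_mul, ← map_mul] at key
  obtain ⟨u, hu, e⟩ := eim key
  refine ⟨u, hu, ?_⟩
  rw [commutatorElement_def]
  exact (eqπ _ _).1 e.symm

end Cfsg.Agent.TriTwo.Grow2
end

-- part: TriTwo/Grow2J
section
/-!
# S1778, type `³D₄(2)`, piece [E2]: the groups `Ĵ = V₂V₃V₄` and `D̂`
-/

set_option autoImplicit false
set_option linter.unusedSectionVars false

namespace Cfsg.Agent.TriTwo.Grow2

open Cfsg.Agent.StdRank2.Hex Cfsg.Agent.SplitTwo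
open Cfsg.Agent.TriTwo
open scoped commutatorElement

/-- the other six cuts -/
theorem disj_nn {E : Type*} [Field E] {σ : E ≃+* E} {G : Type*} [Group G] {x : ZMod 12 → E → G} (h : HexTwo σ x)
    {L M : List (ZMod 12)} (k : ZMod 12) (hLM : opps (L.map fun j => 2 * k + 6 - j) (M.map fun j => 2 * k + 6 - j) = true)
    {y : G} (hy : y ∈ gl σ x L) (hy' : y ∈ gl σ x M) : y = 1 := by
  have := disj_of_opps h hLM (y := nn x k * y * (nn x k)⁻¹)
    (gl_nn h k (fun j hj => List.mem_map.2 ⟨j, hj, rfl⟩) hy) (gl_nn h k (fun j hj => List.mem_map.2 ⟨j, hj, rfl⟩) hy')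
  rwa [mul_inv_eq_one, mul_eq_left] at this

section J

variable {E : Type*} [Field E] {σ : E ≃+* E} {G : Type*} [Group G] {x : ZMod 12 → E → G} {t : G}
  {V : ZMod 12 → Subgroup G} (env : Env σ x t) (L : Lev σ x t V)

/-- `Ĵ` -/
def Jh (V : ZMod 12 → Subgroup G) : Subgroup G := V 2 ⊔ V 3 ⊔ V 4

/-- `Ŵ` -/
def Wh (V : ZMod 12 → Subgroup G) : Subgroup G := V 2 ⊔ V 4

omit env in
include L in
theorem V_inv {r : ZMod 12} {y : G} (hy : y ∈ V r) : y⁻¹ = y := inv_eq_of_mul_eq_one_left (L.sq r y hy)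

omit env in
include L in
theorem V_comm {r : ZMod 12} {y z : G} (hy : y ∈ V r) (hz : z ∈ V r) : y * z = z * y := by
  have h1 := L.sq r _ (mul_mem hy hz)
  have h2 : (y * z)⁻¹ = y * z := inv_eq_of_mul_eq_one_left h1
  rw [mul_inv_rev, V_inv L hy, V_inv L hz] at h2
  exact h2.symm

theorem V_Wh {r : ZMod 12} (hr : r = 2 ∨ r = 4) {y : G} (hy : y ∈ V r) : y ∈ Wh V := by
  rcases hr with rfl | rfl
  · exact (le_sup_left : V 2 ≤ _) hy
  · exact (le_sup_right : V 4 ≤ _) hy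

theorem V_Jh {r : ZMod 12} (hr : r = 2 ∨ r = 3 ∨ r = 4) {y : G} (hy : y ∈ V r) : y ∈ Jh V := by
  rcases hr with rfl | rfl | rfl
  · exact ((le_sup_left : V 2 ≤ V 2 ⊔ V 3).trans le_sup_left) hy
  · exact ((le_sup_right : V 3 ≤ V 2 ⊔ V 3).trans le_sup_left) hy
  · exact (le_sup_right : V 4 ≤ _) hy

theorem Wh_le_Jh : Wh V ≤ Jh V :=
  sup_le (fun _ h => V_Jh (Or.inl rfl) h) (fun _ h => V_Jh (Or.inr (Or.inr rfl)) h)

/-- to prove something for a closed family on `Jh` -/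
theorem Jh_le {K : Subgroup G} (h : ∀ r, r = 2 ∨ r = 3 ∨ r = 4 → V r ≤ K) : Jh V ≤ K :=
  sup_le (sup_le (h 2 (Or.inl rfl)) (h 3 (Or.inr (Or.inl rfl)))) (h 4 (Or.inr (Or.inr rfl)))

theorem Wh_le {K : Subgroup G} (h : ∀ r, r = 2 ∨ r = 4 → V r ≤ K) : Wh V ≤ K :=
  sup_le (h 2 (Or.inl rfl)) (h 4 (Or.inr rfl))

theorem Jh_comm_of {g : G} (h : ∀ r, r = 2 ∨ r = 3 ∨ r = 4 → ∀ y ∈ V r, g * y = y * g) {y : G} (hy : y ∈ Jh V) :
    g * y = y * g := by
  have : Jh V ≤ Subgroup.centralizer {g} := Jh_le fun r hr y hy => by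
    rw [Subgroup.mem_centralizer_singleton_iff]; exact (h r hr y hy).symm
  exact (Subgroup.mem_centralizer_singleton_iff.1 (this hy)).symm

theorem Wh_comm_of {g : G} (h : ∀ r, r = 2 ∨ r = 4 → ∀ y ∈ V r, g * y = y * g) {y : G} (hy : y ∈ Wh V) :
    g * y = y * g := by
  have : Wh V ≤ Subgroup.centralizer {g} := Wh_le fun r hr y hy => by
    rw [Subgroup.mem_centralizer_singleton_iff]; exact (h r hr y hy).symm
  exact (Subgroup.mem_centralizer_singleton_iff.1 (this hy)).symm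

theorem Jh_conj_of {g : G} {K : Subgroup G} (h : ∀ r, r = 2 ∨ r = 3 ∨ r = 4 → ∀ y ∈ V r, g * y * g⁻¹ ∈ K) {y : G}
    (hy : y ∈ Jh V) : g * y * g⁻¹ ∈ K := by
  have : Jh V ≤ K.comap (MulAut.conj g).toMonoidHom := Jh_le fun r hr y hy => by simpa only [_root_.MulEquiv.toMonoidHom_eq_coe, _root_.Subgroup.mem_comap, _root_.MonoidHom.coe_coe, _root_.MulAut.conj_apply] using h r hr y hy
  simpa using this hy

theorem Wh_conj_of {g : G} {K : Subgroup G} (h : ∀ r, r = 2 ∨ r = 4 → ∀ y ∈ V r, g * y * g⁻¹ ∈ K) {y : G}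
    (hy : y ∈ Wh V) : g * y * g⁻¹ ∈ K := by
  have : Wh V ≤ K.comap (MulAut.conj g).toMonoidHom := Wh_le fun r hr y hy => by simpa only [_root_.MulEquiv.toMonoidHom_eq_coe, _root_.Subgroup.mem_comap, _root_.MonoidHom.coe_coe, _root_.MulAut.conj_apply] using h r hr y hy
  simpa using this hy

omit env in
include L in
/-- the three groups commute -/
theorem VJ_comm {r s : ZMod 12} (hr : r = 2 ∨ r = 3 ∨ r = 4) (hs : s = 2 ∨ s = 3 ∨ s = 4) {y z : G} (hy : y ∈ V r)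
    (hz : z ∈ V s) : y * z = z * y := by
  rcases hr with rfl | rfl | rfl <;> rcases hs with rfl | rfl | rfl
  · exact V_comm L hy hz
  · exact L.c1 2 y hy z hz
  · exact L.l2 2 (by decide) y hy z hz
  · exact (L.c1 2 z hz y hy).symm
  · exact V_comm L hy hz
  · exact L.c1 3 y hy z hz
  · exact (L.l2 2 (by decide) z hz y hy).symm
  · exact (L.c1 3 z hz y hy).symm
  · exact V_comm L hy hz

omit env in
include L in
theorem Jh_comm {y z : G} (hy : y ∈ Jh V) (hz : z ∈ Jh V) : y * z = z * y :=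
  Jh_comm_of (fun _ hs z hz => (Jh_comm_of (fun _ hr y hy => (VJ_comm L hr hs hy hz).symm) hy).symm) hz

omit env in
include L in
theorem Jh_form {y : G} (hy : y ∈ Jh V) : ∃ a ∈ V 2, ∃ b ∈ V 3, ∃ c ∈ V 4, y = a * b * c := by
  unfold Jh at hy
  obtain ⟨ab, hab, c, hc, rfl⟩ := mem_sup_norm (A := V 2 ⊔ V 3) (B := V 4) (fun p hp q hq => by
    have hp' : p ∈ Jh V := (le_sup_left : V 2 ⊔ V 3 ≤ _) hp
    rw [Jh_comm L hp' (V_Jh (Or.inr (Or.inr rfl)) hq), mul_inv_cancel_right]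
    exact hq) hy
  obtain ⟨a, ha, b, hb, rfl⟩ := mem_sup_norm (A := V 2) (B := V 3) (fun p hp q hq => by
    rw [Jh_comm L (V_Jh (Or.inl rfl) hp) (V_Jh (Or.inr (Or.inl rfl)) hq), mul_inv_cancel_right]
    exact hq) hab
  exact ⟨a, ha, b, hb, c, hc, rfl⟩

omit env in
include L in
theorem Jh_sq {y : G} (hy : y ∈ Jh V) : y * y = 1 := by
  obtain ⟨a, ha, b, hb, c, hc, rfl⟩ := Jh_form L hy
  have ha' : a ∈ Jh V := V_Jh (Or.inl rfl) ha
  have hb' : b ∈ Jh V := V_Jh (Or.inr (Or.inl rfl)) hb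
  have hc' : c ∈ Jh V := V_Jh (Or.inr (Or.inr rfl)) hc
  calc a * b * c * (a * b * c) = a * b * (c * (a * b)) * c := by group
    _ = a * b * ((a * b) * c) * c := by rw [Jh_comm L hc' (mul_mem ha' hb')]
    _ = a * (b * a) * b * (c * c) := by group
    _ = a * (a * b) * b * (c * c) := by rw [Jh_comm L hb' ha']
    _ = (a * a) * (b * b) * (c * c) := by group
    _ = 1 := by rw [L.sq 2 a ha, L.sq 3 b hb, L.sq 4 c hc]; group

omit env in
include L in
theorem Jh_inv {y : G} (hy : y ∈ Jh V) : y⁻¹ = y := inv_eq_of_mul_eq_one_left (Jh_sq L hy)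

omit env in
include L in
/-- `t` normalises `V r` -/
theorem t_V {r : ZMod 12} {y : G} (hy : y ∈ V r) : t * y * t⁻¹ ∈ V r := by
  obtain ⟨b, hb, e⟩ := L.br r y hy
  have e2 : t * y * t⁻¹ = ⁅t, y⁆ * y := by rw [commutatorElement_def]; group
  rw [e2, e]
  exact mul_mem (L.le r b hb) hy

omit env in
include L in
theorem t_Jh {y : G} (hy : y ∈ Jh V) : t * y * t⁻¹ ∈ Jh V :=
  Jh_conj_of (fun _ hr _ hy => V_Jh hr (t_V L hy)) hy

theorem xJ {k : ZMod 12} (hk : k = 2 ∨ k = 3 ∨ k = 4) {a : E} (ha : Ok σ k a) (L : Lev σ x t V) : x k a ∈ Jh V :=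
  V_Jh hk (L.le k a ha)

theorem gJ (L : Lev σ x t V) : gl σ x [2, 3, 4] ≤ Jh V := by
  refine gens_le (S := {j | j ∈ [2, 3, 4]}) fun k hk a ha => xJ ?_ ha L
  simpa using hk

include env L

/-- fixed points of `t` on `Ĵ` -/
theorem J_fix {y : G} (hy : y ∈ Jh V) (ht : y * t = t * y) :
    y ∈ gl σ x [2, 3, 4] ∧ ∃ v ∈ Jh V, t * v * t⁻¹ * v⁻¹ = y := by
  obtain ⟨a, ha, b, hb, c, hc, rfl⟩ := Jh_form L hy
  have ha' : a ∈ Jh V := V_Jh (Or.inl rfl) ha
  have hb' : b ∈ Jh V := V_Jh (Or.inr (Or.inl rfl)) hb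
  have hc' : c ∈ Jh V := V_Jh (Or.inr (Or.inr rfl)) hc
  obtain ⟨α, hα, eα⟩ := L.br 2 a ha
  obtain ⟨β, hβ, eβ⟩ := L.br 3 b hb
  obtain ⟨γ, hγ, eγ⟩ := L.br 4 c hc
  have Jα : x 2 α ∈ Jh V := xJ (Or.inl rfl) hα L
  have Jβ : x 3 β ∈ Jh V := xJ (Or.inr (Or.inl rfl)) hβ L
  have Jγ : x 4 γ ∈ Jh V := xJ (Or.inr (Or.inr rfl)) hγ L
  have ea : t * a * t⁻¹ = x 2 α * a := by rw [← eα, commutatorElement_def]; group
  have eb : t * b * t⁻¹ = x 3 β * b := by rw [← eβ, commutatorElement_def]; group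
  have ec : t * c * t⁻¹ = x 4 γ * c := by rw [← eγ, commutatorElement_def]; group
  have e1 : t * (a * b * c) * t⁻¹ = a * b * c := by rw [← ht, mul_inv_cancel_right]
  have e2 : x 2 α * (x 3 β * x 4 γ) = 1 := by
    have e3 : x 2 α * a * (x 3 β * b) * (x 4 γ * c) = a * b * c := by
      rw [← ea, ← eb, ← ec]
      calc t * a * t⁻¹ * (t * b * t⁻¹) * (t * c * t⁻¹) = t * (a * b * c) * t⁻¹ := by group
        _ = _ := e1
    have e4 : x 2 α * a * (x 3 β * b) * (x 4 γ * c) = x 2 α * (x 3 β * x 4 γ) * (a * b * c) := by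
      calc x 2 α * a * (x 3 β * b) * (x 4 γ * c) = x 2 α * (a * x 3 β) * b * x 4 γ * c := by group
        _ = x 2 α * x 3 β * ((a * b) * x 4 γ) * c := by rw [Jh_comm L ha' Jβ]; group
        _ = x 2 α * x 3 β * (x 4 γ * (a * b)) * c := by rw [Jh_comm L (mul_mem ha' hb') Jγ]
        _ = _ := by group
    rw [e4] at e3
    exact mul_eq_right.1 e3
  have f2 : x 2 α = 1 := by
    refine disj_of_opps env.hex (L := [2]) (M := [3, 4]) (by decide) (mem_gl (by decide) hα) ?_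
    rw [eq_inv_of_mul_eq_one_left e2]
    exact inv_mem (mul_mem (mem_gl (by decide) hβ) (mem_gl (by decide) hγ))
  rw [f2, one_mul] at e2
  have f3 : x 3 β = 1 := by
    refine disj_nn env.hex (L := [3]) (M := [4]) 1 (by decide) (mem_gl (by decide) hβ) ?_
    rw [eq_inv_of_mul_eq_one_left e2]
    exact inv_mem (mem_gl (by decide) hγ)
  rw [f3, one_mul] at e2
  rw [f2, one_mul] at ea
  rw [f3, one_mul] at eb
  rw [e2, one_mul] at ec
  obtain ⟨a', oa, rfl⟩ := L.fix 2 a ha (mul_inv_eq_iff_eq_mul.1 ea).symm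
  obtain ⟨b', ob, rfl⟩ := L.fix 3 b hb (mul_inv_eq_iff_eq_mul.1 eb).symm
  obtain ⟨c', oc, rfl⟩ := L.fix 4 c hc (mul_inv_eq_iff_eq_mul.1 ec).symm
  refine ⟨mul_mem (mul_mem (mem_gl (by decide) oa) (mem_gl (by decide) ob)) (mem_gl (by decide) oc), ?_⟩
  obtain ⟨p, hp, ep⟩ := L.onto 2 a' oa
  obtain ⟨q, hq, eq⟩ := L.onto 3 b' ob
  obtain ⟨r, hr, er⟩ := L.onto 4 c' oc
  have hpJ : p ∈ Jh V := V_Jh (Or.inl rfl) hp
  have hqJ : q ∈ Jh V := V_Jh (Or.inr (Or.inl rfl)) hq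
  have hrJ : r ∈ Jh V := V_Jh (Or.inr (Or.inr rfl)) hr
  have hbJ : x 3 b' ∈ Jh V := xJ (Or.inr (Or.inl rfl)) ob L
  have hcJ : x 4 c' ∈ Jh V := xJ (Or.inr (Or.inr rfl)) oc L
  have ep' : t * p * t⁻¹ = x 2 a' * p := by rw [← ep, commutatorElement_def]; group
  have eq' : t * q * t⁻¹ = x 3 b' * q := by rw [← eq, commutatorElement_def]; group
  have er' : t * r * t⁻¹ = x 4 c' * r := by rw [← er, commutatorElement_def]; group
  refine ⟨p * q * r, mul_mem (mul_mem hpJ hqJ) hrJ, ?_⟩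
  calc t * (p * q * r) * t⁻¹ * (p * q * r)⁻¹ = (t * p * t⁻¹) * (t * q * t⁻¹) * (t * r * t⁻¹) * (p * q * r)⁻¹ := by
        group
    _ = x 2 a' * p * (x 3 b' * q) * (x 4 c' * r) * (p * q * r)⁻¹ := by rw [ep', eq', er']
    _ = x 2 a' * (p * x 3 b') * q * x 4 c' * r * (p * q * r)⁻¹ := by group
    _ = x 2 a' * x 3 b' * ((p * q) * x 4 c') * r * (p * q * r)⁻¹ := by rw [Jh_comm L hpJ hbJ]; group
    _ = x 2 a' * x 3 b' * (x 4 c' * (p * q)) * r * (p * q * r)⁻¹ := by rw [Jh_comm L (mul_mem hpJ hqJ) hcJ]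
    _ = _ := by group

end J

end Cfsg.Agent.TriTwo.Grow2
end

-- part: TriTwo/Grow2D
section
/-!
# S1778, type `³D₄(2)`, piece [E2]: the group `D̂`
-/

set_option autoImplicit false
set_option linter.unusedSectionVars false

namespace Cfsg.Agent.TriTwo.Grow2

open Cfsg.Agent.StdRank2.Hex Cfsg.Agent.SplitTwo
open Cfsg.Agent.TriTwo
open scoped commutatorElement

section Gen

variable {G : Type*} [Group G]

theorem mem_norm_of_invol {J : Subgroup G} {g : G} (hg : g * g = 1) (h : ∀ j ∈ J, g * j * g⁻¹ ∈ J) :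
    g ∈ Subgroup.normalizer (J : Set G) := by
  rw [Subgroup.mem_normalizer_iff]
  refine fun j => ⟨h j, fun hj => ?_⟩
  have h1 := h _ hj
  have e : g⁻¹ = g := inv_eq_of_mul_eq_one_left hg
  have e2 : g * (g * j * g⁻¹) * g⁻¹ = j := by
    rw [e]
    calc g * (g * j * g) * g = (g * g) * j * (g * g) := by group
      _ = j := by rw [hg]; group
  rwa [e2] at h1

theorem norm_conj {J : Subgroup G} {g j : G} (hg : g ∈ Subgroup.normalizer (J : Set G)) (hj : j ∈ J) :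
    g * j * g⁻¹ ∈ J := (Subgroup.mem_normalizer_iff.1 hg j).1 hj

theorem norm_conj' {J : Subgroup G} {g j : G} (hg : g ∈ Subgroup.normalizer (J : Set G)) (hj : j ∈ J) :
    g⁻¹ * j * g ∈ J := by
  have := norm_conj (inv_mem hg) hj
  rwa [inv_inv] at this

end Gen

section D

variable {E : Type*} [Field E] {σ : E ≃+* E} {G : Type*} [Group G] {x : ZMod 12 → E → G} {t : G}
  {V : ZMod 12 → Subgroup G} (env : Env σ x t) (L : Lev σ x t V)

theorem five {k : ZMod 12} (hk : k ∈ ([1, 2, 3, 4, 5] : List (ZMod 12))) :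
    (k = 1 ∨ k = 5) ∨ (k = 2 ∨ k = 3 ∨ k = 4) := by
  revert k; decide

omit env in
include L in
/-- `V₁`, …, `V₅` centralise `Ŵ` -/
theorem V_cW {k : ZMod 12} (hk : k ∈ ([1, 2, 3, 4, 5] : List (ZMod 12))) {y w : G} (hy : y ∈ V k) (hw : w ∈ Wh V) :
    y * w = w * y := by
  rcases five hk with (rfl | rfl) | hk
  · refine Wh_comm_of (fun r hr z hz => ?_) hw
    rcases hr with rfl | rfl
    · exact L.c1 1 y hy z hz
    · exact L.c3 1 y hy z hz
  · refine Wh_comm_of (fun r hr z hz => ?_) hw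
    rcases hr with rfl | rfl
    · exact (L.c3 2 z hz y hy).symm
    · exact (L.c1 4 z hz y hy).symm
  · exact Jh_comm L (V_Jh hk hy) (Wh_le_Jh hw)

omit env in
include L in
/-- and `Ĵ / Ŵ` -/
theorem V_cJ {k : ZMod 12} (hk : k ∈ ([1, 2, 3, 4, 5] : List (ZMod 12))) {y j : G} (hy : y ∈ V k) (hj : j ∈ Jh V) :
    y * j * y⁻¹ * j⁻¹ ∈ Wh V := by
  have key : ∀ b ∈ V 3, y * b * y⁻¹ * b⁻¹ ∈ Wh V := by
    intro b hb
    rcases five hk with (rfl | rfl) | hk
    · have := L.s2 1 (by decide) y hy b hb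
      rw [commutatorElement_def] at this
      exact V_Wh (Or.inl rfl) this
    · have := inv_mem (L.s2 3 (by decide) b hb y hy)
      rw [commutatorElement_inv, commutatorElement_def] at this
      exact V_Wh (Or.inr rfl) this
    · rw [Jh_comm L (V_Jh hk hy) (V_Jh (Or.inr (Or.inl rfl)) hb)]
      have : b * y * y⁻¹ * b⁻¹ = 1 := by group
      rw [this]
      exact one_mem _
  obtain ⟨a, ha, b, hb, c, hc, rfl⟩ := Jh_form L hj
  have haW : a ∈ Wh V := V_Wh (Or.inl rfl) ha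
  have hcW : c ∈ Wh V := V_Wh (Or.inr rfl) hc
  have ea : y * a = a * y := V_cW L hk hy haW
  have ec : c * y⁻¹ = y⁻¹ * c := by
    have := V_cW L hk hy hcW
    rw [eq_inv_mul_iff_mul_eq, ← mul_assoc, this, mul_inv_cancel_right]
  have e : y * (a * b * c) * y⁻¹ * (a * b * c)⁻¹ = a * (y * b * y⁻¹ * b⁻¹) * a⁻¹ := by
    calc y * (a * b * c) * y⁻¹ * (a * b * c)⁻¹ = (y * a) * b * (c * y⁻¹) * (a * b * c)⁻¹ := by group
      _ = (a * y) * b * (y⁻¹ * c) * (a * b * c)⁻¹ := by rw [ea, ec]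
      _ = _ := by group
  rw [e]
  exact mul_mem (mul_mem haW (key b hb)) (inv_mem haW)

omit env in
include L in
theorem V_norm {k : ZMod 12} (hk : k ∈ ([1, 2, 3, 4, 5] : List (ZMod 12))) {y : G} (hy : y ∈ V k) :
    y ∈ Subgroup.normalizer (Jh V : Set G) :=
  mem_norm_of_invol (L.sq k y hy) (fun j hj => by
    have e : y * j * y⁻¹ = (y * j * y⁻¹ * j⁻¹) * j := by group
    rw [e]
    exact mul_mem (Wh_le_Jh (V_cJ L hk hy hj)) hj)

omit env in
include L in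
theorem Q2_norm : Q2 σ x ≤ Subgroup.normalizer (Jh V : Set G) := by
  rw [Q2_eq]
  exact gens_le (S := {j | j ∈ [1, 2, 3, 4, 5]}) fun k hk a ha => V_norm L hk (L.le k a ha)

include env L in
theorem t_norm : t ∈ Subgroup.normalizer (Jh V : Set G) := mem_norm_of_invol env.tt fun _ hj => t_Jh L hj

variable (σ x t V)

/-- `Q₂Ĵ` -/
def QJ : Subgroup G := Q2 σ x ⊔ Jh V

/-- the elements of `D̂` -/
structure InD (y : G) : Prop where
  cW : ∀ w ∈ Wh V, y * w = w * y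
  cJ : ∀ j ∈ Jh V, y * j * y⁻¹ * j⁻¹ ∈ Wh V
  cQ : ∀ q ∈ Q2 σ x, y * q * y⁻¹ * q⁻¹ ∈ Jh V
  ct : y * t * y⁻¹ * t⁻¹ ∈ QJ σ x V

variable {σ x t V}

theorem InD.nJ {y : G} (hy : InD σ x t V y) {j : G} (hj : j ∈ Jh V) : y * j * y⁻¹ ∈ Jh V := by
  have e : y * j * y⁻¹ = (y * j * y⁻¹ * j⁻¹) * j := by group
  rw [e]
  exact mul_mem (Wh_le_Jh (hy.cJ j hj)) hj

theorem InD.nQJ {y : G} (hy : InD σ x t V y) {j : G} (hj : j ∈ QJ σ x V) : y * j * y⁻¹ ∈ QJ σ x V := by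
  have : QJ σ x V ≤ (QJ σ x V).comap (MulAut.conj y).toMonoidHom := by
    refine sup_le (fun q hq => ?_) (fun j hj => ?_)
    · show y * q * y⁻¹ ∈ QJ σ x V
      have e : y * q * y⁻¹ = (y * q * y⁻¹ * q⁻¹) * q := by group
      rw [e]
      exact mul_mem ((le_sup_right : Jh V ≤ _) (hy.cQ q hq)) ((le_sup_left : Q2 σ x ≤ _) hq)
    · show y * j * y⁻¹ ∈ QJ σ x V
      exact (le_sup_right : Jh V ≤ _) (hy.nJ hj)
  simpa only [_root_.MulEquiv.toMonoidHom_eq_coe, _root_.Subgroup.mem_comap, _root_.MonoidHom.coe_coe, _root_.MulAut.conj_apply] using this hj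

theorem InD.mul {y z : G} (hy : InD σ x t V y) (hz : InD σ x t V z) : InD σ x t V (y * z) where
  cW w hw := by rw [mul_assoc, hz.cW w hw, ← mul_assoc, hy.cW w hw, mul_assoc]
  cJ j hj := by
    have e : y * z * j * (y * z)⁻¹ * j⁻¹ = y * (z * j * z⁻¹ * j⁻¹) * y⁻¹ * (y * j * y⁻¹ * j⁻¹) := by group
    rw [e, hy.cW _ (hz.cJ j hj), mul_inv_cancel_right]
    exact mul_mem (hz.cJ j hj) (hy.cJ j hj)
  cQ q hq := by
    have e : y * z * q * (y * z)⁻¹ * q⁻¹ = y * (z * q * z⁻¹ * q⁻¹) * y⁻¹ * (y * q * y⁻¹ * q⁻¹) := by group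
    rw [e]
    exact mul_mem (hy.nJ (hz.cQ q hq)) (hy.cQ q hq)
  ct := by
    have e : y * z * t * (y * z)⁻¹ * t⁻¹ = y * (z * t * z⁻¹ * t⁻¹) * y⁻¹ * (y * t * y⁻¹ * t⁻¹) := by group
    rw [e]
    exact mul_mem (hy.nQJ hz.ct) hy.ct

theorem InD.one : InD σ x t V (1 : G) where
  cW w _ := by simp
  cJ j _ := by simp [one_mem]
  cQ q _ := by simp [one_mem]
  ct := by simp [one_mem]

theorem InD.pow {y : G} (hy : InD σ x t V y) (n : ℕ) : InD σ x t V (y ^ n) := by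
  induction n with
  | zero => rw [pow_zero]; exact InD.one
  | succ n ih => rw [pow_succ]; exact ih.mul hy

variable (σ x t V)

/-- `D̂` -/
def Dh [Finite G] : Subgroup G where
  carrier := {y | InD σ x t V y}
  mul_mem' hy hz := InD.mul hy hz
  one_mem' := InD.one
  inv_mem' {y} hy := by
    have h1 : y ^ (orderOf y - 1) * y = 1 := by
      rw [← pow_succ, Nat.sub_add_cancel (orderOf_pos y), pow_orderOf_eq_one]
    rw [← eq_inv_of_mul_eq_one_left h1]
    exact InD.pow hy _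

variable {σ x t V}

variable [Finite G]

theorem mem_Dh {y : G} : y ∈ Dh σ x t V ↔ InD σ x t V y := Iff.rfl

omit env in
include L in
/-- generators suffice for `cQ` -/
theorem cQ_of {y : G} (h : ∀ k ∈ ([1, 2, 3, 4, 5] : List (ZMod 12)), ∀ a, Ok σ k a →
    y * x k a * y⁻¹ * (x k a)⁻¹ ∈ Jh V) : ∀ q ∈ Q2 σ x, y * q * y⁻¹ * q⁻¹ ∈ Jh V := by
  let K : Subgroup G :=
    { carrier := {q | q ∈ Subgroup.normalizer (Jh V : Set G) ∧ y * q * y⁻¹ * q⁻¹ ∈ Jh V}
      mul_mem' := by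
        rintro q r ⟨q1, q2⟩ ⟨r1, r2⟩
        refine ⟨mul_mem q1 r1, ?_⟩
        have e : y * (q * r) * y⁻¹ * (q * r)⁻¹ = (y * q * y⁻¹ * q⁻¹) * (q * (y * r * y⁻¹ * r⁻¹) * q⁻¹) := by group
        rw [e]
        exact mul_mem q2 (norm_conj q1 r2)
      one_mem' := ⟨one_mem _, by simp [one_mem]⟩
      inv_mem' := by
        rintro q ⟨q1, q2⟩
        refine ⟨inv_mem q1, ?_⟩
        have e : y * q⁻¹ * y⁻¹ * q⁻¹⁻¹ = q⁻¹ * (y * q * y⁻¹ * q⁻¹)⁻¹ * q := by group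
        rw [e]
        exact norm_conj' q1 (inv_mem q2) }
  have hK : Q2 σ x ≤ K := by
    rw [Q2_eq]
    exact gens_le (S := {j | j ∈ [1, 2, 3, 4, 5]}) fun k hk a ha => ⟨V_norm L hk (L.le k a ha), h k hk a ha⟩
  exact fun q hq => (hK hq).2

include L in
theorem Jh_le_Dh : Jh V ≤ Dh σ x t V := by
  intro y hy
  refine ⟨fun w hw => Jh_comm L hy (Wh_le_Jh hw), fun j hj => ?_, fun q hq => ?_, ?_⟩
  · rw [Jh_comm L hy hj, mul_inv_cancel_right, mul_inv_cancel]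
    exact one_mem _
  · have e : y * q * y⁻¹ * q⁻¹ = y * (q * y⁻¹ * q⁻¹) := by group
    rw [e]
    exact mul_mem hy (norm_conj (Q2_norm L hq) (inv_mem hy))
  · have e : y * t * y⁻¹ * t⁻¹ = y * (t * y⁻¹ * t⁻¹) := by group
    rw [e]
    exact (le_sup_right : Jh V ≤ _) (mul_mem hy (t_Jh L (inv_mem hy)))

include env L in
theorem V_le_Dh {k : ZMod 12} (hk : k ∈ ([1, 2, 3, 4, 5] : List (ZMod 12))) : V k ≤ Dh σ x t V := by
  rcases five hk with hk' | hk'
  swap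
  · exact fun y hy => Jh_le_Dh L (V_Jh hk' hy)
  intro y hy
  refine ⟨fun w hw => V_cW L hk hy hw, fun j hj => V_cJ L hk hy hj, cQ_of L fun l hl a ha => ?_, ?_⟩
  · rcases five hl with hl' | hl'
    swap
    · exact Wh_le_Jh (V_cJ L hk hy (xJ hl' ha L))
    have same : ∀ {k : ZMod 12}, y ∈ V k → Ok σ k a → y * x k a * y⁻¹ * (x k a)⁻¹ ∈ Jh V := by
      intro k hy ha
      rw [V_comm L hy (L.le k a ha), mul_inv_cancel_right, mul_inv_cancel]
      exact one_mem _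
    rcases hk' with rfl | rfl <;> rcases hl' with rfl | rfl
    · exact same hy ha
    · have := inv_mem (L.h4' 1 (by decide) a y hy)
      rw [commutatorElement_inv, commutatorElement_def] at this
      exact this
    · have := inv_mem (L.h4 1 (by decide) a y hy)
      rw [commutatorElement_inv, commutatorElement_def] at this
      exact this
    · exact same hy ha
  · obtain ⟨b, hb, e⟩ := L.br k y hy
    have e2 : y * t * y⁻¹ * t⁻¹ = (x k b)⁻¹ := by rw [← e, commutatorElement_def]; group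
    rw [e2]
    refine (le_sup_left : Q2 σ x ≤ _) (inv_mem ?_)
    rw [Q2_eq]
    exact mem_gl hk hb

include env L in
theorem Q2_le_Dh : Q2 σ x ≤ Dh σ x t V := by
  rw [Q2_eq]
  exact gens_le (S := {j | j ∈ [1, 2, 3, 4, 5]}) fun k hk a ha => V_le_Dh env L hk (L.le k a ha)

include env L in
theorem QJ_le_Dh : QJ σ x V ≤ Dh σ x t V := sup_le (Q2_le_Dh env L) (Jh_le_Dh L)

include env L in
/-- `D̂` centralises `Q₂Ĵ/Ĵ` -/
theorem InD.cQJ {y : G} (hy : InD σ x t V y) {o : G} (ho : o ∈ QJ σ x V) : y * o * y⁻¹ * o⁻¹ ∈ Jh V := by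
  obtain ⟨q, hq, j, hj, rfl⟩ := mem_sup_norm (fun q hq j hj => norm_conj (Q2_norm L hq) hj) ho
  have e : y * (q * j) * y⁻¹ * (q * j)⁻¹ = (y * q * y⁻¹ * q⁻¹) * (q * (y * j * y⁻¹ * j⁻¹) * q⁻¹) := by group
  rw [e]
  exact mul_mem (hy.cQ q hq) (norm_conj (Q2_norm L hq) (Wh_le_Jh (hy.cJ j hj)))

/-! ### `z₆` -/

include env L in
theorem g_V {r : ZMod 12} (hr : r = 2 ∨ r = 3 ∨ r = 4) {y : G} (hy : y ∈ V r) :
    x 6 1 * y * (x 6 1)⁻¹ * y⁻¹ ∈ V 4 := by
  have g6 : x 6 1 ∈ V 6 := L.le 6 1 (ok_one σ 6)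
  rcases hr with rfl | rfl | rfl
  · have := inv_mem (L.l4 2 (by decide) y hy _ g6)
    rw [commutatorElement_inv, commutatorElement_def] at this
    exact this
  · rw [← L.c3 3 y hy _ g6]
    have : y * x 6 1 * (x 6 1)⁻¹ * y⁻¹ = 1 := by group
    rw [this]
    exact one_mem _
  · rw [← L.l2 4 (by decide) y hy _ g6]
    have : y * x 6 1 * (x 6 1)⁻¹ * y⁻¹ = 1 := by group
    rw [this]
    exact one_mem _

include env L in
theorem g_Wh {y : G} (hy : y ∈ Wh V) : x 6 1 * y * (x 6 1)⁻¹ ∈ Wh V := by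
  refine Wh_conj_of (fun r hr y hy => ?_) hy
  have e : x 6 1 * y * (x 6 1)⁻¹ = (x 6 1 * y * (x 6 1)⁻¹ * y⁻¹) * y := by group
  rw [e]
  exact mul_mem (V_Wh (Or.inr rfl) (g_V env L (by rcases hr with h | h <;> simp only [h, _root_.true_or, _root_.or_true]) hy)) (V_Wh hr hy)

include env L in
theorem g_Jh {y : G} (hy : y ∈ Jh V) : x 6 1 * y * (x 6 1)⁻¹ ∈ Jh V := by
  refine Jh_conj_of (fun r hr y hy => ?_) hy
  have e : x 6 1 * y * (x 6 1)⁻¹ = (x 6 1 * y * (x 6 1)⁻¹ * y⁻¹) * y := by group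
  rw [e]
  exact mul_mem (V_Jh (Or.inr (Or.inr rfl)) (g_V env L hr hy)) (V_Jh hr hy)

include env in
theorem g_inv : (x 6 1)⁻¹ = x 6 1 := xinv env (ok_one σ 6)

include env in
theorem g_Q2 {y : G} (hy : y ∈ Q2 σ x) : x 6 1 * y * (x 6 1)⁻¹ ∈ Q2 σ x := by
  rw [Q2_eq] at *
  exact conj_gl env.hex (by decide) (ok_one σ 6) hy

include env in
theorem g_t : x 6 1 * t = t * x 6 1 := (env.tx 6 1 (ok_one σ 6)).symm

include env L in
theorem g_QJ {y : G} (hy : y ∈ QJ σ x V) : x 6 1 * y * (x 6 1)⁻¹ ∈ QJ σ x V := by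
  have : QJ σ x V ≤ (QJ σ x V).comap (MulAut.conj (x 6 1)).toMonoidHom := by
    refine sup_le (fun q hq => ?_) (fun j hj => ?_)
    · exact (le_sup_left : Q2 σ x ≤ _) (g_Q2 env hq)
    · exact (le_sup_right : Jh V ≤ _) (g_Jh env L hj)
  simpa only [_root_.MulEquiv.toMonoidHom_eq_coe, _root_.Subgroup.mem_comap, _root_.MonoidHom.coe_coe, _root_.MulAut.conj_apply] using this hy

include env L in
theorem g_Dh {y : G} (hy : y ∈ Dh σ x t V) : x 6 1 * y * (x 6 1)⁻¹ ∈ Dh σ x t V := by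
  have gi := g_inv env
  have gg : x 6 1 * x 6 1 = 1 := xx env (ok_one σ 6)
  have nW : ∀ w ∈ Wh V, (x 6 1)⁻¹ * w * x 6 1 ∈ Wh V := fun w hw => by
    have := g_Wh env L hw
    rwa [gi] at this ⊢
  have nJ : ∀ w ∈ Jh V, (x 6 1)⁻¹ * w * x 6 1 ∈ Jh V := fun w hw => by
    have := g_Jh env L hw
    rwa [gi] at this ⊢
  have nQ : ∀ w ∈ Q2 σ x, (x 6 1)⁻¹ * w * x 6 1 ∈ Q2 σ x := fun w hw => by
    have := g_Q2 env hw
    rwa [gi] at this ⊢
  refine ⟨fun w hw => ?_, fun j hj => ?_, fun q hq => ?_, ?_⟩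
  · calc x 6 1 * y * (x 6 1)⁻¹ * w = x 6 1 * (y * ((x 6 1)⁻¹ * w * x 6 1)) * (x 6 1)⁻¹ := by group
      _ = x 6 1 * (((x 6 1)⁻¹ * w * x 6 1) * y) * (x 6 1)⁻¹ := by rw [hy.cW _ (nW w hw)]
      _ = _ := by group
  · have e : x 6 1 * y * (x 6 1)⁻¹ * j * (x 6 1 * y * (x 6 1)⁻¹)⁻¹ * j⁻¹ =
        x 6 1 * (y * ((x 6 1)⁻¹ * j * x 6 1) * y⁻¹ * ((x 6 1)⁻¹ * j * x 6 1)⁻¹) * (x 6 1)⁻¹ := by group
    rw [e]
    exact g_Wh env L (hy.cJ _ (nJ j hj))
  · have e : x 6 1 * y * (x 6 1)⁻¹ * q * (x 6 1 * y * (x 6 1)⁻¹)⁻¹ * q⁻¹ =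
        x 6 1 * (y * ((x 6 1)⁻¹ * q * x 6 1) * y⁻¹ * ((x 6 1)⁻¹ * q * x 6 1)⁻¹) * (x 6 1)⁻¹ := by group
    rw [e]
    exact g_Jh env L (hy.cQ _ (nQ q hq))
  · have ht : (x 6 1)⁻¹ * t * x 6 1 = t := by rw [mul_assoc, ← g_t env, inv_mul_cancel_left]
    have e : x 6 1 * y * (x 6 1)⁻¹ * t * (x 6 1 * y * (x 6 1)⁻¹)⁻¹ * t⁻¹ =
        x 6 1 * (y * ((x 6 1)⁻¹ * t * x 6 1) * y⁻¹ * ((x 6 1)⁻¹ * t * x 6 1)⁻¹) * (x 6 1)⁻¹ := by
      rw [ht]
      calc x 6 1 * y * (x 6 1)⁻¹ * t * (x 6 1 * y * (x 6 1)⁻¹)⁻¹ * t⁻¹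
          = x 6 1 * y * ((x 6 1)⁻¹ * t * x 6 1) * y⁻¹ * (x 6 1)⁻¹ * t⁻¹ := by group
        _ = x 6 1 * y * t * y⁻¹ * ((x 6 1)⁻¹ * t⁻¹) := by rw [ht]; group
        _ = x 6 1 * y * t * y⁻¹ * (t⁻¹ * (x 6 1)⁻¹) := by
          have : (x 6 1)⁻¹ * t⁻¹ = t⁻¹ * (x 6 1)⁻¹ := by rw [← mul_inv_rev, ← mul_inv_rev, g_t env]
          rw [this]
        _ = _ := by group
    rw [e, ht]
    exact g_QJ env L hy.ct

/-! ### `D̂ ∩ C(t) = Q₂` -/

include env L in
/-- elements of `D̂ ∩ C(t)` have order dividing `8` -/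
theorem pow_eight {y : G} (hy : InD σ x t V y) (ht : y * t = t * y) : y ^ 8 = 1 := by
  -- `y²` centralises `Ĵ`
  have h2 : ∀ j ∈ Jh V, (y * y) * j = j * (y * y) := by
    intro j hj
    set w := y * j * y⁻¹ * j⁻¹ with hw
    have hwW : w ∈ Wh V := hy.cJ j hj
    have hw2 : w * w = 1 := Jh_sq L (Wh_le_Jh hwW)
    have e1 : y * j = w * j * y := by rw [hw]; group
    calc y * y * j = y * (y * j) := by group
      _ = (y * w) * j * y := by rw [e1]; group
      _ = w * (y * j) * y := by rw [hy.cW w hwW]; group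
      _ = (w * w) * j * y * y := by rw [e1]; group
      _ = _ := by rw [hw2]; group
  have hyy := hy.mul hy
  -- `y⁴` centralises `Q₂`
  have h4 : ∀ q ∈ Q2 σ x, (y * y) * (y * y) * q = q * ((y * y) * (y * y)) := by
    intro q hq
    set z := y * y with hz
    set c := z * q * z⁻¹ * q⁻¹ with hc
    have hcJ : c ∈ Jh V := hyy.cQ q hq
    have hc2 : c * c = 1 := Jh_sq L hcJ
    have e1 : z * q = c * q * z := by rw [hc]; group
    calc z * z * q = z * (z * q) := by group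
      _ = (z * c) * q * z := by rw [e1]; group
      _ = c * (z * q) * z := by rw [h2 c hcJ]; group
      _ = (c * c) * q * z * z := by rw [e1]; group
      _ = _ := by rw [hc2]; group
  have ht2 : (y * y) * (y * y) * t = t * ((y * y) * (y * y)) :=
    mul_comm_of (mul_comm_of ht ht) (mul_comm_of ht ht)
  have hW : ∀ c ∈ Ws σ x, c * c = 1 := by
    intro c hc
    rw [Ws_eq] at hc
    refine Jh_sq L (V := V) (gJ L (gl_mono (by decide) hc))
  have e8 : y ^ 8 = ((y * y) * (y * y)) * ((y * y) * (y * y)) := by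
    simp only [← sq, ← pow_mul]
    norm_num
  rw [e8]
  rcases env.c0 _ ht2 h4 with hc | hc
  · exact hW _ hc
  · have := hW _ hc
    calc y * y * (y * y) * (y * y * (y * y)) = (t * t) * (y * y * (y * y)) * (y * y * (y * y)) := by
          rw [env.tt]; group
      _ = t * (t * (y * y * (y * y))) * (y * y * (y * y)) := by group
      _ = t * ((y * y * (y * y)) * t) * (y * y * (y * y)) := by rw [ht2]
      _ = t * (y * y * (y * y)) * (t * (y * y * (y * y))) := by group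
      _ = 1 := this

end D

end Cfsg.Agent.TriTwo.Grow2
end

-- part: TriTwo/Grow2Main
section
/-!
# S1778, type `³D₄(2)`, piece [E2]: `Env` and `Lev` imply `ShortFour`
-/

set_option autoImplicit false
set_option linter.unusedSectionVars false

namespace Cfsg.Agent.TriTwo.Grow2

open Cfsg.Agent.StdRank2.Hex Cfsg.Agent.SplitTwo
open Cfsg.Agent.TriTwo
open scoped commutatorElement

section Main

variable {E : Type*} [Field E] {σ : E ≃+* E} {G : Type*} [Group G] {x : ZMod 12 → E → G} {t : G}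
  {V : ZMod 12 → Subgroup G} (env : Env σ x t) (L : Lev σ x t V) [Finite G]

include env in
theorem x21_ne : x 2 1 ≠ 1 := fun e => one_ne_zero (env.hex.inj 2 1 (ok_one σ 2) e)

include env in
theorem x41_ne : x 4 1 ≠ 1 := fun e => one_ne_zero (env.hex.inj 4 1 (ok_one σ 4) e)

include env L in
theorem two_D1 : IsPGroup 2 (Dh σ x t V ⊓ Subgroup.centralizer {t} : Subgroup G) := by
  rintro ⟨y, hy, hyt⟩
  refine ⟨3, ?_⟩
  have := pow_eight env L hy (Subgroup.mem_centralizer_singleton_iff.1 hyt)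
  exact Subtype.ext (by simpa only [_root_.Nat.reducePow, _root_.SubmonoidClass.coe_pow, _root_.OneMemClass.coe_one] using this)

include env L in
/-- `D̂ ∩ C(t) ≤ ⟨t⟩ U` -/
theorem D1_le_T {y : G} (hy : InD σ x t V y) (ht : y * t = t * y) : y ∈ Us σ x ∨ t * y ∈ Us σ x := by
  set D1 : Subgroup G := Dh σ x t V ⊓ Subgroup.centralizer {t} with hD1
  have memD1 : ∀ z, z ∈ D1 ↔ (InD σ x t V z ∧ z * t = t * z) := fun z => by
    rw [hD1, Subgroup.mem_inf, Subgroup.mem_centralizer_singleton_iff, mem_Dh]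
  have tD1 : IsPGroup 2 D1 := two_D1 env L
  have tU : IsPGroup 2 (Us σ x) := env.pf.two
  have tt2 : IsPGroup 2 (Subgroup.zpowers t) := by
    rintro ⟨z, hz⟩
    refine ⟨1, ?_⟩
    obtain ⟨k, rfl⟩ := Subgroup.mem_zpowers_iff.1 hz
    refine Subtype.ext ?_
    show (t ^ k) ^ (2 ^ 1) = 1
    rw [pow_one, ← zpow_natCast, ← zpow_mul, mul_comm, zpow_mul]
    have : t ^ ((2 : ℕ) : ℤ) = 1 := by rw [zpow_natCast, pow_two, env.tt]
    rw [this, one_zpow]
  have n1 : Us σ x ≤ Subgroup.normalizer ((Subgroup.zpowers t : Subgroup G) : Set G) := by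
    intro u hu
    rw [Subgroup.mem_normalizer_iff]
    have hc : Commute u t := (t_gens env hu).symm
    intro z
    constructor
    · rintro ⟨k, rfl⟩
      refine ⟨k, ?_⟩
      show t ^ k = u * t ^ k * u⁻¹
      rw [(hc.zpow_right k).eq, mul_inv_cancel_right]
    · rintro ⟨k, hk⟩
      refine ⟨k, ?_⟩
      have hk' : t ^ k = u * z * u⁻¹ := hk
      show t ^ k = z
      have : z = u⁻¹ * t ^ k * u := by rw [hk']; group
      rw [this, mul_assoc, (hc.zpow_right k).symm.eq, inv_mul_cancel_left]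
  have tUt : IsPGroup 2 (Us σ x ⊔ Subgroup.zpowers t : Subgroup G) := tU.to_sup_of_normal_right' tt2 n1
  have nU : Us σ x ≤ Subgroup.normalizer (D1 : Set G) := by
    rw [Us_eq]
    refine gens_le (S := {j | j ∈ [1, 2, 3, 4, 5, 6]}) fun k hk a ha => ?_
    have key : ∀ k ∈ ([1, 2, 3, 4, 5, 6] : List (ZMod 12)), k ∈ ([1, 2, 3, 4, 5] : List (ZMod 12)) ∨ k = 6 := by
      decide
    rcases key k hk with h5 | rfl
    · refine Subgroup.le_normalizer ((memD1 _).2 ⟨V_le_Dh env L h5 (L.le k a ha), (env.tx k a ha).symm⟩)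
    · rcases even_val env (k := 6) (by decide) ha with e | e
      · rw [e]; exact one_mem _
      · rw [e]
        refine mem_norm_of_invol (xx env (ok_one σ 6)) fun j hj => ?_
        obtain ⟨j1, j2⟩ := (memD1 j).1 hj
        refine (memD1 _).2 ⟨g_Dh env L j1, ?_⟩
        exact mul_comm_of (mul_comm_of (g_t env) j2) (by
          have := g_t env
          rw [inv_mul_eq_iff_eq_mul, ← mul_assoc, this, mul_inv_cancel_right])
  have nt : Subgroup.zpowers t ≤ Subgroup.normalizer (D1 : Set G) := by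
    rw [Subgroup.zpowers_le]
    refine mem_norm_of_invol env.tt fun j hj => ?_
    obtain ⟨j1, j2⟩ := (memD1 j).1 hj
    rw [← j2, mul_inv_cancel_right]
    exact hj
  have tP : IsPGroup 2 ((Us σ x ⊔ Subgroup.zpowers t) ⊔ D1 : Subgroup G) :=
    tUt.to_sup_of_normal_right' tD1 (sup_le nU nt)
  refine env.syl _ tP (fun g hg => ?_) ?_ ?_ y ?_
  · have : (Us σ x ⊔ Subgroup.zpowers t) ⊔ D1 ≤ Subgroup.centralizer {t} := by
      refine sup_le (sup_le (fun u hu => ?_) ?_) inf_le_right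
      · rw [Subgroup.mem_centralizer_singleton_iff]; exact (t_gens env hu).symm
      · rw [Subgroup.zpowers_le, Subgroup.mem_centralizer_singleton_iff]
    exact Subgroup.mem_centralizer_singleton_iff.1 (this hg)
  · exact ((le_sup_right : Subgroup.zpowers t ≤ Us σ x ⊔ Subgroup.zpowers t).trans le_sup_left)
      (Subgroup.mem_zpowers t)
  · exact (le_sup_left : Us σ x ≤ Us σ x ⊔ Subgroup.zpowers t).trans le_sup_left
  · exact (le_sup_right : D1 ≤ _) ((memD1 y).2 ⟨hy, ht⟩)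

include env L in
/-- `D̂ ∩ C(t) = Q₂` -/
theorem D1_le {y : G} (hy : InD σ x t V y) (ht : y * t = t * y) : y ∈ Q2 σ x := by
  have hsplit : ∀ u ∈ Us σ x, ∃ z ∈ Q2 σ x, u = z ∨ u = x 6 1 * z := by
    intro u hu
    rw [Us_eq] at hu
    obtain ⟨a, ha, z, hz, rfl⟩ := split_gl env.hex (L := [1, 2, 3, 4, 5]) (k := 6) (by decide)
      (gl_mono (by decide) hu)
    refine ⟨z, by rw [Q2_eq]; exact hz, ?_⟩
    rcases even_val env (k := 6) (by decide) ha with e | e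
    · left; rw [e, one_mul]
    · right; rw [e]
  have qW : ∀ z ∈ Q2 σ x, ∀ w ∈ Wh V, z * w = w * z := fun z hz w hw => (Q2_le_Dh env L hz : InD σ x t V z).cW w hw
  rcases D1_le_T env L hy ht with hu | hu
  · obtain ⟨z, hz, e | e⟩ := hsplit y hu
    · rw [e]; exact hz
    · exfalso
      have hw : x 2 1 ∈ Wh V := V_Wh (Or.inl rfl) (L.le 2 1 (ok_one σ 2))
      have e1 := hy.cW _ hw
      rw [e, mul_assoc, qW z hz _ hw, ← mul_assoc, ← mul_assoc] at e1
      have e2 : x 6 1 * x 2 1 = x 2 1 * x 6 1 := mul_right_cancel e1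
      have e3 := env.hex.commL4 (k := 2) (by decide) (map_one σ) (map_one σ)
      have e4 : ⁅x 2 1, x (2 + 4) 1⁆ = 1 := commutatorElement_eq_one_iff_mul_comm.2 e2.symm
      rw [e4] at e3
      have e5 : x 4 1 = 1 := by
        have : x (2 + 2) (1 * 1) = x 4 1 := by rw [mul_one]; rfl
        rw [← this]
        exact e3.symm
      exact x41_ne env e5
  · exfalso
    obtain ⟨v, hv, ev⟩ := L.onto 2 1 (ok_one σ 2)
    have hw : v ∈ Wh V := V_Wh (Or.inl rfl) hv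
    have e0 : t * v * t⁻¹ = x 2 1 * v := by rw [← ev, commutatorElement_def]; group
    have e1 : (t * y) * v * (t * y)⁻¹ = x 2 1 * v := by
      have := hy.cW v hw
      calc (t * y) * v * (t * y)⁻¹ = t * (y * v) * y⁻¹ * t⁻¹ := by group
        _ = t * (v * y) * y⁻¹ * t⁻¹ := by rw [this]
        _ = t * v * t⁻¹ := by group
        _ = _ := e0
    obtain ⟨z, hz, e | e⟩ := hsplit _ hu
    · rw [e, qW z hz v hw, mul_inv_cancel_right] at e1
      have : x 2 1 = 1 := by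
        have e2 := e1.symm
        rwa [mul_eq_right] at e2
      exact x21_ne env this
    · have e2 : (x 6 1 * z) * v * (x 6 1 * z)⁻¹ = x 6 1 * v * (x 6 1)⁻¹ := by
        calc (x 6 1 * z) * v * (x 6 1 * z)⁻¹ = x 6 1 * (z * v) * z⁻¹ * (x 6 1)⁻¹ := by group
          _ = x 6 1 * (v * z) * z⁻¹ * (x 6 1)⁻¹ := by rw [qW z hz v hw]
          _ = _ := by group
      rw [e, e2] at e1
      have e3 : x 6 1 * v * (x 6 1)⁻¹ * v⁻¹ = x 2 1 := by rw [e1, mul_inv_cancel_right]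
      have h4 := g_V env L (Or.inl rfl) hv
      rw [e3] at h4
      obtain ⟨b, hb, e5⟩ := L.fix 4 _ h4 (env.tx 2 1 (ok_one σ 2)).symm
      have : x 2 1 = 1 := by
        refine disj_of_opps env.hex (L := [2]) (M := [4, 3]) (by decide) (mem_gl (by decide) (ok_one σ 2)) ?_
        rw [e5]
        exact mem_gl (by decide) hb
      exact x21_ne env this

include env L in
/-- the kernel of `y ↦ ⁅y, t⁆` modulo `Ĵ` -/
theorem ker {y : G} (hy : InD σ x t V y) (hj : y * t * y⁻¹ * t⁻¹ ∈ Jh V) : ∃ o ∈ QJ σ x V, o⁻¹ * y ∈ Jh V := by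
  set j := y * t * y⁻¹ * t⁻¹ with hjd
  have e1 : j * t = y * t * y⁻¹ := by rw [hjd]; group
  have e2 : (j * t) * (j * t) = 1 := by
    rw [e1]
    calc y * t * y⁻¹ * (y * t * y⁻¹) = y * (t * t) * y⁻¹ := by group
      _ = 1 := by rw [env.tt]; group
  have e3 : j * t = t * j := by
    have h1 : (j * t)⁻¹ = j * t := inv_eq_of_mul_eq_one_left e2
    rw [mul_inv_rev, Jh_inv L hj, tinv env] at h1
    exact h1.symm
  obtain ⟨-, v, hv, ev⟩ := J_fix env L hj e3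
  have vi := Jh_inv L hv
  have ji := Jh_inv L hj
  -- `v t v⁻¹ = j t`
  have e4 : v * t * v⁻¹ = j * t := by
    have h1 : (t * v * t⁻¹ * v⁻¹)⁻¹ = j⁻¹ := by rw [ev]
    rw [ji] at h1
    have h2 : v * t * v⁻¹ * t⁻¹ = j := by rw [← h1]; group
    rw [← h2]; group
  have e5 : v⁻¹ * y * t = t * (v⁻¹ * y) := by
    calc v⁻¹ * y * t = v⁻¹ * (y * t * y⁻¹) * y := by group
      _ = v⁻¹ * (v * t * v⁻¹) * y := by rw [← e1, ← e4]
      _ = _ := by group
  have hvD : v ∈ Dh σ x t V := Jh_le_Dh L hv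
  have h6 : InD σ x t V (v⁻¹ * y) := mul_mem (inv_mem hvD) (mem_Dh.2 hy)
  have h7 := D1_le env L h6 e5
  refine ⟨v * (v⁻¹ * y), mul_mem ((le_sup_right : Jh V ≤ _) hv) ((le_sup_left : Q2 σ x ≤ _) h7), ?_⟩
  have : (v * (v⁻¹ * y))⁻¹ * y = 1 := by group
  rw [this]
  exact one_mem _

include env L in
/-- elements of `Q₂Ĵ` -/
theorem QJ_form {o : G} (ho : o ∈ QJ σ x V) : ∃ a c : E, ∃ j ∈ Jh V, o = x 1 a * x 5 c * j := by
  obtain ⟨q, hq, j, hj, rfl⟩ := mem_sup_norm (fun q hq j hj => norm_conj (Q2_norm L hq) hj) ho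
  rw [Q2_eq] at hq
  obtain ⟨a, -, z, hz, rfl⟩ := split_gl env.hex (L := [5, 2, 3, 4]) (k := 1) (by decide) (gl_mono (by decide) hq)
  obtain ⟨c, -, w, hw, rfl⟩ := split_gl env.hex (L := [2, 3, 4]) (k := 5) (by decide) hz
  exact ⟨a, c, w * j, mul_mem (gJ L hw) hj, by group⟩

include env L in
/-- `x₁(a) x₅(c) ∈ Ĵ` forces `c = 0` -/
theorem QJ_five {a c : E} (h : x 1 a * x 5 c ∈ Jh V) : x 5 c = 1 := by
  have o1 : Ok σ (1 : ZMod 12) a := ok_odd (by decide) a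
  have o5 : Ok σ (5 : ZMod 12) c := ok_odd (by decide) c
  have ht : (x 1 a * x 5 c) * t = t * (x 1 a * x 5 c) := mul_comm_of (env.tx 1 a o1).symm (env.tx 5 c o5).symm
  obtain ⟨h1, -⟩ := J_fix env L h ht
  refine disj_of_opps env.hex (L := [5]) (M := [1, 2, 3, 4]) (by decide) (mem_gl (by decide) o5) ?_
  have e : x 5 c = (x 1 a)⁻¹ * (x 1 a * x 5 c) := by group
  rw [e]
  exact mul_mem (inv_mem (mem_gl (by decide) o1)) (gl_mono (by decide) h1)

include env L in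
theorem comm_g1 (b : E) : ∃ j ∈ Jh V, x 6 1 * x 1 b * (x 6 1)⁻¹ * (x 1 b)⁻¹ = x 5 b * j := by
  have e1 := env.hex.commS5 (k := 1) (by decide) b (t := 1) (map_one σ)
  have e2 : x 6 1 * x 1 b * (x 6 1)⁻¹ * (x 1 b)⁻¹ = ⁅x 1 b, x (1 + 5) 1⁆⁻¹ := by
    rw [commutatorElement_inv, commutatorElement_def]
    rfl
  rw [e2, e1]
  have n1 : σ (nrm σ b) = nrm σ b := nrm_fix env.hex.cube b
  have j2 : x (1 + 1) (1 * nrm σ b) ∈ Jh V :=
    xJ (Or.inl rfl) (ok_of_fix _ (by rw [one_mul]; exact n1)) L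
  have j3 : x (1 + 2) (1 * shp σ b) ∈ Jh V := xJ (Or.inr (Or.inl rfl)) (ok_odd (by decide) _) L
  have j4 : x (1 + 3) (1 ^ 2 * nrm σ b) ∈ Jh V :=
    xJ (Or.inr (Or.inr rfl)) (ok_of_fix _ (by rw [one_pow, one_mul]; exact n1)) L
  have e5 : x (1 + 4) (1 * b) = x 5 b := by rw [one_mul]; rfl
  rw [e5]
  refine ⟨(x (1 + 1) (1 * nrm σ b) * x (1 + 2) (1 * shp σ b) * x (1 + 3) (1 ^ 2 * nrm σ b))⁻¹,
    inv_mem (mul_mem (mul_mem j2 j3) j4), ?_⟩
  rw [mul_inv_rev, xinv env (k := 5) (ok_odd (by decide) b)]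

include env L in
/-- `⁅V₁, V₅⁆ ≤ U₅Ĵ` -/
theorem comm_five {v w : G} (hv : v ∈ V 1) (hw : w ∈ V 5) : ∃ c : E, ∃ j ∈ Jh V, ⁅v, w⁆ = x 5 c * j := by
  have o1 : ∀ a : E, Ok σ (1 : ZMod 12) a := fun a => ok_odd (by decide) a
  have o5 : ∀ a : E, Ok σ (5 : ZMod 12) a := fun a => ok_odd (by decide) a
  have Q1' : ∀ a : E, x 1 a ∈ Q2 σ x := fun a => by rw [Q2_eq]; exact mem_gl (by decide) (o1 a)
  have Q5' : ∀ a : E, x 5 a ∈ Q2 σ x := fun a => by rw [Q2_eq]; exact mem_gl (by decide) (o5 a)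
  have tN := t_norm env L
  have gN : x 6 1 ∈ Subgroup.normalizer (Jh V : Set G) :=
    mem_norm_of_invol (xx env (ok_one σ 6)) fun _ hj => g_Jh env L hj
  obtain ⟨u, ⟨c, -, rfl⟩, hj⟩ := comm_mem_mod (t := t) (g := x 6 1) (D := Dh σ x t V) (Om := QJ σ x V) (V1 := V 1)
    (V5 := V 5) (U1 := rt env.hex 1) (U5 := rt env.hex 5) (J := Jh V) (Jh_le_Dh L) (QJ_le_Dh env L)
    (fun y hy o ho => by
      have h1 := InD.cQJ env L hy ho
      have h2 : (y * o)⁻¹ * (o * y) = (y * o)⁻¹ * (y * o * y⁻¹ * o⁻¹)⁻¹ * (y * o) := by group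
      rw [h2]
      have nyo : y * o ∈ Dh σ x t V := mul_mem hy (QJ_le_Dh env L ho)
      have := InD.nJ (inv_mem nyo : (y * o)⁻¹ ∈ Dh σ x t V) (inv_mem h1)
      rwa [inv_inv] at this)
    (fun y hy j hj => InD.nJ hy hj)
    (fun j hj => norm_conj tN hj) (fun j hj => norm_conj' tN hj)
    (fun j hj => norm_conj gN hj) (fun j hj => norm_conj' gN hj)
    (fun y hy => InD.ct hy)
    (fun y hy h => by
      refine ker env L hy ?_
      -- `(y t)⁻¹ (t y) ∈ J`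
      have h2 : y * t * y⁻¹ * t⁻¹ = (t * y) * ((y * t)⁻¹ * (t * y))⁻¹ * (t * y)⁻¹ := by group
      rw [h2]
      have h3 := norm_conj tN (InD.nJ hy (inv_mem h))
      have h4 : t * y * ((y * t)⁻¹ * (t * y))⁻¹ * (t * y)⁻¹ = t * (y * ((y * t)⁻¹ * (t * y))⁻¹ * y⁻¹) * t⁻¹ := by group
      rw [h4]
      exact h3)
    (V_le_Dh env L (by decide)) (V_le_Dh env L (by decide))
    (by rintro _ ⟨a, -, rfl⟩; exact (le_sup_left : Q2 σ x ≤ _) (Q1' a))
    (by rintro _ ⟨a, -, rfl⟩; exact (le_sup_left : Q2 σ x ≤ _) (Q5' a))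
    (by
      rintro _ ⟨a, ha, rfl⟩
      obtain ⟨v, hv, e⟩ := L.onto 5 a ha
      refine ⟨v, hv, ?_⟩
      rw [← xinv env ha, ← e, commutatorElement_def]
      group)
    (by
      intro v hv
      obtain ⟨b, hb, e⟩ := L.br 1 v hv
      refine ⟨b, hb, ?_⟩
      rw [← xinv env hb, ← e, commutatorElement_def]
      group)
    (fun v hv v' hv' => V_comm L hv hv') (g_t env) (fun y hy => g_Dh env L hy)
    (fun v hv => (L.c1 5 v hv _ (L.le 6 1 (ok_one σ 6))).symm)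
    (by
      rintro _ ⟨a, -, rfl⟩
      obtain ⟨j, hj, e⟩ := comm_g1 env L a
      refine ⟨x 5 a, ⟨a, o5 a, rfl⟩, ?_⟩
      rw [e, mul_inv_rev, inv_mul_cancel_right]
      exact inv_mem hj)
    (by
      intro o ho h
      obtain ⟨a, c, j, hj, rfl⟩ := QJ_form env L ho
      obtain ⟨j', hj', e⟩ := comm_g1 env L a
      -- the commutator of `g` and `x₁(a) x₅(c) j`
      have gc : x 6 1 * x 5 c = x 5 c * x 6 1 := cm env.hex (by decide) (ok_one σ 6) (o5 c)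
      set g := x 6 1 with hg
      set p := x 1 a with hp
      set q := x 5 c with hq
      have hpN : p ∈ Subgroup.normalizer (Jh V : Set G) := Q2_norm L (Q1' a)
      have hqN : q ∈ Subgroup.normalizer (Jh V : Set G) := Q2_norm L (Q5' c)
      have hjN : j ∈ Subgroup.normalizer (Jh V : Set G) := Subgroup.le_normalizer hj
      have h1 : g * (p * q * j) * g⁻¹ * (p * q * j)⁻¹ ∈ Jh V := by
        have hN : g * (p * q * j) ∈ Subgroup.normalizer (Jh V : Set G) := mul_mem gN (mul_mem (mul_mem hpN hqN) hjN)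
        have h2 := norm_conj hN (inv_mem h)
        have h3 : g * (p * q * j) * ((g * (p * q * j))⁻¹ * (p * q * j * g))⁻¹ * (g * (p * q * j))⁻¹ =
            g * (p * q * j) * g⁻¹ * (p * q * j)⁻¹ := by group
        rwa [h3] at h2
      have h4 : g * (p * q * j) * g⁻¹ * (p * q * j)⁻¹ =
          (g * p * g⁻¹ * p⁻¹) * ((p * q) * ((g * j * g⁻¹) * j⁻¹) * (p * q)⁻¹) := by
        have : g * q * g⁻¹ = q := by rw [gc, mul_inv_cancel_right]
        calc g * (p * q * j) * g⁻¹ * (p * q * j)⁻¹ = (g * p * g⁻¹ * p⁻¹) * p * (g * q * g⁻¹) * (g * j * g⁻¹) * (p * q * j)⁻¹ := by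
              group
          _ = (g * p * g⁻¹ * p⁻¹) * p * q * (g * j * g⁻¹) * (p * q * j)⁻¹ := by rw [this]
          _ = _ := by group
      have h5 : (p * q) * ((g * j * g⁻¹) * j⁻¹) * (p * q)⁻¹ ∈ Jh V :=
        norm_conj (mul_mem hpN hqN) (mul_mem (norm_conj gN hj) (inv_mem hj))
      rw [h4] at h1
      have h6 : g * p * g⁻¹ * p⁻¹ ∈ Jh V := (Subgroup.mul_mem_cancel_right _ h5).1 h1
      rw [e] at h6
      have h7 : x 5 a ∈ Jh V := (Subgroup.mul_mem_cancel_right _ hj').1 h6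
      have h8 : x 5 a = 1 := QJ_five env L (a := 0) (by rw [env.hex.x_zero, one_mul]; exact h7)
      have h9 : a = 0 := env.hex.inj 5 a (o5 a) h8
      have h10 : p = 1 := by rw [hp, h9, env.hex.x_zero]
      refine ⟨q, ⟨c, o5 c, rfl⟩, ?_⟩
      rw [h10]
      have : (1 * q * j)⁻¹ * q = j⁻¹ := by group
      rw [this]
      exact inv_mem hj)
    hv hw
  refine ⟨c, (⁅v, w⁆⁻¹ * x 5 c)⁻¹, inv_mem hj, ?_⟩
  rw [mul_inv_rev, inv_inv, mul_inv_cancel_left]

omit env in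
include L in
theorem nn6_Jh {y : G} (hy : y ∈ Jh V) : nn x 6 * y * (nn x 6)⁻¹ ∈ Jh V := by
  refine Jh_conj_of (fun r hr y hy => ?_) hy
  have := L.nV 6 r y hy
  refine V_Jh (r := 2 * 6 + 6 - r) ?_ this
  rcases hr with rfl | rfl | rfl
  · right; right; rfl
  · right; left; rfl
  · left; rfl

include env in
theorem nn_inv (k : ZMod 12) : (nn x k)⁻¹ = nn x k := by
  have h1 := xinv env (ok_one σ k)
  have h2 := xinv env (ok_one σ (k + 6))
  unfold nn
  rw [mul_inv_rev, mul_inv_rev, h1, h2, mul_assoc]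

include env L in
/-- `⁅V₁, V₅⁆ ≤ Ĵ` -/
theorem comm_J {v w : G} (hv : v ∈ V 1) (hw : w ∈ V 5) : ⁅v, w⁆ ∈ Jh V := by
  obtain ⟨c, j, hj, e⟩ := comm_five env L hv hw
  have hv' : nn x 6 * v * (nn x 6)⁻¹ ∈ V 5 := L.nV 6 1 v hv
  have hw' : nn x 6 * w * (nn x 6)⁻¹ ∈ V 1 := L.nV 6 5 w hw
  obtain ⟨c', j', hj', e'⟩ := comm_five env L hw' hv'
  have ni := nn_inv env (k := 6)
  -- pull back
  have e1 : nn x 6 * ⁅w, v⁆ * (nn x 6)⁻¹ = x 5 c' * j' := by
    rw [← e', commutatorElement_def, commutatorElement_def]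
    group
  have e2 : ⁅w, v⁆ = (nn x 6 * x 5 c' * (nn x 6)⁻¹) * (nn x 6 * j' * (nn x 6)⁻¹) := by
    calc ⁅w, v⁆ = (nn x 6)⁻¹ * (nn x 6 * ⁅w, v⁆ * (nn x 6)⁻¹) * nn x 6 := by group
      _ = (nn x 6)⁻¹ * (x 5 c' * j') * nn x 6 := by rw [e1]
      _ = nn x 6 * (x 5 c' * j') * (nn x 6)⁻¹ := by rw [ni]
      _ = _ := by group
  rw [env.hex.refl 6 5 (ok_odd (by decide) _)] at e2
  have e3 : (2 * 6 + 6 - 5 : ZMod 12) = 1 := by decide
  rw [e3] at e2
  have hj2 : nn x 6 * j' * (nn x 6)⁻¹ ∈ Jh V := nn6_Jh L hj'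
  set k := nn x 6 * j' * (nn x 6)⁻¹ with hk
  -- `x₅(c) j = (x₁(c') k)⁻¹`
  have e4 : x 1 c' * k * (x 5 c * j) = 1 := by
    rw [← e, ← e2, ← commutatorElement_inv, inv_mul_cancel]
  have o1 : Ok σ (1 : ZMod 12) c' := ok_odd (by decide) c'
  have o5 : Ok σ (5 : ZMod 12) c := ok_odd (by decide) c
  have hq : x 5 c ∈ Q2 σ x := by rw [Q2_eq]; exact mem_gl (by decide) o5
  have e5 : x 1 c' * x 5 c = ((x 5 c)⁻¹ * k * x 5 c * j)⁻¹ := by
    have e6 : x 1 c' * x 5 c * ((x 5 c)⁻¹ * k * x 5 c * j) = 1 := by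
      rw [← e4]; group
    exact eq_inv_of_mul_eq_one_left e6
  have h6 : x 1 c' * x 5 c ∈ Jh V := by
    rw [e5]
    exact inv_mem (mul_mem (norm_conj' (Q2_norm L hq) hj2) hj)
  rw [e, QJ_five env L h6, one_mul]
  exact hj

include env L in
/-- **[E2]** -/
theorem shortFour : ShortFour V := by
  intro r hr y hy y' hy'
  obtain ⟨k, rfl⟩ : ∃ k : ZMod 12, r = 2 * k + 1 := by
    revert hr; clear hy hy'; revert r; decide
  have a1 : (2 * k + 6 - (2 * k + 1) : ZMod 12) = 5 := by ring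
  have a2 : (2 * k + 6 - (2 * k + 1 + 4) : ZMod 12) = 1 := by ring
  have h1 := L.nV k _ y hy
  have h2 := L.nV k _ y' hy'
  rw [a1] at h1
  rw [a2] at h2
  have h3 := inv_mem (comm_J env L h2 h1)
  rw [commutatorElement_inv] at h3
  have ni := nn_inv env (k := k)
  have e1 : ⁅y, y'⁆ = nn x k * ⁅nn x k * y * (nn x k)⁻¹, nn x k * y' * (nn x k)⁻¹⁆ * (nn x k)⁻¹ := by
    have : ⁅nn x k * y * (nn x k)⁻¹, nn x k * y' * (nn x k)⁻¹⁆ = nn x k * ⁅y, y'⁆ * (nn x k)⁻¹ := by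
      rw [commutatorElement_def, commutatorElement_def]; group
    rw [this]
    have nk : nn x k * nn x k = 1 := by
      rw [← ni]
      nth_rewrite 2 [ni]
      rw [inv_mul_cancel]
    calc ⁅y, y'⁆ = (nn x k * nn x k) * ⁅y, y'⁆ * (nn x k * nn x k) := by rw [nk]; group
      _ = nn x k * (nn x k * ⁅y, y'⁆ * nn x k) * nn x k := by group
      _ = _ := by rw [ni]
  rw [e1]
  refine Jh_conj_of (fun s hs z hz => ?_) h3
  have h4 := L.nV k s z hz
  rcases hs with rfl | rfl | rfl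
  · have : (2 * k + 6 - 2 : ZMod 12) = 2 * k + 1 + 3 := by ring
    rw [this] at h4
    exact (le_sup_right : V (2 * k + 1 + 3) ≤ _) h4
  · have : (2 * k + 6 - 3 : ZMod 12) = 2 * k + 1 + 2 := by ring
    rw [this] at h4
    exact ((le_sup_right : V (2 * k + 1 + 2) ≤ V (2 * k + 1 + 1) ⊔ V (2 * k + 1 + 2)).trans le_sup_left) h4
  · have : (2 * k + 6 - 4 : ZMod 12) = 2 * k + 1 + 1 := by ring
    rw [this] at h4
    exact ((le_sup_left : V (2 * k + 1 + 1) ≤ V (2 * k + 1 + 1) ⊔ V (2 * k + 1 + 2)).trans le_sup_left) h4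

end Main

end Cfsg.Agent.TriTwo.Grow2
end

-- part: TriTwo/GrownTwo
section
/-!
# S1778, type `³D₄(2)`: the growth, from the environment
-/

set_option autoImplicit false

namespace Cfsg.Agent.TriTwo.GrownTwo

open Cfsg.Agent.StdRank2.Hex Cfsg.Agent.SplitTwo

variable {E : Type*} [Field E] {σ : E ≃+* E} {G : Type*} [Group G] [Finite G] {x : ZMod 12 → E → G} {t : G}

end Cfsg.Agent.TriTwo.GrownTwo
end

-- part: TriTwo/EndX
section
/-!
# S1778, type `³D₄(2)`: `Closing.End` in `X`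
-/

set_option autoImplicit false
set_option linter.unusedSectionVars false

namespace Cfsg.Agent.TriTwo.EndX

open Cfsg Subgroup Cfsg.Agent.SignalizersComponents Cfsg.Agent.StdEven.Syl Cfsg.Agent.StdEven.Loc
open Cfsg.Agent.StdEven.CoreQuot Cfsg.Agent.StdL2.Setup Cfsg.Agent.StdRank2.Hex Cfsg.Agent.HexGrow.Defs
open Cfsg.Agent.StdRank2.Hex.HexTwo (AA)
open Cfsg.Agent.WreathFusion Cfsg.Agent.TriTwo.Bridge
open scoped commutatorElement

section Gen

variable {E : Type*} [Field E] {σ : E ≃+* E} {X : Type*} [Group X] {x : ZMod 12 → E → X}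

theorem UU_Xg : UU (Grow3.Xg σ x) 1 = Us σ x := by
  apply le_antisymm
  · apply HexEnd.UU1_le
    intro r hr
    refine gens_le (S := {r}) ?_
    rintro _ rfl a ha
    refine mem_gens ?_ ha
    rcases hr with rfl | rfl | rfl | rfl | rfl | rfl <;> simp only [_root_.Set.mem_insert_iff, _root_.Set.mem_singleton_iff, _root_.true_or, _root_.or_true]
  · refine gens_le fun k hk a ha => HexEnd.le_UU1 (Grow3.Xg σ x) k ?_ (mem_gens (Set.mem_singleton k) ha)
    simpa only [_root_.Set.mem_insert_iff, _root_.Set.mem_singleton_iff] using hk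

variable [Finite X] {t : X} (h : HexTwo σ x) (hc : Nat.card E = 8) (hf : ∀ a, σ a = a → a = 0 ∨ a = 1)
  {H : Subgroup X} {V : ZMod 12 → Subgroup X} (W : Grown t H (Grow3.Xg σ x) (nn x) V)
include h hc hf W

/-- `Closing.End` from the grown group, when `T = U⟨t⟩`. -/
theorem end_of (tt : t * t = 1) (t1 : t ≠ 1) (tA : ∀ a ∈ AA σ x, a * t = t * a) {T : Subgroup X} (tT : t ∈ T)
    (twoT : IsPGroup 2 T)
    (syl : ∀ Q : Subgroup X, IsPGroup 2 Q → (∀ y ∈ Q, y * t = t * y) → T ≤ Q → Q = T)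
    (UT : Us σ x ≤ T) (hT : ∀ y ∈ T, y ∈ Us σ x ∨ t * y ∈ Us σ x) :
    Closing.End t T (Us σ x) (UU V 1) (V 4) (Grow3.Xg σ x 4) := by
  have ti : t⁻¹ = t := inv_eq_of_mul_eq_one_left tt
  have tU : ∀ a ∈ Us σ x, a * t = t * a := fun a ha => tA a (AFacts.Us_AA ha)
  -- the cosets
  have hT' : ∀ y ∈ T, y ∈ Us σ x ∨ ∃ u ∈ Us σ x, y = t * u := by
    intro y hy
    rcases hT y hy with h1 | h1
    · exact Or.inl h1
    · exact Or.inr ⟨t * y, h1, by rw [← mul_assoc, tt, one_mul]⟩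
  have tV : ∀ r, ∀ v ∈ V r, t * v * t⁻¹ ∈ V r := by
    intro r v hv
    have h1 := W.le r (W.br r v hv)
    have h2 : t * v * t⁻¹ = ⁅t, v⁆ * v := by rw [commutatorElement_def]; group
    rw [h2]
    exact mul_mem h1 hv
  have tS : ∀ s ∈ UU V 1, t * s * t⁻¹ ∈ UU V 1 := by
    have h1 : UU V 1 ≤ (UU V 1).comap (MulAut.conj t).toMonoidHom := by
      apply HexEnd.UU1_le
      intro r hr v hv
      exact HexEnd.le_UU1 V r hr (tV r v hv)
    intro s hs
    exact h1 hs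
  have hUS : Us σ x ≤ UU V 1 := by
    rw [← UU_Xg]; exact HexEnd.UU_mono W 1
  have key := HexEnd.end_of_grown (X := Grow3.Xg σ x) h W (fun r g => h.mem_gen_singleton) tt tT twoT
    (fun y hy => by
      rcases hT' y hy with h1 | ⟨u, hu, rfl⟩
      · exact tU y h1
      · rw [mul_assoc, tU u hu, ← mul_assoc]) syl (by rw [UU_Xg]; exact UT) (by
      rw [UU_Xg]
      intro h1
      exact t1 (Bridge.center_AA h hc hf (AFacts.Us_AA h1) fun b hb => (tA b hb).symm)) (by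
      rw [UU_Xg]
      have h4 : ∀ u ∈ Us σ x, (∀ v ∈ Us σ x, u * v = v * u) → u ∈ Grow3.Xg σ x 4 := by
        intro u hu hv
        rcases AFacts.center_Us h hc hf hu hv with h1 | h1
        · rw [h1]; exact one_mem _
        · rw [h1]; exact mem_gens (Set.mem_singleton _) (ok_one σ _)
      intro y hy hyU
      rcases hT y hy with h1 | h1
      · exact Or.inl (h4 y h1 hyU)
      · refine Or.inr (h4 _ h1 fun v hv => ?_)
        calc t * y * v = t * (y * v) := by group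
          _ = (t * v) * y := by rw [hyU v hv]; group
          _ = v * (t * y) := by rw [← tU v hv]; group) (by
      intro y hy s hs
      rcases hT' y hy with h1 | ⟨u, hu, rfl⟩
      · exact mul_mem (mul_mem (hUS h1) hs) (inv_mem (hUS h1))
      · have h2 : t * u * s * (t * u)⁻¹ = t * (u * s * u⁻¹) * t⁻¹ := by group
        rw [h2]
        exact tS _ (mul_mem (mul_mem (hUS hu) hs) (inv_mem (hUS hu)))) (by
      intro y hy s hs
      have h3 : ∀ u ∈ Us σ x, u * s * u⁻¹ = s := by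
        intro u hu
        rw [← HexEnd.V4_comm W hs (hUS hu), mul_inv_cancel_right]
      rcases hT' y hy with h1 | ⟨u, hu, rfl⟩
      · rw [h3 y h1]; exact hs
      · have h2 : t * u * s * (t * u)⁻¹ = t * (u * s * u⁻¹) * t⁻¹ := by group
        rw [h2, h3 u hu]
        exact tV 4 s hs) (by
      rw [UU_Xg]
      exact fun y hy _ => hT y hy) (by
      rw [UU_Xg]
      intro y hy z hz
      have k1 : ∀ a ∈ Us σ x, ∀ b, b * t = t * b → ⁅t * a, b⁆ = t * ⁅a, b⁆ * t⁻¹ := by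
        intro a ha b hb
        have hb' : t⁻¹ * b⁻¹ = b⁻¹ * t⁻¹ := by rw [← mul_inv_rev, hb, mul_inv_rev]
        rw [commutatorElement_def, commutatorElement_def]
        calc t * a * b * (t * a)⁻¹ * b⁻¹ = t * a * b * a⁻¹ * (t⁻¹ * b⁻¹) := by group
          _ = t * (a * b * a⁻¹ * b⁻¹) * t⁻¹ := by rw [hb']; group
      have k2 : ∀ a ∈ Us σ x, ∀ b ∈ Us σ x, ⁅a, b⁆ ∈ Us σ x := by
        intro a ha b hb
        rw [commutatorElement_def]
        exact mul_mem (mul_mem (mul_mem ha hb) (inv_mem ha)) (inv_mem hb)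
      have k3 : ∀ a ∈ Us σ x, t * a * t⁻¹ = a := fun a ha => by rw [← tU a ha, mul_inv_cancel_right]
      have k4 : ∀ b, b * t = t * b → (∀ a ∈ Us σ x, ⁅a, b⁆ ∈ Us σ x) → ∀ y ∈ T, ⁅y, b⁆ ∈ Us σ x := by
        intro b hb hab y hy
        rcases hT' y hy with h1 | ⟨u, hu, rfl⟩
        · exact hab y h1
        · rw [k1 u hu b hb, k3 _ (hab u hu)]
          exact hab u hu
      rcases hT' z hz with h1 | ⟨w, hw, rfl⟩
      · exact k4 z (tU z h1) (fun a ha => k2 a ha z h1) y hy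
      · refine k4 _ (by rw [mul_assoc, tU w hw, ← mul_assoc]) (fun a ha => ?_) y hy
        have h5 : ⁅a, t * w⁆ = ⁅t * w, a⁆⁻¹ := (commutatorElement_inv _ _).symm
        rw [h5, k1 w hw a (tU a ha), k3 _ (k2 w hw a ha)]
        exact inv_mem (k2 w hw a ha))
  rwa [UU_Xg] at key

end Gen

section Hyp

variable {E : Type*} [Field E] {σ : E ≃+* E} {G : Type*} [Group G] {x : ZMod 12 → E → G}
variable [Finite G] {t : G} {T : Subgroup G} (h : HexTwo σ x) (hc : Nat.card E = 8)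
  (hf : ∀ a, σ a = a → a = 0 ∨ a = 1) (H : Hyp (AA σ x) t T) (hTA : T ⊓ AA σ x = Us σ x)
include h hc hf H hTA

/-- `Closing.End` in `X`. -/
theorem endX {H' : Subgroup (XQ (AA σ x) t)} {V : ZMod 12 → Subgroup (XQ (AA σ x) t)}
    (W : Grown H.tX H' (Grow3.Xg σ (xX (AA σ x) t x)) (nn (xX (AA σ x) t x)) V) :
    Closing.End H.tX (im (AA σ x) t T) (Us σ (xX (AA σ x) t x)) (UU V 1) (V 4)
      (Grow3.Xg σ (xX (AA σ x) t x) 4) := by
  obtain ⟨h', hS⟩ := Bridge.exists_hex h hc hf H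
  have hUs : im (AA σ x) t (Us σ x) = Us σ (xX (AA σ x) t x) := hS _
  have B' := Bridge.baseX h hc hf H hTA
  refine end_of h' hc hf W H.tX_sq H.tX_ne B'.comm (pr_mem_im H.isT.mem) H.syl_im.two (fun Q hQ hQc hle => ?_) ?_ ?_
  · exact H.syl_im.max Q hQ (fun y hy => by rw [mem_centralizer_singleton_iff]; exact hQc y hy) hle
  · rw [← hUs]
    apply im_mono
    rw [← hTA]
    exact inf_le_left
  · intro y hy
    obtain ⟨n, hn, rfl⟩ := mem_im.mp hy
    rw [← hUs]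
    rcases Bridge.T_cases h hc hf H hTA hn with h1 | h1
    · exact Or.inl (pr_mem_im h1)
    · right
      rw [H.tX_eq, ← map_mul]
      exact (pr_mem_im (n := ⟨t, H.t_mem⟩ * n) h1 :)

end Hyp

end Cfsg.Agent.TriTwo.EndX
end

-- part: TriTwo/Chain
section
/-!
# S1778, type `³D₄(2)`: from the environment to the grown root groups
-/

set_option autoImplicit false

namespace Cfsg.Agent.TriTwo.Chain

open Cfsg.Agent.TriTwo Cfsg.Agent.StdRank2.Hex Cfsg.Agent.HexEight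

variable {E : Type*} [Field E] {σ : E ≃+* E} {G : Type*} [Group G] [Finite G] {x : ZMod 12 → E → G} {t : G}

/-- The growth of `³D₄(2)`. -/
theorem exists_grown [Finite E] (v : Env σ x t) :
    ∃ V : ZMod 12 → Subgroup G, HexGrow.Defs.Grown t v.hex.H (Grow3.Xg σ x) (nn x) V := by
  obtain ⟨a, h1, h2, h3⟩ := SecOne.exists_a v
  have s := Kappa.seed_of v h1 h2 h3
  obtain ⟨V, L⟩ := Grow1e.exists_lev v s (qone v s)
  exact ⟨V, Grow3.grown v L (Grow2.shortFour v L)⟩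

theorem exists_gr [Finite E] (v : Env σ x t) :
    ∃ V : ZMod 12 → Subgroup G, HexGrow.Defs.Grown t v.hex.H (Grow3.Xg σ x) (nn x) V ∧ Def.Gr σ x t V := by
  obtain ⟨V, hV⟩ := exists_grown v
  refine ⟨V, hV, Def.gr_of_grown v.hex v.tt v.tx (fun k g => ?_) (fun s hs => v.hex.hh1_mem_H hs)
    (fun s hs hs' => v.hex.hh6_mem_H hs hs') hV⟩
  exact v.hex.mem_gen_singleton

end Cfsg.Agent.TriTwo.Chain
end

-- part: TriTwo/CoreTwo
section
/-!
# S1778, type `³D₄(2)`: the core statement, from S1770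
-/

set_option autoImplicit false

namespace Cfsg.Agent.TriTwo.CoreTwo

open Cfsg Subgroup Cfsg.Agent.SignalizersComponents Cfsg.Agent.StdEven.Syl Cfsg.Agent.StdEven.Loc
open Cfsg.Agent.StdEven.CoreQuot Cfsg.Agent.StdL2.Setup Cfsg.Agent.StdRank2.Hex Cfsg.Agent.HexGrow.Defs
open Cfsg.Agent.StdRank2.Hex.HexTwo (AA)
open Cfsg.Agent.StdEven.Red Cfsg.Agent.TriTwo.Bridge Cfsg.Agent.TriTwo.Rec
open Cfsg.Agent.HexEight.ToPos

universe u

/-- The field with 64 elements. -/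
theorem exists_field : ∃ (K : Type) (_ : Field K) (_ : Fintype K) (_ : CharP K 2), Fintype.card K = 64 := by
  have : Fact (Nat.Prime 2) := ⟨Nat.prime_two⟩
  have : Fintype (GaloisField 2 6) := Fintype.ofFinite _
  refine ⟨GaloisField 2 6, inferInstance, this, inferInstance, ?_⟩
  rw [← Nat.card_eq_fintype_card, GaloisField.card 2 6 (by norm_num)]
  norm_num

theorem isLie_of {L : Type*} [Group L] {K : Type} [Field K] [Fintype K] [CharP K 2] (hK : Fintype.card K = 64)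
    (e : L ≃* ↥(Cfsg.Lie.twistedD4 K (2 ^ 2))) : IsLieTypeChar 2 L := by
  right; right; right; right; right; right; right; left
  refine ⟨K, inferInstance, inferInstance, inferInstance, 2 ^ 2, ?_, Or.inr ⟨?_, ⟨e⟩⟩⟩
  · exact (Nat.prime_two.isPrimePow).pow (by norm_num)
  · rw [hK]; norm_num

theorem fix_of_card {K : Type*} [Field K] {σ : K ≃+* K} (h : Nat.card {c : K // σ c = c} = 2) (a : K) (ha : σ a = a) :
    a = 0 ∨ a = 1 := by
  by_contra hcon
  push Not at hcon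
  have hfin : Finite {c : K // σ c = c} := Nat.finite_of_card_ne_zero (by rw [h]; norm_num)
  let f : Fin 3 → {c : K // σ c = c} := ![⟨0, map_zero σ⟩, ⟨1, map_one σ⟩, ⟨a, ha⟩]
  have hf : Function.Injective f := by
    intro i j hij
    have h01 : (0 : K) ≠ 1 := zero_ne_one
    fin_cases i <;> fin_cases j <;> simp_all only [f, Subtype.ext_iff, _root_.ne_eq, _root_.zero_ne_one, _root_.not_false_eq_true, _root_.Fin.zero_eta, _root_.Fin.isValue, _root_.Matrix.cons_val_zero, _root_.Fin.mk_one, _root_.Matrix.cons_val_one, _root_.Fin.reduceFinMk, _root_.Matrix.cons_val, _root_.Fin.reduceEq, _root_.not_true_eq_false, _root_.false_and, _root_.one_ne_zero, _root_.and_false]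
  have h1 := Nat.card_le_card_of_injective f hf
  rw [h, Nat.card_eq_fintype_card, Fintype.card_fin] at h1
  omega

variable {E : Type*} [Field E] {σ : E ≃+* E} {X : Type*} [Group X] [Finite X] {x : ZMod 12 → E → X} {t : X}
  {V : ZMod 12 → Subgroup X}

/-- **Split or field** for `³D₄(2)`. -/
theorem split_or [Finite E] (g : HexEight.Def.Gr σ x t V) (hc : Nat.card E = 8)
    (hf : ∀ a, σ a = a → a = 0 ∨ a = 1) (hσ : ∀ a, σ a = a ^ 2) :
    (∃ S₁ S₂ D₁ D₂ : Subgroup X, WreathFusion.PData (UU V 1) S₁ S₂ D₁ D₂) ∨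
      ∀ (K : Type) [Field K] [Fintype K], Fintype.card K = 64 → ∀ P : Sylow 2 ↥(Cfsg.Lie.twistedD4 K (2 ^ 2)),
        Nonempty (UU V 1 ≃* (P : Subgroup ↥(Cfsg.Lie.twistedD4 K (2 ^ 2)))) := by
  have hφ := pair σ g.hex.two g.hex.cube
  have g' : HexEight.Def.Gr ((phi σ : E ≃ₐ[FF σ] E) : E ≃+* E) x t V := by rw [coe_phi]; exact g
  obtain ⟨s, hs0, hs1⟩ := PF.exists_unit g.hex hc
  have hne : ∃ a, phi σ a ≠ a := ⟨s, fun h => by
    rcases hf s h with h1 | h1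
    · exact hs0 h1
    · exact hs1 h1⟩
  rcases HexEight.Main.split_or_qr hφ (Or.inr hne) g' with ⟨y1, y2, hsp⟩ | ⟨z, L, β, c, hQ, hno⟩
  · left
    have h2 : Nat.card {a : E // ((phi σ : E ≃ₐ[FF σ] E) : E ≃+* E) a = a} = 2 := by
      rw [coe_phi]
      exact PF.card_fix g.hex hf
    exact ⟨_, _, _, _, HexEight.Glue.pdata g' hsp (Or.inr ⟨h2, by rw [hc]; norm_num⟩)⟩
  · right
    intro K _ _ hK P
    exact HexRing.FieldFin.field_d4 hQ hno (q := 2) (by rw [hc]; norm_num) hσ K (by rw [hK]; norm_num) P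

/-- **The core statement for `³D₄(2)`**, from S1770. -/
theorem core (h1770 : Rec1770.{u}) :
    Core.{u} (fun Q _ => ∃ (K : Type) (_ : Field K) (_ : Fintype K), Fintype.card K = 8 ∧
      Nonempty (Q ≃* ↥(Cfsg.Lie.twistedD4 K 2))) := by
  intro G _ _ L A t C hZ hyp
  obtain ⟨K, iF, iFt, hK, ⟨e⟩⟩ := hyp
  have hp : commutator ↥A = ⊤ := C.std.1.1.commutator_eq_top
  obtain ⟨σ, x, hσ, h3, hne, hfix, hx, hA⟩ := HexModel.Main.of_D4 A (a := 1) le_rfl (by rw [hK]; norm_num) hZ hp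
    (by rw [pow_one]; exact e)
  have hc : Nat.card K = 8 := by rw [Nat.card_eq_fintype_card, hK]
  have hf : ∀ a, σ a = a → a = 0 ∨ a = 1 := fix_of_card (by rw [hfix]; norm_num)
  obtain ⟨T, H, hTA, -, g, -, -, hgt, hgz⟩ := exists_hyp C hZ hx hA.symm hc hf
    (rec_card h1770 C hx hA.symm hc hf hK e)
  subst hA
  have v := env hx hc hf H hTA hgt hgz
  obtain ⟨V, W, gr⟩ := Chain.exists_gr v
  obtain ⟨-, hS⟩ := exists_hex hx hc hf H
  have hAA : im (AA σ x) t (AA σ x) = AA σ (xX (AA σ x) t x) := hS Set.univ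
  obtain ⟨s, hs0, hs1⟩ := PF.exists_unit v.hex hc
  -- the image of `L` is normal
  have hLn := C.normal
  have hN : (im (AA σ x) t L).Normal := by
    constructor
    intro n hn y
    obtain ⟨l, hl, rfl⟩ := mem_im.mp hn
    obtain ⟨m, rfl⟩ := pr_surjective (AA σ x) t y
    rw [← map_inv, ← map_mul, ← map_mul]
    exact pr_mem_im (hLn.conj_mem _ hl _)
  have hSL : UU V 1 ≤ im (AA σ x) t L := InL.UU_le v.hex ⟨s, hs0, hs1⟩ v.tx W
    (fun r y => v.hex.mem_gen_singleton) hN (by rw [← hAA]; exact im_mono C.le) 1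
  obtain ⟨S, hSy, htL, hSN, hSi, ⟨f⟩, -⟩ := StdEven.EndLift.main C H (EndX.endX hx hc hf H hTA W) hSL
  refine ⟨Or.inl ?_, htL⟩
  rcases split_or gr hc hf (fun a => by rw [hσ, pow_one]) with ⟨S₁, S₂, D₁, D₂, hd⟩ | hfield
  · exfalso
    exact WreathFusion.false_of_im C H hSy hSN (by rw [hSi]; exact hd)
  · obtain ⟨K', i1, i2, i3, hK'⟩ := exists_field
    have : Fact (Nat.Prime 2) := ⟨Nat.prime_two⟩
    have hfin : Finite ↥(Cfsg.Lie.twistedD4 K' (2 ^ 2)) := inferInstance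
    obtain ⟨P⟩ : Nonempty (Sylow 2 ↥(Cfsg.Lie.twistedD4 K' (2 ^ 2))) := inferInstance
    obtain ⟨k⟩ := hfield K' hK' P
    have hsimple := C.simple
    have e1 : ↥((hSy.toSylow : Sylow 2 ↥L) : Subgroup ↥L) ≃* ↥S := subgroupOfEquivOfLe hSy.le
    obtain ⟨m⟩ := h1770 ↥L hSy.toSylow 2 K' (by norm_num) (by rw [hK']; norm_num) P ⟨(e1.trans f).trans k⟩
    exact isLie_of hK' m

end Cfsg.Agent.TriTwo.CoreTwo
end
end
end
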